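import Cfsg.Agent.Lib.SpecG2Two.Model
import Mathlib.GroupTheory.Sylow
import Mathlib.GroupTheory.Nilpotent

/-!
Automorphisms of the regular subgroup: a Sylow 2-subgroup of their group is the stabilizer of two
points of the model.
-/

set_option autoImplicit false
set_option linter.unusedSectionVars false
set_option maxRecDepth 100000

namespace Cfsg.Agent.Lib.SpecG2Two.Table

/-- The endomorphism with given images of `1` and `3`. -/
def extend (a b c : ℕ) : ℕ := ((hwords.getD c []).map fun g => if g = 1 then a else b).foldr hm 0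

theorem normOK : ((List.range' 1 26).all fun a => (List.range 27).all fun b =>
    !((List.range 16).any (fun k => [1, 3].all fun x =>
        extend a b (dig (kCode 3) x) == dig (kCode k) (extend a b x)) &&
      (List.range 16).any (fun k => [1, 3].all fun x =>
        extend a b (dig (kCode 1) x) == dig (kCode k) (extend a b x))) ||
    (List.range 16).any fun k => dig (kCode k) 1 == a && dig (kCode k) 3 == b) = true := by
  decide +kernel

end Cfsg.Agent.Lib.SpecG2Two.Table

namespace Cfsg.Agent.Lib.SpecG2Two.Model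

open Cfsg.Agent.Lib.SpecG2Two.Table

/-- Fixes both points and normalises the translations. -/
def IsAut (p : Equiv.Perm (Fin 28)) : Prop :=
  p 0 = 0 ∧ p 27 = 27 ∧ ∀ c : Fin 28, (c : ℕ) < 27 → p * R c = R (p c) * p

theorem IsAut.lt {p : Equiv.Perm (Fin 28)} (hp : IsAut p) {c : Fin 28} (hc : (c : ℕ) < 27) :
    (p c : ℕ) < 27 := by
  have h : p c ≠ 27 := fun e => by
    have h2 : (c : ℕ) = 27 := congrArg Fin.val (p.injective (e.trans hp.2.1.symm))
    omega
  rw [Ne, Fin.ext_iff] at h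
  simp at h
  omega

theorem IsAut.mul {p q : Equiv.Perm (Fin 28)} (hp : IsAut p) (hq : IsAut q) : IsAut (p * q) := by
  refine ⟨by rw [Equiv.Perm.mul_apply, hq.1, hp.1], by rw [Equiv.Perm.mul_apply, hq.2.1, hp.2.1],
    fun c hc => ?_⟩
  rw [mul_assoc, hq.2.2 c hc, ← mul_assoc, hp.2.2 _ (hq.lt hc), mul_assoc]
  rfl

/-- The group of these permutations. -/
def AutR : Subgroup (Equiv.Perm (Fin 28)) where
  carrier := {p | IsAut p}
  one_mem' := ⟨rfl, rfl, fun c _ => by rw [one_mul, mul_one]; rfl⟩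
  mul_mem' := fun hp hq => IsAut.mul hp hq
  inv_mem' := fun {p} hp => by
    have h0 : p⁻¹ 0 = 0 := by rw [Equiv.Perm.inv_eq_iff_eq, hp.1]
    have h27 : p⁻¹ 27 = 27 := by rw [Equiv.Perm.inv_eq_iff_eq, hp.2.1]
    refine ⟨h0, h27, fun c hc => ?_⟩
    have hlt : (p⁻¹ c : ℕ) < 27 := by
      have h : p⁻¹ c ≠ 27 := fun e => by
        rw [Equiv.Perm.inv_eq_iff_eq, hp.2.1] at e
        rw [e] at hc
        simp at hc
      rw [Ne, Fin.ext_iff] at h
      simp at h ⊢
      omega
    have h := hp.2.2 (p⁻¹ c) hlt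
    rw [show p (p⁻¹ c) = c from p.apply_symm_apply c] at h
    calc p⁻¹ * R c = p⁻¹ * (R c * p) * p⁻¹ := by group
      _ = R (p⁻¹ c) * p⁻¹ := by rw [← h]; group

theorem mem_AutR {p : Equiv.Perm (Fin 28)} : p ∈ AutR ↔ IsAut p := Iff.rfl

/-- The stabilizer of two points in the model. -/
def KS : Subgroup (Equiv.Perm (Fin 28)) := Subgroup.closure {K 3, K 1}

theorem K_isAut {k : ℕ} (hk : k < 16) : IsAut (K k) :=
  ⟨(K_fix hk).1, (K_fix hk).2, fun c hc => by
    obtain ⟨-, h⟩ := K_R hk hc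
    rw [h, K_apply hk]⟩

theorem KS_le : KS ≤ AutR := by
  refine (Subgroup.closure_le AutR).mpr ?_
  rintro p (rfl | rfl)
  exacts [K_isAut (by decide), K_isAut (by decide)]

theorem K_mem_KS {k : ℕ} (hk : k < 16) : K k ∈ KS :=
  K_mem (Subgroup.subset_closure (Or.inl rfl)) (Subgroup.subset_closure (Or.inr rfl)) hk

theorem KS_eq {p : Equiv.Perm (Fin 28)} (hp : p ∈ KS) : ∃ k < 16, p = K k := by
  refine Subgroup.closure_induction ?_ ?_ ?_ ?_ hp
  · rintro x (rfl | rfl)
    exacts [⟨3, by decide, rfl⟩, ⟨1, by decide, rfl⟩]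
  · exact ⟨0, by decide, K_zero.symm⟩
  · rintro x y - - ⟨a, ha, rfl⟩ ⟨b, hb, rfl⟩
    exact ⟨mulK a b, (kmul ha hb).1, K_mul ha hb⟩
  · rintro x - ⟨a, ha, rfl⟩
    refine ⟨invK a, (kfacts ha).1, inv_eq_of_mul_eq_one_left ?_⟩
    rw [K_mul (kfacts ha).1 ha, (kfacts ha).2.1, K_zero]

theorem card_KS : Nat.card KS = 16 := by
  have h : Function.Bijective fun k : Fin 16 => (⟨K k, K_mem_KS k.2⟩ : KS) :=
    ⟨fun a b e => Fin.ext (K_injective a.2 b.2 (congrArg Subtype.val e)), fun ⟨p, hp⟩ => by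
      obtain ⟨k, hk, rfl⟩ := KS_eq hp
      exact ⟨⟨k, hk⟩, rfl⟩⟩
  rw [← Nat.card_congr (Equiv.ofBijective _ h), Nat.card_fin]

/-- An automorphism is determined by the images of `1` and `3`. -/
theorem IsAut.eval {p : Equiv.Perm (Fin 28)} (hp : IsAut p) (c : Fin 28) (hc : (c : ℕ) < 27) :
    (p c : ℕ) = extend (p 1) (p 3) c := by
  have h := all_range hwordsOK hc
  simp only [Bool.and_eq_true, beq_iff_eq, List.all_eq_true, Bool.or_eq_true] at h
  have key : ∀ l : List ℕ, (∀ g ∈ l, g = 1 ∨ g = 3) → ∀ d : Fin 28, (d : ℕ) = l.foldr hm 0 →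
      (d : ℕ) < 27 ∧ (p d : ℕ) = (l.map fun g => if g = 1 then (p 1 : ℕ) else p 3).foldr hm 0 := by
    intro l
    induction l with
    | nil =>
      intro _ d hd
      rw [List.foldr_nil] at hd
      obtain rfl : d = 0 := Fin.ext hd
      rw [hp.1]
      exact ⟨by decide, rfl⟩
    | cons g l ih =>
      intro hl d hd
      rw [List.foldr_cons] at hd
      have hlt : l.foldr hm 0 < 27 := by
        clear ih hd
        induction l with
        | nil => exact Nat.succ_pos 26
        | cons a l ih =>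
          have ha : a < 27 := by rcases hl a (by simp) with rfl | rfl <;> decide
          exact hm_lt ha (ih fun x hx => hl x (by
            rcases List.mem_cons.mp hx with e | e
            · exact e ▸ List.mem_cons_self
            · exact List.mem_cons_of_mem _ (List.mem_cons_of_mem _ e)))
      obtain ⟨-, he⟩ := ih (fun x hx => hl x (List.mem_cons_of_mem g hx)) ⟨l.foldr hm 0, by omega⟩ rfl
      set e : Fin 28 := ⟨l.foldr hm 0, by omega⟩
      obtain ⟨g', hg', hg1⟩ : ∃ g' : Fin 28, (g' : ℕ) = g ∧ (g' = 1 ∨ g' = 3) := by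
        rcases hl g List.mem_cons_self with rfl | rfl
        exacts [⟨1, rfl, Or.inl rfl⟩, ⟨3, rfl, Or.inr rfl⟩]
      have hg27 : (g' : ℕ) < 27 := by rcases hg1 with rfl | rfl <;> decide
      have hRe : R g' e = d := Fin.ext (by
        rw [R_apply hg27, hd, hg']
        show mapR g (l.foldr hm 0) = _
        rw [mapR, if_neg (by omega)])
      have h2 := congrArg (fun q : Equiv.Perm (Fin 28) => (q e : ℕ)) (hp.2.2 g' hg27)
      simp only [Equiv.Perm.mul_apply, hRe] at h2
      refine ⟨by rw [hd, ← hg']; exact hm_lt hg27 hlt, ?_⟩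
      rw [h2, R_apply (hp.lt hg27), mapR, if_neg (by have := hp.lt (c := e) hlt; omega), List.map_cons,
        List.foldr_cons, ← he]
      congr 1
      rcases hg1 with rfl | rfl
      · rw [if_pos (by rw [← hg']; rfl)]
      · rw [if_neg (by rw [← hg']; decide)]
  exact (key _ h.1 c h.2.symm).2

theorem IsAut.ext13 {p q : Equiv.Perm (Fin 28)} (hp : IsAut p) (hq : IsAut q) (h1 : p 1 = q 1)
    (h3 : p 3 = q 3) : p = q := by
  refine Equiv.ext fun c => ?_
  by_cases hc : (c : ℕ) < 27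
  · exact Fin.ext (by rw [hp.eval c hc, hq.eval c hc, h1, h3])
  · obtain rfl : c = 27 := Fin.ext (by have := c.2; show (c : ℕ) = 27; omega)
    rw [hp.2.1, hq.2.1]

/-- The stabilizer is its own normaliser among the automorphisms. -/
theorem normalizer_KS {h : Equiv.Perm (Fin 28)} (hh : IsAut h) {a b : ℕ} (ha : a < 16) (hb : b < 16)
    (e3 : h * K 3 = K a * h) (e1 : h * K 1 = K b * h) : h ∈ KS := by
  have hlt1 := hh.lt (c := 1) (by decide)
  have hlt3 := hh.lt (c := 3) (by decide)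
  have h10 : 1 ≤ (h 1 : ℕ) := by
    by_contra hcon
    have : h 1 = h 0 := hh.1.symm ▸ Fin.ext (show (h 1 : ℕ) = 0 by omega)
    exact absurd (h.injective this) (by decide)
  have hrel : ∀ {k l : ℕ}, k < 16 → l < 16 → h * K k = K l * h → ∀ x : Fin 28, (x : ℕ) < 27 →
      extend (h 1) (h 3) (dig (kCode k) x) = dig (kCode l) (extend (h 1) (h 3) x) := by
    intro k l hk hl e x hx
    have h2 := congrArg (fun q : Equiv.Perm (Fin 28) => (q x : ℕ)) e
    simp only [Equiv.Perm.mul_apply, K_apply hl] at h2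
    rwa [hh.eval _ ((K_isAut hk).lt hx), K_apply hk, hh.eval x hx] at h2
  have h := all_range (all_range' normOK h10 (by omega)) hlt3
  simp only [Bool.or_eq_true, Bool.not_eq_true', Bool.and_eq_false_iff] at h
  rcases h with (h | h) | h
  · exfalso
    rw [← Bool.not_eq_true] at h
    refine h (List.any_eq_true.mpr ⟨a, List.mem_range.mpr ha, List.all_eq_true.mpr fun x hx => ?_⟩)
    simp only [List.mem_cons, List.not_mem_nil, or_false] at hx
    rcases hx with rfl | rfl
    · exact beq_iff_eq.mpr (hrel (by decide) ha e3 1 (by decide))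
    · exact beq_iff_eq.mpr (hrel (by decide) ha e3 3 (by decide))
  · exfalso
    rw [← Bool.not_eq_true] at h
    refine h (List.any_eq_true.mpr ⟨b, List.mem_range.mpr hb, List.all_eq_true.mpr fun x hx => ?_⟩)
    simp only [List.mem_cons, List.not_mem_nil, or_false] at hx
    rcases hx with rfl | rfl
    · exact beq_iff_eq.mpr (hrel (by decide) hb e1 1 (by decide))
    · exact beq_iff_eq.mpr (hrel (by decide) hb e1 3 (by decide))
  · simp only [List.any_eq_true, List.mem_range, Bool.and_eq_true, beq_iff_eq] at h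
    obtain ⟨k, hk, hk1, hk3⟩ := h
    rw [hh.ext13 (K_isAut hk) (Fin.ext ((K_apply hk 1).trans hk1).symm)
      (Fin.ext ((K_apply hk 3).trans hk3).symm)]
    exact K_mem_KS hk

/-- A group of sixteen automorphisms is conjugate to the stabilizer in the model. -/
theorem exists_conj_KS {A : Subgroup (Equiv.Perm (Fin 28))} (hA : A ≤ AutR) (h16 : Nat.card A = 16) :
    ∃ c ∈ AutR, A.map (MulAut.conj c).toMonoidHom = KS := by
  haveI : Fact (Nat.Prime 2) := ⟨Nat.prime_two⟩
  set K0 : Subgroup AutR := KS.subgroupOf AutR with hK0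
  have hc0 : Nat.card K0 = 16 := by
    rw [Nat.card_congr (Subgroup.subgroupOfEquivOfLe KS_le).toEquiv, card_KS]
  have hK0p : IsPGroup 2 K0 := IsPGroup.of_card (n := 4) (by rw [hc0]; norm_num)
  obtain ⟨S, hS⟩ := hK0p.exists_le_sylow
  have hSK : (S : Subgroup AutR) = K0 := by
    by_contra hne
    haveI : Group.IsNilpotent (S : Subgroup AutR) := S.2.isNilpotent
    set K1 : Subgroup (S : Subgroup AutR) := K0.subgroupOf (S : Subgroup AutR)
    have hlt : K1 < Subgroup.normalizer (K1 : Set (S : Subgroup AutR)) := by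
      refine Group.normalizerCondition_of_isNilpotent K1 (lt_top_iff_ne_top.mpr fun htop => hne ?_)
      exact le_antisymm (Subgroup.subgroupOf_eq_top.mp htop) hS
    obtain ⟨⟨⟨h, hh⟩, hhS⟩, hn, hnK⟩ := SetLike.exists_of_lt hlt
    refine hnK (Subgroup.mem_subgroupOf.mpr (Subgroup.mem_subgroupOf.mpr ?_))
    have hconj : ∀ k < 16, ∃ l < 16, h * K k = K l * h := by
      intro k hk
      have hk' : (⟨⟨K k, mem_AutR.mpr (K_isAut hk)⟩,
          hS (Subgroup.mem_subgroupOf.mpr (K_mem_KS hk))⟩ : (S : Subgroup AutR)) ∈ K1 :=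
        Subgroup.mem_subgroupOf.mpr (Subgroup.mem_subgroupOf.mpr (K_mem_KS hk))
      have h2 : h * K k * h⁻¹ ∈ KS :=
        Subgroup.mem_subgroupOf.mp (Subgroup.mem_subgroupOf.mp ((Subgroup.mem_normalizer_iff.mp hn _).mp hk'))
      obtain ⟨l, hl, e⟩ := KS_eq h2
      exact ⟨l, hl, by rw [← e, inv_mul_cancel_right]⟩
    obtain ⟨a, ha, ea⟩ := hconj 3 (by decide)
    obtain ⟨b, hb, eb⟩ := hconj 1 (by decide)
    exact normalizer_KS hh ha hb ea eb
  set A0 : Subgroup AutR := A.subgroupOf AutR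
  have hcA : Nat.card A0 = 16 := by rw [Nat.card_congr (Subgroup.subgroupOfEquivOfLe hA).toEquiv, h16]
  obtain ⟨S', hS'⟩ := (IsPGroup.of_card (n := 4) (by rw [hcA]; norm_num) : IsPGroup 2 A0).exists_le_sylow
  obtain ⟨⟨c, hc⟩, e⟩ := MulAction.exists_smul_eq AutR S' S
  refine ⟨c, hc, Subgroup.eq_of_le_of_card_ge ?_ ?_⟩
  · rintro _ ⟨p, hp, rfl⟩
    have h1 : (⟨p, hA hp⟩ : AutR) ∈ (S' : Subgroup AutR) := hS' (Subgroup.mem_subgroupOf.mpr hp)
    have h2 : MulAut.conj (⟨c, hc⟩ : AutR) ⟨p, hA hp⟩ ∈ ((⟨c, hc⟩ : AutR) • S' : Sylow 2 AutR) :=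
      Subgroup.smul_mem_pointwise_smul _ _ _ h1
    rw [e] at h2
    change MulAut.conj (⟨c, hc⟩ : AutR) ⟨p, hA hp⟩ ∈ (S : Subgroup AutR) at h2
    rw [hSK] at h2
    exact Subgroup.mem_subgroupOf.mp h2
  · rw [card_KS, ← Nat.card_congr (Subgroup.equivMapOfInjective A _ (MulAut.conj c).injective).toEquiv, h16]

end Cfsg.Agent.Lib.SpecG2Two.Model
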