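import Cfsg.Agent.Lib.SpecG2Two.Common

/-!
The principal block at seven of a simple group of order 6048 without elements of order 9, 14 or 21:
degrees 1, 6, 27, 32, 32, involution values -2 and 3, and at most 96 for centralizers of involutions.
-/

set_option autoImplicit false
set_option linter.unusedSectionVars false
set_option linter.style.haveILetI false

namespace Cfsg.Agent.Lib.SpecG2Two

open scoped ComplexConjugate
open Finset Subgroup Cfsg Cfsg.Agent.Lib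
open Cfsg.Agent.Lib.DefectOne Cfsg.Agent.Lib.BrauerReynolds Cfsg.Agent.Lib.BrauerTuan
open Cfsg.Agent.Lib.SmallGroups.PrimeChar (xp xp_one)

universe u

variable {G : Type u} [Group G] [Fintype G]

/-- The signed degree. -/
def sgn (f : ℕ) : ℤ := if f % 7 = 1 then 1 else -1

theorem mem_degA : ∀ f ∈ List.range 78, f ∣ 864 → 1 < f → (f % 7 = 1 ∨ f % 7 = 6) →
    f ∈ [6, 8, 27, 36, 48] := by decide +kernel

theorem mem_degB : ∀ g ∈ List.range 78, g ∣ 864 → (g % 7 = 3 ∨ g % 7 = 4) →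
    g ∈ [3, 4, 18, 24, 32] := by decide +kernel

theorem table : ∀ f ∈ [6, 8, 27, 36, 48], ∀ f' ∈ [6, 8, 27, 36, 48], ∀ g ∈ [3, 4, 18, 24, 32],
    ∀ e ∈ [(1 : ℤ), -1], e * (g : ℕ) = 1 + sgn f * (f : ℕ) + sgn f' * (f' : ℕ) →
    1 + f * f + f' * f' + 2 * (g * g) ≤ 6048 → f ≤ f' →
    (f, f', g, e) ∈ [(6, 8, 3, (1 : ℤ)), (6, 27, 32, -1), (8, 27, 18, -1)] := by
  decide +kernel

theorem not_comm_6048 [IsSimpleGroup G] (h : Nat.card G = 6048) : ¬ IsMulCommutative G :=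
  SmallGroups.not_isMulCommutative_of_not_prime (by rw [h]; norm_num)

/-- The block data. -/
structure Seven (x : G) (χ₁ χ₂ θ₁ θ₂ : IrrCharacter G) (f₁ f₂ g : ℕ) (ε : ℤ) : Prop where
  order_x : orderOf x = 7
  deg₁ : degOf χ₁ = f₁
  deg₂ : degOf χ₂ = f₂
  deg₃ : degOf θ₁ = g
  deg₄ : degOf θ₂ = g
  ne₁ : χ₁ ≠ Chars.trivialIrr G
  ne₂ : χ₂ ≠ Chars.trivialIrr G
  ne₃ : θ₁ ≠ Chars.trivialIrr G
  ne₄ : θ₂ ≠ Chars.trivialIrr G
  ne₁₂ : χ₁ ≠ χ₂
  ne₁₃ : χ₁ ≠ θ₁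
  ne₁₄ : χ₁ ≠ θ₂
  ne₂₃ : χ₂ ≠ θ₁
  ne₂₄ : χ₂ ≠ θ₂
  ne₃₄ : θ₁ ≠ θ₂
  val₁ : (χ₁ : G → ℂ) x = (sgn f₁ : ℂ)
  val₂ : (χ₂ : G → ℂ) x = (sgn f₂ : ℂ)
  sumθ : (θ₁ : G → ℂ) x + (θ₂ : G → ℂ) x = -(ε : ℂ)
  rest : ∀ χ : IrrCharacter G, χ ≠ Chars.trivialIrr G → χ ≠ χ₁ → χ ≠ χ₂ → χ ≠ θ₁ → χ ≠ θ₂ →
    ∀ j : ZMod 7, j ≠ 0 → (χ : G → ℂ) (xp 7 x j) = 0
  rel₁ : ∀ h : G, ¬ 7 ∣ orderOf h → (ε : ℂ) * (θ₁ : G → ℂ) h =
    1 + (sgn f₁ : ℂ) * (χ₁ : G → ℂ) h + (sgn f₂ : ℂ) * (χ₂ : G → ℂ) h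
  rel₂ : ∀ h : G, ¬ 7 ∣ orderOf h → (θ₂ : G → ℂ) h = (θ₁ : G → ℂ) h
  regular : ∀ h : G, 7 ∣ orderOf h → orderOf h = 7

theorem exists_seven [IsSimpleGroup G] (hS : Spec G) (h : Nat.card G = 6048) :
    ∃ (x : G) (χ₁ χ₂ θ₁ θ₂ : IrrCharacter G) (f₁ f₂ g : ℕ) (ε : ℤ),
      Seven x χ₁ χ₂ θ₁ θ₂ f₁ f₂ g ε ∧
      (f₁, f₂, g, ε) ∈ [(6, 8, 3, (1 : ℤ)), (6, 27, 32, -1), (8, 27, 18, -1)] := by
  classical
  haveI : Fact (Nat.Prime 7) := ⟨by norm_num⟩
  have hG := not_comm_6048 h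
  have hR := reduced_of_simple hG (p := 7) (by rw [h]; norm_num)
  obtain ⟨P⟩ := (inferInstance : Nonempty (Sylow 7 G))
  have hP : Nat.card (P : Subgroup G) = 7 := by
    rw [Sylow.card_eq_multiplicity, h, show (6048 : ℕ) = 7 ^ 1 * 864 by norm_num,
      Nat.factorization_mul (by norm_num) (by norm_num), (by norm_num : Nat.Prime 7).factorization_pow]
    simp [Nat.factorization_eq_zero_of_not_dvd (n := 864) (p := 7) (by norm_num)]
  obtain ⟨n, hn⟩ : ∃ n, Nat.card (Sylow 7 G) = 1 + n * 7 := by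
    have h1 : Nat.card (Sylow 7 G) % 7 = 1 := card_sylow_modEq_one (p := 7) (G := G)
    exact ⟨Nat.card (Sylow 7 G) / 7, by omega⟩
  obtain ⟨D, hDn, -⟩ := exists_setting hR P hP n hn
  have hC := card_centralizer_seven hS (by rw [h]; norm_num) D.S.order_x
  have hV : D.S.V = ⊥ := by
    have h1 := card_centralizer_x D.S
    rw [hC] at h1
    exact Subgroup.card_eq_one.mp (by omega)
  obtain ⟨K⟩ := exists_frame D hV
  have hcard := D.card_group
  rw [h, hV, Subgroup.card_bot, hDn] at hcard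
  have he : D.e = 3 := by
    have h1 := D.het
    have h2 := D.two_le_e
    have h3 : D.t ≤ 3 := by
      by_contra h4
      have := Nat.mul_le_mul h2 (Nat.succ_le_of_lt (not_le.mp h4))
      omega
    have h4 := D.t_pos
    interval_cases D.t <;> simp only [Nat.add_one_sub_one, mul_one] at h1 <;> rcases (show D.e = 6 ∨ D.e = 3 ∨ D.e = 2 by omega) with e | e | e <;> rw [e] at hcard h1 <;> omega
  have ht : D.t = 2 := by have := D.het; rw [he] at this; omega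
  obtain ⟨h1A, hδ1⟩ := D.trivial_mem_A (by omega)
  set one := Chars.trivialIrr G with hone
  obtain ⟨a, b, hab, hAe⟩ := card_eq_two.mp (show (D.A.erase one).card = 2 by
    rw [card_erase_of_mem h1A, D.cardA, he])
  obtain ⟨θ₁, θ₂, hθne, hB⟩ := card_eq_two.mp (D.cardB.trans ht)
  have hθ₁ : θ₁ ∈ D.B := hB ▸ mem_insert_self _ _
  have hθ₂ : θ₂ ∈ D.B := hB ▸ mem_insert_of_mem (mem_singleton_self _)
  have hdvd : D.e * (1 + D.n * 7) = 864 := by rw [he, hDn]; rw [he] at hcard; omega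
  have hlt : ∀ χ : IrrCharacter G, χ ≠ one → degOf χ < 78 := by
    intro χ hne
    have hsq := sq_degOf_lt hne
    rw [h] at hsq
    by_contra hcon
    have := Nat.mul_le_mul (not_lt.mp hcon) (not_lt.mp hcon)
    omega
  have hθne1 : ∀ θ ∈ D.B, θ ≠ one := fun θ hθ hh => disjoint_left.mp D.disj h1A (hh ▸ hθ)
  have hA : ∀ χ ∈ D.A.erase one, χ ≠ one ∧ χ ∈ D.A ∧ degOf χ ∈ [6, 8, 27, 36, 48] ∧
      D.δ χ = sgn (degOf χ) := by
    intro χ hχ
    obtain ⟨hne, hχA⟩ := mem_erase.mp hχ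
    have hc := Int.modEq_iff_dvd.mp (D.congrA χ hχA)
    refine ⟨hne, hχA, mem_degA _ (List.mem_range.mpr (hlt χ hne)) (hdvd ▸ D.dvdA χ hχA)
      (one_lt_degOf hR hne) ?_, ?_⟩
    · rcases D.δ_unit χ hχA with hh | hh <;> rw [hh] at hc <;> omega
    · rcases D.δ_unit χ hχA with hh | hh <;> rw [hh] at hc ⊢ <;> unfold sgn <;> split_ifs <;> omega
  have hgmem : degOf θ₁ ∈ [3, 4, 18, 24, 32] := by
    have hc := Int.modEq_iff_dvd.mp (D.congrB θ₁ hθ₁)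
    rw [he] at hc
    refine mem_degB _ (List.mem_range.mpr (hlt _ (hθne1 _ hθ₁))) (hdvd ▸ D.dvdB θ₁ hθ₁) ?_
    rcases D.ε_unit with hh | hh <;> rw [hh] at hc <;> omega
  have key : ∀ χ₁ χ₂ : IrrCharacter G, D.A.erase one = {χ₁, χ₂} → χ₁ ≠ χ₂ →
      degOf χ₁ ≤ degOf χ₂ →
      ∃ (f₁ f₂ g : ℕ) (ε : ℤ), Seven D.S.x χ₁ χ₂ θ₁ θ₂ f₁ f₂ g ε ∧
        (f₁, f₂, g, ε) ∈ [(6, 8, 3, (1 : ℤ)), (6, 27, 32, -1), (8, 27, 18, -1)] := by
    intro χ₁ χ₂ hAeq hne12 hle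
    obtain ⟨n1, hm1, hd1, hs1⟩ := hA χ₁ (by rw [hAeq]; exact mem_insert_self _ _)
    obtain ⟨n2, hm2, hd2, hs2⟩ := hA χ₂ (by rw [hAeq]; exact mem_insert_of_mem (mem_singleton_self _))
    have hAall : D.A = {one, χ₁, χ₂} := by rw [← insert_erase h1A, hAeq]
    have hsumA : ∀ f : IrrCharacter G → ℂ, ∑ χ ∈ D.A, f χ = f one + (f χ₁ + f χ₂) := by
      intro f
      rw [← add_sum_erase _ _ h1A, hAeq, sum_pair hne12]
    have hrelA : ∀ θ ∈ D.B, ∀ w : G, ¬ 7 ∣ orderOf w → (D.ε : ℂ) * (θ : G → ℂ) w =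
        1 + (sgn (degOf χ₁) : ℂ) * (χ₁ : G → ℂ) w + (sgn (degOf χ₂) : ℂ) * (χ₂ : G → ℂ) w := by
      intro θ hθ w hw
      rw [D.rel θ hθ w hw, hsumA, hδ1, hs1, hs2, hone, Chars.trivialIrr_apply]
      push_cast
      ring
    have hdisj : ∀ {χ θ : IrrCharacter G}, χ ∈ D.A → θ ∈ D.B → χ ≠ θ :=
      fun hχ hθ hh => disjoint_left.mp D.disj hχ (hh ▸ hθ)
    refine ⟨_, _, _, D.ε, ⟨D.S.order_x, rfl, rfl, rfl, D.degB_eq hθ₂ hθ₁, n1, n2, hθne1 _ hθ₁,
      hθne1 _ hθ₂, hne12, hdisj hm1 hθ₁, hdisj hm1 hθ₂, hdisj hm2 hθ₁, hdisj hm2 hθ₂, hθne, ?_, ?_, ?_,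
      ?_, hrelA θ₁ hθ₁, ?_, fun w hw => orderOf_eq_of_dvd K hw⟩, ?_⟩
    · rw [← hs1, ← D.applyA χ₁ hm1 1 one_ne_zero, xp_one]
    · rw [← hs2, ← D.applyA χ₂ hm2 1 one_ne_zero, xp_one]
    · have h1 := sum_apply_B K hθ₁
      rw [hB, sum_pair hθne] at h1
      exact h1
    · intro χ a0 a1 a2 a3 a4 j hj
      rw [← K.profile_eq χ j]
      refine D.profile_rest χ ?_ ?_ j hj
      · simp only [hAall, mem_insert, mem_singleton, not_or]; exact ⟨a0, a1, a2⟩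
      · simp [hB, a3, a4]
    · intro w hw
      exact mul_left_cancel₀ (by rcases D.ε_unit with hh | hh <;> simp [hh] : (D.ε : ℂ) ≠ 0)
        ((hrelA θ₂ hθ₂ w hw).trans (hrelA θ₁ hθ₁ w hw).symm)
    · have hrel := degree_relation D hθ₁
      rw [← add_sum_erase _ _ h1A, hAeq, sum_pair hne12, hδ1, hs1, hs2, degOf_trivial] at hrel
      have hsq : 1 + degOf χ₁ * degOf χ₁ + degOf χ₂ * degOf χ₂ + 2 * (degOf θ₁ * degOf θ₁) ≤ 6048 := by
        have h1 : ∑ ψ : IrrCharacter G, degOf ψ * degOf ψ = Nat.card G := by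
          apply Nat.cast_injective (R := ℂ)
          push_cast
          rw [← Chars.sum_degree_sq]
          exact sum_congr rfl fun ψ _ => by rw [apply_one_eq_degOf, sq]
        have h2 := sum_le_sum_of_subset (f := fun ψ : IrrCharacter G => degOf ψ * degOf ψ)
          (subset_univ (D.A ∪ D.B))
        rw [h1, h, sum_union D.disj, ← add_sum_erase _ _ h1A, hAeq, sum_pair hne12, hB, sum_pair hθne,
          hone, degOf_trivial, D.degB_eq hθ₂ hθ₁] at h2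
        omega
      exact table _ hd1 _ hd2 _ hgmem D.ε (by rcases D.ε_unit with hh | hh <;> simp [hh])
        (by push_cast at hrel ⊢; linarith) hsq hle
  rcases le_total (degOf a) (degOf b) with hle | hle
  · obtain ⟨f₁, f₂, g, ε, hS⟩ := key a b hAe hab hle
    exact ⟨D.S.x, a, b, θ₁, θ₂, f₁, f₂, g, ε, hS⟩
  · obtain ⟨f₁, f₂, g, ε, hS⟩ := key b a (by rw [hAe, pair_comm]) hab.symm hle
    exact ⟨D.S.x, b, a, θ₁, θ₂, f₁, f₂, g, ε, hS⟩

/-- No pair of conjugates of `t` has a product conjugate to `x`. -/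
theorem pairs_zero {x t : G} (hno : ∀ v : G, ¬ IsConj (t * (v * t * v⁻¹)) x) :
    (Nat.card G : ℂ) * ∑ χ : IrrCharacter G,
        (χ : G → ℂ) t ^ 2 * conj ((χ : G → ℂ) x) / (χ : G → ℂ) 1 = 0 := by
  classical
  have hterm : ∀ χ : IrrCharacter G, (Nat.card G : ℂ) *
      ((χ : G → ℂ) t ^ 2 * conj ((χ : G → ℂ) x) / (χ : G → ℂ) 1) =
      ∑ v : G, (χ : G → ℂ) (t * (v * t * v⁻¹)) * conj ((χ : G → ℂ) x) := fun χ => by
    rw [← Finset.sum_mul, Blocks.sum_irr_mul_conj]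
    ring
  rw [mul_sum, sum_congr rfl fun χ _ => hterm χ, sum_comm]
  refine sum_eq_zero fun v _ => ?_
  exact Chars.column_orthogonality_of_not_isConj (hno v)

/-- The normalizer of a subgroup of order seven has odd order. -/
theorem no_inverter [IsSimpleGroup G] (hS : Spec G) (h : Nat.card G = 6048) {y : G}
    (hy : orderOf y = 7) {t : G} (ht : orderOf t = 2) (hinv : t * y * t⁻¹ = y⁻¹) : False := by
  classical
  haveI : Fact (Nat.Prime 7) := ⟨by norm_num⟩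
  obtain ⟨P, hP⟩ := (IsPGroup.of_card (p := 7) (n := 1) (G := zpowers y)
    (by rw [Nat.card_zpowers, hy, pow_one])).exists_le_sylow
  have hPc : Nat.card (P : Subgroup G) = 7 := by
    rw [Sylow.card_eq_multiplicity, h, show (6048 : ℕ) = 7 ^ 1 * 864 by norm_num,
      Nat.factorization_mul (by norm_num) (by norm_num), (by norm_num : Nat.Prime 7).factorization_pow]
    simp [Nat.factorization_eq_zero_of_not_dvd (n := 864) (p := 7) (by norm_num)]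
  have hPy : (P : Subgroup G) = zpowers y :=
    (Subgroup.eq_of_le_of_card_ge hP (by rw [hPc, Nat.card_zpowers, hy])).symm
  have hmul := SmallGroups.card_normalizer_sylow_mul P
  have hmod : Nat.card (Sylow 7 G) % 7 = 1 := card_sylow_modEq_one (p := 7) (G := G)
  rw [h] at hmul
  set N := normalizer ((P : Subgroup G) : Set G) with hN
  have htN : t ∈ N := by
    rw [hN, hPy, Subgroup.mem_normalizer_iff]
    have key : ∀ z ∈ zpowers y, t * z * t⁻¹ = z⁻¹ := by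
      rintro _ ⟨k, rfl⟩
      show t * y ^ k * t⁻¹ = (y ^ k)⁻¹
      rw [← conj_zpow, hinv, inv_zpow]
    intro z
    refine ⟨fun hz => key z hz ▸ inv_mem hz, fun hz => ?_⟩
    have h2 : t * t = 1 := by rw [← sq, ← ht, pow_orderOf_eq_one]
    have h1 := key _ hz
    have hti : t⁻¹ = t := inv_eq_of_mul_eq_one_right h2
    have h3 : t * (t * z * t⁻¹) * t⁻¹ = z := by rw [hti]; simp [← mul_assoc, h2]; rw [mul_assoc, h2, mul_one]
    rw [h3] at h1
    exact h1 ▸ inv_mem hz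
  have h2N : 2 ∣ Nat.card N := ht ▸ Subgroup.orderOf_dvd_natCard N htN
  have hle : zpowers y ≤ N := hPy ▸ le_normalizer
  have h7N : 7 ∣ Nat.card N := by
    have := Subgroup.card_dvd_of_le hle
    rwa [Nat.card_zpowers, hy] at this
  obtain ⟨k, hk⟩ : 14 ∣ Nat.card N := (by norm_num : Nat.Coprime 2 7).mul_dvd_of_dvd_of_dvd h2N h7N
  have hrel := SmallGroups.relIndex_centralizer_dvd (p := 7) hPc
  have hCP : Nat.card (centralizer ((P : Subgroup G) : Set G)) = 7 := by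
    refine Eq.trans ?_ (card_centralizer_seven hS (by rw [h]; norm_num) hy)
    rw [SmallGroups.centralizer_eq_of_prime hPc (hPy ▸ mem_zpowers y)
      (fun e => by rw [e, orderOf_one] at hy; norm_num at hy)]
  obtain ⟨e, he, hNe⟩ : ∃ e, e ∣ 6 ∧ Nat.card N = e * 7 := by
    have hCN : centralizer ((P : Subgroup G) : Set G) ≤ N := SmallGroups.centralizer_le_normalizer' _
    obtain ⟨e, he, hNe⟩ := SmallGroups.exists_card_normalizer_eq (p := 7) hPc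
    exact ⟨e, he, hNe.trans (congrArg (e * ·) hCP)⟩
  have he6 := Nat.le_of_dvd (by norm_num) he
  rw [hNe] at hmul hk
  interval_cases e <;> omega

/-- In the group no element of order seven is a product of two involutions. -/
theorem not_isConj_product [IsSimpleGroup G] (hS : Spec G) (h : Nat.card G = 6048) {x : G}
    (hx : orderOf x = 7) {t : G} (ht : orderOf t = 2) (v : G) : ¬ IsConj (t * (v * t * v⁻¹)) x := by
  intro hc
  set y := t * (v * t * v⁻¹) with hy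
  have hy7 : orderOf y = 7 := by
    obtain ⟨c, hc'⟩ := isConj_iff.mp hc
    rw [← hx, ← hc']
    exact ((MulAut.conj c).orderOf_eq y).symm
  have htt : t * t = 1 := by rw [← sq, ← ht, pow_orderOf_eq_one]
  have hti : t⁻¹ = t := inv_eq_of_mul_eq_one_right htt
  have hinv : t * y * t⁻¹ = y⁻¹ := by
    rw [hti]
    refine eq_inv_of_mul_eq_one_left ?_
    calc t * y * t * y = (t * t) * (v * t * v⁻¹) * (t * t) * (v * t * v⁻¹) := by rw [hy]; group
      _ = v * (t * t) * v⁻¹ := by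
          nth_rewrite 1 2 [htt]; rw [one_mul, mul_one]; group
      _ = 1 := by rw [htt, mul_one, mul_inv_cancel]
  exact no_inverter hS h hy7 ht hinv

namespace Seven

variable {x : G} {χ₁ χ₂ θ₁ θ₂ : IrrCharacter G} {f₁ f₂ g : ℕ} {ε : ℤ}
  (B : Seven x χ₁ χ₂ θ₁ θ₂ f₁ f₂ g ε)

include B

theorem sum_five (f : IrrCharacter G → ℂ)
    (hf : ∀ χ, χ ∉ ({Chars.trivialIrr G, χ₁, χ₂, θ₁, θ₂} : Finset (IrrCharacter G)) → f χ = 0) :
    ∑ χ : IrrCharacter G, f χ = f (Chars.trivialIrr G) + f χ₁ + f χ₂ + f θ₁ + f θ₂ := by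
  classical
  rw [← sum_subset (subset_univ _) (fun χ _ hχ => hf χ hχ),
    sum_insert (by simp [B.ne₁.symm, B.ne₂.symm, B.ne₃.symm, B.ne₄.symm]),
    sum_insert (by simp [B.ne₁₂, B.ne₁₃, B.ne₁₄]), sum_insert (by simp [B.ne₂₃, B.ne₂₄]),
    sum_pair B.ne₃₄]
  ring

theorem dvd_degOf {χ : IrrCharacter G} (h0 : χ ≠ Chars.trivialIrr G) (h1 : χ ≠ χ₁) (h2 : χ ≠ χ₂)
    (h3 : χ ≠ θ₁) (h4 : χ ≠ θ₂) : 7 ∣ degOf χ := by
  haveI : Fact (Nat.Prime 7) := ⟨by norm_num⟩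
  exact dvd_degOf_of_vanish B.order_x (B.rest χ h0 h1 h2 h3 h4)

theorem involution [IsSimpleGroup G] (hS : Spec G) (h : Nat.card G = 6048) (hε : ε = 1 ∨ ε = -1) {t : G}
    (ht : orderOf t = 2) :
    ∃ (a₁ a₂ : ℤ) (C idx : ℕ), C = Nat.card (centralizer ({t} : Set G)) ∧ C ∣ 864 ∧ 2 ∣ C ∧
      idx * C = 6048 ∧ (χ₁ : G → ℂ) t = (a₁ : ℂ) ∧ (χ₂ : G → ℂ) t = (a₂ : ℂ) ∧
      (4 : ℤ) ∣ (f₁ : ℤ) - a₁ ∧ (4 : ℤ) ∣ (f₂ : ℤ) - a₂ ∧
      (4 : ℤ) ∣ (g : ℤ) - ε * (1 + sgn f₁ * a₁ + sgn f₂ * a₂) ∧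
      (f₁ : ℤ) ∣ idx * a₁ ∧ (f₂ : ℤ) ∣ idx * a₂ ∧
      (g : ℤ) ∣ idx * (ε * (1 + sgn f₁ * a₁ + sgn f₂ * a₂)) ∧
      |a₁| ≤ f₁ ∧ |a₂| ≤ f₂ ∧ |ε * (1 + sgn f₁ * a₁ + sgn f₂ * a₂)| ≤ g ∧
      1 + a₁ * a₁ + a₂ * a₂ + 2 * ((1 + sgn f₁ * a₁ + sgn f₂ * a₂) * (1 + sgn f₁ * a₁ + sgn f₂ * a₂))
        ≤ (C : ℤ) ∧
      864 * ((f₁ : ℤ) * f₂ * g + sgn f₁ * (a₁ * a₁) * f₂ * g + sgn f₂ * (a₂ * a₂) * f₁ * g -
        ε * ((1 + sgn f₁ * a₁ + sgn f₂ * a₂) * (1 + sgn f₁ * a₁ + sgn f₂ * a₂)) * f₁ * f₂) =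
          0 := by
  classical
  haveI : Fact (Nat.Prime 7) := ⟨by norm_num⟩
  have hG := not_comm_6048 h
  obtain ⟨a₁, ha₁⟩ := SmallGroups.PrimeChar.exists_int_apply_involution χ₁ ht
  obtain ⟨a₂, ha₂⟩ := SmallGroups.PrimeChar.exists_int_apply_involution χ₂ ht
  obtain ⟨b, hb⟩ := SmallGroups.PrimeChar.exists_int_apply_involution θ₁ ht
  have hreg : ¬ 7 ∣ orderOf t := by rw [ht]; norm_num
  have hbeq : b = ε * (1 + sgn f₁ * a₁ + sgn f₂ * a₂) := by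
    have h1 := B.rel₁ t hreg
    rw [hb, ha₁, ha₂] at h1
    have h2 : ε * b = 1 + sgn f₁ * a₁ + sgn f₂ * a₂ := by
      apply Int.cast_injective (α := ℂ)
      push_cast
      linear_combination h1
    rcases hε with rfl | rfl <;> omega
  have hb2 : (θ₂ : G → ℂ) t = b := (B.rel₂ t hreg).trans hb
  set C := Nat.card (centralizer ({t} : Set G)) with hCdef
  set idx := (centralizer ({t} : Set G)).index with hidx
  have hmul : idx * C = 6048 := by rw [hidx, hCdef, mul_comm, Subgroup.card_mul_index, h]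
  have h7 : ¬ 7 ∣ C := by
    intro hd
    obtain ⟨y, hy⟩ := exists_prime_orderOf_dvd_card' 7 hd
    rw [← Subgroup.orderOf_coe] at hy
    have h1 : t ∈ centralizer ({(y : G)} : Set G) := by
      rw [mem_centralizer_singleton_iff]
      exact (mem_centralizer_singleton_iff.mp y.2).symm
    have h2 := Subgroup.orderOf_dvd_natCard _ h1
    rw [ht, card_centralizer_seven hS (by rw [h]; norm_num) hy] at h2
    norm_num at h2
  have hC864 : C ∣ 864 := by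
    have h1 : C ∣ 7 * 864 := Dvd.intro_left idx (by rw [hmul])
    exact (((by norm_num : Nat.Prime 7).coprime_iff_not_dvd.mpr h7).symm).dvd_of_dvd_mul_left h1
  have h2C : 2 ∣ C := ht ▸ Subgroup.orderOf_dvd_natCard _ (mem_centralizer_singleton_iff.mpr rfl)
  have htt : t * t = 1 := by rw [← sq, ← ht, pow_orderOf_eq_one]
  have habs : ∀ {χ : IrrCharacter G} {a : ℤ}, (χ : G → ℂ) t = a → |a| ≤ (degOf χ : ℤ) := by
    intro χ a ha
    have h1 := Chars.norm_char_le_degree (Chars.irr_isCharacter χ) t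
    rw [ha, apply_one_eq_degOf, Complex.natCast_re, Complex.norm_intCast] at h1
    exact_mod_cast h1
  have d1 := dvd_sub_apply_involution hG χ₁ htt ha₁
  have d2 := dvd_sub_apply_involution hG χ₂ htt ha₂
  have d3 := dvd_sub_apply_involution hG θ₁ htt hb
  have w1 := degOf_dvd_index_mul ha₁
  have w2 := degOf_dvd_index_mul ha₂
  have w3 := degOf_dvd_index_mul hb
  have b1 := habs ha₁
  have b2 := habs ha₂
  have b3 := habs hb
  rw [B.deg₁] at d1 w1 b1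
  rw [B.deg₂] at d2 w2 b2
  rw [B.deg₃, hbeq] at d3 w3 b3
  refine ⟨a₁, a₂, C, idx, rfl, hC864, h2C, hmul, ha₁, ha₂, d1, d2, d3, w1, w2, w3, b1, b2, b3, ?_, ?_⟩
  · choose v hv using fun χ : IrrCharacter G => SmallGroups.PrimeChar.exists_int_apply_involution χ ht
    have hcol : ∑ χ : IrrCharacter G, v χ * v χ = (C : ℤ) := by
      apply Int.cast_injective (α := ℂ)
      push_cast
      rw [hCdef, ← Chars.column_orthogonality_of_isConj (IsConj.refl t)]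
      exact sum_congr rfl fun χ _ => by rw [hv, map_intCast]
    have hsub := sum_le_sum_of_subset_of_nonneg
      (subset_univ ({Chars.trivialIrr G, χ₁, χ₂, θ₁, θ₂} : Finset (IrrCharacter G)))
      (f := fun χ => v χ * v χ) (fun χ _ _ => mul_self_nonneg _)
    rw [hcol, sum_insert (by simp [B.ne₁.symm, B.ne₂.symm, B.ne₃.symm, B.ne₄.symm]),
      sum_insert (by simp [B.ne₁₂, B.ne₁₃, B.ne₁₄]), sum_insert (by simp [B.ne₂₃, B.ne₂₄]),
      sum_pair B.ne₃₄] at hsub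
    have hv1 : v (Chars.trivialIrr G) = 1 := by
      have := hv (Chars.trivialIrr G)
      rw [Chars.trivialIrr_apply] at this
      exact_mod_cast this.symm
    have hva : v χ₁ = a₁ := by have := hv χ₁; rw [ha₁] at this; exact_mod_cast this.symm
    have hvb : v χ₂ = a₂ := by have := hv χ₂; rw [ha₂] at this; exact_mod_cast this.symm
    have hvc : v θ₁ = b := by have := hv θ₁; rw [hb] at this; exact_mod_cast this.symm
    have hvd : v θ₂ = b := by have := hv θ₂; rw [hb2] at this; exact_mod_cast this.symm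
    rw [hv1, hva, hvb, hvc, hvd, hbeq] at hsub
    rcases hε with rfl | rfl <;> nlinarith
  · obtain ⟨k, hk⟩ : ∃ k : ℕ, (Nat.card G : ℂ) * ∑ χ : IrrCharacter G,
        (χ : G → ℂ) t ^ 2 * conj ((χ : G → ℂ) x) / (χ : G → ℂ) 1 =
        (7 * (Nat.card (centralizer ({t} : Set G)) * Nat.card (centralizer ({t} : Set G))) * k : ℕ) :=
      ⟨0, by rw [pairs_zero (fun v => not_isConj_product hS h B.order_x ht v), mul_zero, Nat.cast_zero]⟩
    have hk0 : k = 0 := by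
      rw [pairs_zero (fun v => not_isConj_product hS h B.order_x ht v)] at hk
      have h1 : (7 * (Nat.card (centralizer ({t} : Set G)) * Nat.card (centralizer ({t} : Set G))) * k : ℕ) = 0 := by
        exact_mod_cast hk.symm
      rcases Nat.mul_eq_zero.mp h1 with h2 | h2
      · have : 0 < Nat.card (centralizer ({t} : Set G)) := Nat.card_pos
        have : 0 < 7 * (Nat.card (centralizer ({t} : Set G)) * Nat.card (centralizer ({t} : Set G))) := by positivity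
        omega
      · exact h2
    subst hk0
    rw [B.sum_five _ (fun χ hχ => by
      simp only [mem_insert, mem_singleton, not_or] at hχ
      obtain ⟨a0, a1, a2, a3, a4⟩ := hχ
      rw [← xp_one (p := 7) (x := x), B.rest χ a0 a1 a2 a3 a4 1 one_ne_zero, map_zero, mul_zero, zero_div]),
      h, ← hCdef] at hk
    simp only [Chars.trivialIrr_apply, ha₁, ha₂, hb, hb2, B.val₁, B.val₂, apply_one_eq_degOf, B.deg₁,
      B.deg₂, B.deg₃, B.deg₄, map_one, map_intCast] at hk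
    have hsum : conj ((θ₁ : G → ℂ) x) + conj ((θ₂ : G → ℂ) x) = -(ε : ℂ) := by
      rw [← map_add, B.sumθ, map_neg, map_intCast]
    have hf : ∀ {χ : IrrCharacter G} {f : ℕ}, degOf χ = f → (f : ℂ) ≠ 0 := fun hh =>
      Nat.cast_ne_zero.mpr (hh ▸ (degOf_pos _).ne')
    have n1 := hf B.deg₁
    have n2 := hf B.deg₂
    have n3 := hf B.deg₃
    push_cast at hk
    field_simp at hk
    have h3 : ((864 * ((f₁ : ℤ) * f₂ * g + sgn f₁ * (a₁ * a₁) * f₂ * g + sgn f₂ * (a₂ * a₂) * f₁ * g -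
        ε * (b * b) * f₁ * f₂) : ℤ) : ℂ) = (((0 : ℤ)) : ℂ) := by
      push_cast
      refine mul_left_cancel₀ (show (7 : ℂ) ≠ 0 by norm_num) ?_
      linear_combination hk - 6048 * (b : ℂ) * (b : ℂ) * (f₁ : ℂ) * (f₂ : ℂ) * hsum
    have h4 := Int.cast_injective h3
    rw [hbeq] at h4
    rcases hε with rfl | rfl <;> linear_combination h4

end Seven

/-- The conditions at an involution. -/
def cond (f₁ f₂ g : ℕ) (ε : ℤ) (C : ℕ) (a₁ a₂ : ℤ) : Bool :=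
  let idx : ℤ := ((6048 / C : ℕ) : ℤ)
  let r := 1 + sgn f₁ * a₁ + sgn f₂ * a₂
  let v := 864 * ((f₁ : ℤ) * f₂ * g + sgn f₁ * (a₁ * a₁) * f₂ * g + sgn f₂ * (a₂ * a₂) * f₁ * g -
    ε * (r * r) * f₁ * f₂)
  decide ((4 : ℤ) ∣ (f₁ : ℤ) - a₁) && decide ((4 : ℤ) ∣ (f₂ : ℤ) - a₂) &&
    decide ((4 : ℤ) ∣ (g : ℤ) - ε * r) &&
    decide ((f₁ : ℤ) ∣ idx * a₁) && decide ((f₂ : ℤ) ∣ idx * a₂) && decide ((g : ℤ) ∣ idx * (ε * r)) &&
    decide (|a₁| ≤ f₁) && decide (|a₂| ≤ f₂) && decide (|ε * r| ≤ g) &&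
    decide (1 + a₁ * a₁ + a₂ * a₂ + 2 * (r * r) ≤ (C : ℤ)) &&
    decide (v = 0)

/-- The admissible centralizer orders. -/
def orders : List ℕ := (List.range 865).filter fun C => 864 % C == 0 && C % 2 == 0

theorem table_six : ∀ C ∈ orders, ∀ i ∈ List.range 13, ∀ j ∈ List.range 55,
    cond 6 27 32 (-1) C ((i : ℤ) - 6) ((j : ℤ) - 27) = true →
      (i = 4 ∧ j = 30 ∧ ¬ 9 ∣ C ∧ C ≤ 96) := by
  decide +kernel

theorem table_eight : ∀ C ∈ orders, ∀ i ∈ List.range 17, ∀ j ∈ List.range 55,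
    cond 8 27 18 (-1) C ((i : ℤ) - 8) ((j : ℤ) - 27) = false := by
  decide +kernel

namespace Seven

variable {x : G} {χ₁ χ₂ θ₁ θ₂ : IrrCharacter G} {f₁ f₂ g : ℕ} {ε : ℤ}

theorem exists_cond [IsSimpleGroup G] (B : Seven x χ₁ χ₂ θ₁ θ₂ f₁ f₂ g ε) (hS : Spec G)
    (h : Nat.card G = 6048) (hε : ε = 1 ∨ ε = -1) {t : G} (ht : orderOf t = 2) :
    Nat.card (centralizer ({t} : Set G)) ∈ orders ∧ ∃ i j : ℕ, i < 2 * f₁ + 1 ∧ j < 2 * f₂ + 1 ∧
      (χ₁ : G → ℂ) t = (((i : ℤ) - f₁ : ℤ) : ℂ) ∧ (χ₂ : G → ℂ) t = (((j : ℤ) - f₂ : ℤ) : ℂ) ∧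
      cond f₁ f₂ g ε (Nat.card (centralizer ({t} : Set G))) ((i : ℤ) - f₁) ((j : ℤ) - f₂) = true := by
  obtain ⟨a₁, a₂, C, idx, rfl, hC, h2, hidx, e1, e2, d1, d2, d3, w1, w2, w3, b1, b2, b3, hsq, hk⟩ :=
    B.involution hS h hε ht
  set C := Nat.card (centralizer ({t} : Set G)) with hCdef
  have hCpos : 0 < C := Nat.card_pos
  refine ⟨List.mem_filter.mpr ⟨List.mem_range.mpr (Nat.lt_succ_of_le (Nat.le_of_dvd (by norm_num) hC)), by
    simp [Nat.mod_eq_zero_of_dvd hC, Nat.mod_eq_zero_of_dvd h2]⟩, ?_⟩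
  have c1 := abs_le.mp b1
  have c2 := abs_le.mp b2
  refine ⟨(a₁ + f₁).toNat, (a₂ + f₂).toNat, by omega, by omega, ?_⟩
  rw [show (((a₁ + f₁).toNat : ℕ) : ℤ) - f₁ = a₁ by omega,
    show (((a₂ + f₂).toNat : ℕ) : ℤ) - f₂ = a₂ by omega]
  refine ⟨e1, e2, ?_⟩
  have hidx' : 6048 / C = idx := by rw [← hidx, Nat.mul_div_cancel _ hCpos]
  simp only [cond, hidx', Bool.and_eq_true, decide_eq_true_eq]
  exact ⟨⟨⟨⟨⟨⟨⟨⟨⟨⟨d1, d2⟩, d3⟩, w1⟩, w2⟩, w3⟩, b1⟩, b2⟩, b3⟩, hsq⟩, hk⟩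

theorem irrConj_theta [IsSimpleGroup G] (B : Seven x χ₁ χ₂ θ₁ θ₂ 6 8 3 1) :
    Chars.irrConj θ₁ = θ₁ ∨ Chars.irrConj θ₁ = θ₂ := by
  classical
  haveI : Fact (Nat.Prime 7) := ⟨by norm_num⟩
  have hdeg : degOf (Chars.irrConj θ₁) = 3 := by
    have h1 := apply_one_eq_degOf (Chars.irrConj θ₁)
    rw [Chars.irrConj_apply, apply_one_eq_degOf, B.deg₃, Complex.conj_natCast] at h1
    exact_mod_cast h1.symm
  have hd : ∀ {χ : IrrCharacter G} {f : ℕ}, degOf χ = f → f ≠ 3 → Chars.irrConj θ₁ ≠ χ :=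
    fun hf hne he => hne (by rw [← hf, ← he, hdeg])
  by_contra hcon
  rw [not_or] at hcon
  have h7 : 7 ∣ degOf θ₁ := dvd_degOf_of_vanish B.order_x fun j hj => by
    have h0 := B.rest _ (hd degOf_trivial (by norm_num)) (hd B.deg₁ (by norm_num)) (hd B.deg₂ (by norm_num))
      hcon.1 hcon.2 j hj
    rw [Chars.irrConj_apply] at h0
    exact (map_eq_zero _).mp h0
  rw [B.deg₃] at h7
  norm_num at h7

theorem false_of_three [IsSimpleGroup G] (B : Seven x χ₁ χ₂ θ₁ θ₂ 6 8 3 1)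
    (hS : Spec G) (h : Nat.card G = 6048) : False := by
  classical
  haveI : Fact (Nat.Prime 3) := ⟨Nat.prime_three⟩
  obtain ⟨P⟩ := (inferInstance : Nonempty (Sylow 3 G))
  have hP : Nat.card (P : Subgroup G) = 27 := by
    rw [Sylow.card_eq_multiplicity, h, show (6048 : ℕ) = 3 ^ 3 * 224 by norm_num,
      Nat.factorization_mul (by norm_num) (by norm_num), Nat.prime_three.factorization_pow]
    simp [Nat.factorization_eq_zero_of_not_dvd (n := 224) (p := 3) (by norm_num)]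
  obtain ⟨m, hm⟩ := exists_fixed_mult θ₁ (P : Subgroup G)
  have hzero : ∀ z : G, orderOf z = 3 → (θ₁ : G → ℂ) z = 0 := by
    intro z hz
    have hreal : conj ((θ₁ : G → ℂ) z) = (θ₁ : G → ℂ) z := by
      rw [← Chars.irrConj_apply]
      rcases B.irrConj_theta with e | e <;> rw [e]
      exact B.rel₂ z (by rw [hz]; norm_num)
    obtain ⟨k, hk, hv⟩ := value_three θ₁ hz hreal
    rw [B.deg₃] at hk hv
    have hk1 : k ≤ 1 := by omega
    interval_cases k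
    · exfalso
      have h1 : z = 1 := faithful_of_ne_trivial B.ne₃ (by
        rw [hv, apply_one_eq_degOf, B.deg₃]; norm_num)
      rw [h1, orderOf_one] at hz
      norm_num at hz
    · rw [hv]; norm_num
  have hone : ∀ z : (P : Subgroup G), z ≠ 1 → (θ₁ : G → ℂ) z = 0 := fun z hz =>
    hzero _ (hS.orderOf_three P.2 z.2 fun e => hz (Subtype.ext e))
  rw [Finset.sum_eq_single (1 : (P : Subgroup G)) (fun z _ hz => hone z hz) (fun h => absurd (mem_univ _) h),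
    OneMemClass.coe_one, apply_one_eq_degOf, B.deg₃, hP] at hm
  have : (3 : ℕ) = 27 * m := by exact_mod_cast hm
  omega

end Seven

end Cfsg.Agent.Lib.SpecG2Two
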