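import Cfsg.Agent.Lib.BrauerTuan.Main
import Cfsg.Agent.Lib.BrauerTuan.SmallBlock
import Cfsg.Agent.Lib.BrauerTuan.InvolutionDet
import Cfsg.Agent.Lib.BrauerTuan.Simple
import Cfsg.Agent.Lib.SmallGroups.PrimeChar.Involutions
import Cfsg.Agent.Lib.SmallGroups.PrimeSylow

/-!
Groups of order dividing `12096` without elements of order 9, 14 or 21: centralizers of elements of
order seven; elementary facts on characters at elements of order three and on restrictions.
-/

set_option autoImplicit false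
set_option linter.unusedSectionVars false
set_option linter.style.haveILetI false

namespace Cfsg.Agent.Lib.SpecG2Two

open scoped ComplexConjugate
open Finset Subgroup Cfsg Cfsg.Agent.Lib
open Cfsg.Agent.Lib.DefectOne Cfsg.Agent.Lib.BrauerReynolds Cfsg.Agent.Lib.BrauerTuan
open Cfsg.Agent.Lib.SmallGroups.PrimeChar (xp xp_one xp_zero mult exists_mult_nat)

universe u

/-- No elements of order 9, 14 or 21. -/
structure Spec (G : Type*) [Group G] : Prop where
  no9 : ∀ g : G, orderOf g ≠ 9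
  no14 : ∀ g : G, orderOf g ≠ 14
  no21 : ∀ g : G, orderOf g ≠ 21

theorem Spec.of_injective {G H : Type*} [Group G] [Group H] (hS : Spec G) (f : H →* G)
    (hf : Function.Injective f) : Spec H :=
  ⟨fun g h => hS.no9 (f g) (by rw [orderOf_injective f hf, h]),
   fun g h => hS.no14 (f g) (by rw [orderOf_injective f hf, h]),
   fun g h => hS.no21 (f g) (by rw [orderOf_injective f hf, h])⟩

/-- A nontrivial 3-element has order 3. -/
theorem Spec.orderOf_three {G : Type*} [Group G] [Finite G] (hS : Spec G) {P : Subgroup G}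
    (hP : IsPGroup 3 P) {z : G} (hz : z ∈ P) (hz1 : z ≠ 1) : orderOf z = 3 := by
  haveI : Fact (Nat.Prime 3) := ⟨Nat.prime_three⟩
  obtain ⟨k, hk⟩ := IsPGroup.iff_orderOf.mp hP ⟨z, hz⟩
  rw [Subgroup.orderOf_mk] at hk
  rcases Nat.lt_or_ge k 2 with h | h
  · interval_cases k
    · exact absurd (orderOf_eq_one_iff.mp hk) hz1
    · exact hk
  · exfalso
    refine hS.no9 (z ^ (3 ^ (k - 2))) ?_
    have h3 : 3 ^ k = 3 ^ (k - 2) * 9 := by
      rw [show (9 : ℕ) = 3 ^ 2 from rfl, ← pow_add]; congr 1; omega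
    rw [orderOf_pow_of_dvd (by positivity) (by rw [hk, h3]; exact dvd_mul_right _ _), hk, h3,
      Nat.mul_div_cancel_left _ (by positivity)]

/-- A prime dividing `12096`. -/
theorem prime_of_dvd {q : ℕ} (hq : q.Prime) (h : q ∣ 12096) : q = 2 ∨ q = 3 ∨ q = 7 := by
  have h' : q ∣ 2 ^ 6 * (3 ^ 3 * 7) := by norm_num [h]
  rcases hq.dvd_mul.mp h' with h1 | h1
  · exact Or.inl ((Nat.prime_dvd_prime_iff_eq hq Nat.prime_two).mp (hq.dvd_of_dvd_pow h1))
  rcases hq.dvd_mul.mp h1 with h2 | h2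
  · exact Or.inr (Or.inl ((Nat.prime_dvd_prime_iff_eq hq Nat.prime_three).mp (hq.dvd_of_dvd_pow h2)))
  · exact Or.inr (Or.inr ((Nat.prime_dvd_prime_iff_eq hq (by norm_num)).mp h2))

section Seven

variable {G : Type u} [Group G] [Finite G]

/-- An element of order seven commutes only with its powers. -/
theorem card_centralizer_seven (hS : Spec G) (hG : Nat.card G ∣ 12096) {x : G} (hx : orderOf x = 7) :
    Nat.card (centralizer ({x} : Set G)) = 7 := by
  set C := centralizer ({x} : Set G)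
  have hC : Nat.card C ∣ 12096 := (Subgroup.card_subgroup_dvd_card C).trans hG
  have h7 : 7 ∣ Nat.card C := hx ▸ Subgroup.orderOf_dvd_natCard _ (mem_centralizer_singleton_iff.mpr rfl)
  have key : ∀ q : ℕ, q.Prime → q ∣ Nat.card C → q = 7 := by
    intro q hq hd
    haveI : Fact q.Prime := ⟨hq⟩
    obtain ⟨⟨y, hy⟩, hyo⟩ := exists_prime_orderOf_dvd_card' q hd
    rw [Subgroup.orderOf_mk] at hyo
    by_contra h7q
    have hc : Commute y x := mem_centralizer_singleton_iff.mp hy
    have ho : orderOf (y * x) = q * 7 := by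
      rw [hc.orderOf_mul_eq_mul_orderOf_of_coprime, hyo, hx]
      rw [hyo, hx]
      exact (Nat.coprime_primes hq (by norm_num)).mpr h7q
    rcases prime_of_dvd hq (hd.trans hC) with rfl | rfl | rfl
    · exact hS.no14 _ ho
    · exact hS.no21 _ ho
    · exact h7q rfl
  have hmem : Nat.card C ∈ (12096 : ℕ).divisors := Nat.mem_divisors.mpr ⟨hC, by norm_num⟩
  by_contra hne
  obtain ⟨c, hc⟩ := h7
  have hc1 : c ≠ 1 := fun h => hne (by rw [hc, h, mul_one])
  obtain ⟨q, hq, hqc⟩ := Nat.exists_prime_and_dvd hc1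
  have hq7 := key q hq (hc ▸ hqc.trans (dvd_mul_left c 7))
  subst hq7
  have h49 : 49 ∣ 12096 := (Nat.mul_dvd_mul_left 7 hqc).trans (hc ▸ hC)
  norm_num at h49

end Seven

section Restriction

variable {G : Type u} [Group G] [Fintype G]

/-- The multiplicity of the trivial character on a subgroup. -/
theorem exists_fixed_mult (χ : IrrCharacter G) (D : Subgroup G) [Fintype D] :
    ∃ m : ℕ, ∑ h : D, (χ : G → ℂ) h = (Nat.card D : ℂ) * m := by
  classical
  obtain ⟨m, hm⟩ := Chars.isCharacter_classInner_nat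
    (Chars.isCharacter_comp D.subtype (Chars.irr_isCharacter χ))
    (Chars.irr_isCharacter (Chars.trivialIrr D))
  refine ⟨m, ?_⟩
  rw [classInner] at hm
  simp only [Chars.trivialIrr_apply, map_one, mul_one, Subgroup.coe_subtype] at hm
  rw [← hm, ← mul_assoc, mul_inv_cancel₀ (Nat.cast_ne_zero.mpr Nat.card_pos.ne'), one_mul]

theorem apply_inv (χ : IrrCharacter G) (g : G) : (χ : G → ℂ) g⁻¹ = conj ((χ : G → ℂ) g) := by
  obtain ⟨n, ρ, -, hρ⟩ := Chars.irr_exists_rep χ
  rw [← hρ]
  exact Chars.char_inv ρ g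

/-- A real value at an element of order three. -/
theorem value_three (χ : IrrCharacter G) {z : G} (hz : orderOf z = 3)
    (hreal : conj ((χ : G → ℂ) z) = (χ : G → ℂ) z) :
    ∃ m : ℕ, 2 * m ≤ degOf χ ∧ (χ : G → ℂ) z = (((degOf χ : ℤ) - 3 * m : ℤ) : ℂ) := by
  have h012 : (0 : ZMod 3) ∉ ({1, 2} : Finset (ZMod 3)) := by decide
  have h12 : (1 : ZMod 3) ≠ 2 := by decide
  haveI : Fact (Nat.Prime 3) := ⟨Nat.prime_three⟩
  obtain ⟨a, ha⟩ := exists_mult_nat hz χ (0 : ZMod 3)
  obtain ⟨b, hb⟩ := exists_mult_nat hz χ (1 : ZMod 3)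
  have huniv : (Finset.univ : Finset (ZMod 3)) = {0, 1, 2} := rfl
  have hinv : z ^ 2 = z⁻¹ := by
    have h3 : z ^ 3 = 1 := hz ▸ pow_orderOf_eq_one z
    rw [eq_inv_iff_mul_eq_one, ← pow_succ, h3]
  have h2 : (χ : G → ℂ) (xp 3 z 2) = (χ : G → ℂ) z := by
    show (χ : G → ℂ) (z ^ (2 : ZMod 3).val) = _
    rw [show (2 : ZMod 3).val = 2 from rfl, hinv, apply_inv, hreal]
  have hsum : (1 : ℂ) + ZMod.stdAddChar (-1 : ZMod 3) + ZMod.stdAddChar (-2 : ZMod 3) = 0 := by
    have h := AddChar.sum_eq_zero_of_ne_one (ψ := (ZMod.stdAddChar : AddChar (ZMod 3) ℂ))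
      (fun h => by
        have := ZMod.injective_stdAddChar (N := 3) (a₁ := 1) (a₂ := 0)
          (by rw [h, AddChar.one_apply, AddChar.one_apply])
        exact one_ne_zero this)
    rw [huniv, Finset.sum_insert h012, Finset.sum_pair h12, AddChar.map_zero_eq_one] at h
    rw [show (-1 : ZMod 3) = 2 from rfl, show (-2 : ZMod 3) = 1 from rfl]
    linear_combination h
  rw [mult, huniv, Finset.sum_insert h012, Finset.sum_pair h12, h2, xp_zero, xp_one,
    apply_one_eq_degOf] at ha hb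
  simp only [mul_zero, zero_mul, neg_zero, AddChar.map_zero_eq_one, mul_one, one_mul] at ha hb
  have e1 : (degOf χ : ℂ) + 2 * (χ : G → ℂ) z = 3 * (a : ℂ) := by linear_combination (3 : ℂ) * ha
  have e2 : (degOf χ : ℂ) - (χ : G → ℂ) z = 3 * (b : ℂ) := by
    push_cast at hb
    linear_combination (3 : ℂ) * hb - (χ : G → ℂ) z * hsum
  refine ⟨b, ?_, ?_⟩
  · have h3 : ((3 * degOf χ : ℕ) : ℂ) = ((3 * a + 6 * b : ℕ) : ℂ) := by
      push_cast
      linear_combination e1 + (2 : ℂ) * e2
    have := Nat.cast_injective (R := ℂ) h3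
    omega
  · push_cast
    linear_combination -e2

end Restriction

end Cfsg.Agent.Lib.SpecG2Two
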