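import Cfsg.Agent.Lib.SpecG2Two.Table
import Mathlib.GroupTheory.PGroup
import Mathlib.GroupTheory.OrderOfElement
import Mathlib.GroupTheory.SpecificGroups.Cyclic
import Mathlib.Tactic.Group
import Mathlib.Tactic.IntervalCases

/-!
A non-abelian group of order 27 and exponent three is the Heisenberg group.
-/

set_option autoImplicit false
set_option linter.unusedSectionVars false

namespace Cfsg.Agent.Lib.SpecG2Two

open Subgroup

universe u

theorem pow_mod_three {P : Type u} [Monoid P] {g : P} (hg : g ^ 3 = 1) (n : ℕ) : g ^ n = g ^ (n % 3) := by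
  conv_lhs => rw [← Nat.div_add_mod n 3, pow_add, pow_mul, hg, one_pow, one_mul]

/-- Coordinates on a non-abelian group of order 27 of exponent three. -/
theorem exists_heis {P : Type u} [Group P] (hP : Nat.card P = 27) (h3 : ∀ g : P, g ^ 3 = 1)
    (hna : ¬ IsMulCommutative P) : ∃ v : Fin 27 → P, Function.Bijective v ∧
      ∀ a b c : Fin 27, (c : ℕ) = Table.hm a b → v c = v a * v b := by
  haveI : Fact (Nat.Prime 3) := ⟨Nat.prime_three⟩
  haveI : Finite P := Nat.finite_of_card_ne_zero (by omega)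
  obtain ⟨a, b, hab⟩ : ∃ a b : P, a * b ≠ b * a := by
    by_contra h
    push Not at h
    exact hna ⟨⟨h⟩⟩
  -- commutators are central
  obtain ⟨k, hk0, hk⟩ := IsPGroup.card_center_eq_prime_pow (p := 3) (n := 3) (G := P) (by rw [hP]; norm_num)
    (by norm_num)
  have hk3 : k ≤ 3 := by
    have := Subgroup.card_subgroup_dvd_card (Subgroup.center P)
    rw [hk, hP, show (27 : ℕ) = 3 ^ 3 by norm_num] at this
    exact (Nat.pow_dvd_pow_iff_le_right (by norm_num)).mp this
  have hq := Subgroup.card_eq_card_quotient_mul_card_subgroup (Subgroup.center P)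
  rw [hP, hk] at hq
  have hk1 : k = 1 := by
    rcases (show k = 1 ∨ k = 2 ∨ k = 3 by omega) with h | h | h
    · exact h
    · exfalso
      rw [h] at hq
      haveI : IsCyclic (P ⧸ Subgroup.center P) := isCyclic_of_prime_card (p := 3) (by omega)
      exact hna (isMulCommutative_of_isCyclic_quotient_center_self P)
    · exfalso
      rw [h] at hq
      have htop : Subgroup.center P = ⊤ := Subgroup.eq_top_of_card_eq _ (by rw [hP, hk, h]; norm_num)
      exact hab (Subgroup.mem_center_iff.mp (htop ▸ Subgroup.mem_top b) a)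
  rw [hk1] at hq
  haveI hcomm : IsMulCommutative (P ⧸ Subgroup.center P) :=
    IsPGroup.isMulCommutative_of_card_eq_prime_sq (p := 3) (by omega)
  set z := (b * a)⁻¹ * (a * b) with hz
  have hzc : ∀ g : P, Commute z g := by
    have : z ∈ Subgroup.center P := by
      rw [← QuotientGroup.eq_one_iff, hz, QuotientGroup.mk_mul, QuotientGroup.mk_inv, inv_mul_eq_one,
        QuotientGroup.mk_mul, QuotientGroup.mk_mul]
      exact hcomm.is_comm.comm _ _
    exact fun g => (Subgroup.mem_center_iff.mp this g).symm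
  have hz1 : z ≠ 1 := fun h => hab (inv_mul_eq_one.mp h).symm
  have hswap : a * b = b * a * z := by rw [hz]; group
  have hpull : ∀ i j : ℕ, a ^ i * b ^ j = b ^ j * a ^ i * z ^ (i * j) := by
    have h1 : ∀ j : ℕ, a * b ^ j = b ^ j * a * z ^ j := by
      intro j
      induction j with
      | zero => simp
      | succ j ih =>
        calc a * b ^ (j + 1) = a * b ^ j * b := by rw [pow_succ, ← mul_assoc]
          _ = b ^ j * a * (z ^ j * b) := by rw [ih, mul_assoc]
          _ = b ^ j * (a * b) * z ^ j := by rw [((hzc b).pow_left j).eq]; group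
          _ = b ^ (j + 1) * a * z ^ (j + 1) := by rw [hswap, pow_succ, pow_succ']; group
    intro i j
    induction i with
    | zero => simp
    | succ i ih =>
      calc a ^ (i + 1) * b ^ j = a ^ i * (a * b ^ j) := by rw [pow_succ, mul_assoc]
        _ = a ^ i * b ^ j * (a * z ^ j) := by rw [h1]; group
        _ = b ^ j * a ^ i * (z ^ (i * j) * a) * z ^ j := by rw [ih]; group
        _ = b ^ j * (a ^ i * a) * (z ^ (i * j) * z ^ j) := by rw [((hzc a).pow_left (i * j)).eq]; group
        _ = b ^ j * a ^ (i + 1) * z ^ ((i + 1) * j) := by rw [← pow_succ, ← pow_add, add_mul, one_mul]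
  let v : Fin 27 → P := fun n => b ^ ((n : ℕ) / 3 % 3) * a ^ ((n : ℕ) % 3) * z ^ ((n : ℕ) / 9)
  have hv : ∀ x y c : Fin 27, (c : ℕ) = Table.hm x y → v c = v x * v y := by
    intro x y c hc
    simp only [v, hc, Table.hm]
    set x0 := (x : ℕ) % 3
    set x1 := (x : ℕ) / 3 % 3
    set x2 := (x : ℕ) / 9
    set y0 := (y : ℕ) % 3
    set y1 := (y : ℕ) / 3 % 3
    set y2 := (y : ℕ) / 9
    rw [show ((x0 + y0) % 3 + 3 * ((x1 + y1) % 3) + 9 * ((x2 + y2 + x0 * y1) % 3)) % 3 = (x0 + y0) % 3 by omega,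
      show ((x0 + y0) % 3 + 3 * ((x1 + y1) % 3) + 9 * ((x2 + y2 + x0 * y1) % 3)) / 3 % 3 = (x1 + y1) % 3 by omega,
      show ((x0 + y0) % 3 + 3 * ((x1 + y1) % 3) + 9 * ((x2 + y2 + x0 * y1) % 3)) / 9 = (x2 + y2 + x0 * y1) % 3 by omega,
      ← pow_mod_three (h3 b), ← pow_mod_three (h3 a), ← pow_mod_three (h3 z)]
    symm
    calc b ^ x1 * a ^ x0 * z ^ x2 * (b ^ y1 * a ^ y0 * z ^ y2)
        = b ^ x1 * a ^ x0 * (z ^ x2 * (b ^ y1 * a ^ y0)) * z ^ y2 := by group
      _ = b ^ x1 * (a ^ x0 * b ^ y1) * a ^ y0 * (z ^ x2 * z ^ y2) := by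
          rw [((hzc _).pow_left x2).eq]; group
      _ = b ^ x1 * b ^ y1 * a ^ x0 * (z ^ (x0 * y1) * a ^ y0) * (z ^ x2 * z ^ y2) := by rw [hpull]; group
      _ = (b ^ x1 * b ^ y1) * (a ^ x0 * a ^ y0) * (z ^ x2 * z ^ y2 * z ^ (x0 * y1)) := by
          rw [((hzc _).pow_left (x0 * y1)).eq, (Commute.pow_pow_self z _ _).eq, ← pow_add, ← pow_add]
          simp only [mul_assoc]
          rw [← pow_add, ← pow_add]
          congr 4
          omega
      _ = _ := by rw [← pow_add, ← pow_add, ← pow_add, ← pow_add]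
  have hcomma : ∀ {g : P}, Commute g a → ¬ ∃ i, 0 < i ∧ i < 3 ∧ b ^ i = g := by
    rintro g hg ⟨i, hi0, hi3, rfl⟩
    refine hab (Eq.symm ?_)
    interval_cases i
    · simpa using hg.eq
    · have hb : b = (b ^ 2) ^ 2 := by rw [← pow_mul, pow_mod_three (h3 b)]; simp
      have := (hg.pow_left 2).eq
      rwa [← hb] at this
  have hone : ∀ n : Fin 27, v n = 1 → n = 0 := by
    intro n hn
    simp only [v] at hn
    have hj : (n : ℕ) / 3 % 3 = 0 := by
      by_contra hne
      refine hcomma (g := (a ^ ((n : ℕ) % 3) * z ^ ((n : ℕ) / 9))⁻¹) ?_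
        ⟨_, Nat.pos_of_ne_zero hne, Nat.mod_lt _ (by norm_num), eq_inv_of_mul_eq_one_left (by rw [← mul_assoc, hn])⟩
      exact (((Commute.refl a).pow_left _).mul_left ((hzc a).pow_left _)).inv_left
    rw [hj, pow_zero, one_mul] at hn
    have hi : (n : ℕ) % 3 = 0 := by
      by_contra hne
      have hca : Commute (a ^ ((n : ℕ) % 3)) b := by
        rw [eq_inv_of_mul_eq_one_left hn]
        exact ((hzc b).pow_left _).inv_left
      rcases (show (n : ℕ) % 3 = 1 ∨ (n : ℕ) % 3 = 2 by omega) with e | e <;> rw [e] at hca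
      · exact hab (by simpa using hca.eq)
      · have ha : a = (a ^ 2) ^ 2 := by rw [← pow_mul, pow_mod_three (h3 a)]; simp
        have := (hca.pow_left 2).eq
        rw [← ha] at this
        exact hab this
    rw [hi, pow_zero, one_mul] at hn
    have hk' : (n : ℕ) / 9 = 0 := by
      by_contra hne
      have hz3 := h3 z
      rcases (show (n : ℕ) / 9 = 1 ∨ (n : ℕ) / 9 = 2 by omega) with e | e <;> rw [e] at hn
      · exact hz1 (by simpa using hn)
      · rw [pow_succ, hn, one_mul] at hz3; exact hz1 hz3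
    exact Fin.ext (by simp; omega)
  have hcard : Nat.card (Fin 27) = Nat.card P := by rw [Nat.card_fin, hP]
  refine ⟨v, (Nat.bijective_iff_injective_and_card v).mpr ⟨?_, hcard⟩, hv⟩
  intro x y hxy
  have key : ∀ x y : Fin 27, ∃ w c : Fin 27, (w : ℕ) = Table.hinv y ∧ (c : ℕ) = Table.hm w x ∧
      (c = 0 → x = y) ∧ Table.hm w y = 0 := by decide +kernel
  obtain ⟨w, c, -, hc, hce, hwy⟩ := key x y
  refine hce (hone c ?_)
  rw [hv w x c hc, hxy, ← hv w y 0 hwy.symm]
  simp [v]

end Cfsg.Agent.Lib.SpecG2Two
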