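import Cfsg.Agent.Lib.SpecG2Two.Order12096
import Cfsg.Agent.S0976
import Cfsg.Agent.S1017

/-!
A group of order 12096 without elements of order 9, 14 or 21 has a simple normal subgroup of index two.
-/

set_option autoImplicit false
set_option linter.unusedSectionVars false
set_option linter.style.haveILetI false

namespace Cfsg.Agent.Lib.SpecG2Two

open Subgroup Cfsg Cfsg.Agent.Lib

universe u

variable {G : Type u} [Group G] [Finite G]

theorem Spec.quotient (hS : Spec G) (X : Subgroup G) [X.Normal] : Spec (G ⧸ X) := by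
  have key : ∀ (q : G ⧸ X) (n : ℕ), 0 < n → orderOf q = n → ∃ g : G, orderOf g = n := by
    intro q n hn hq
    obtain ⟨g, rfl⟩ := QuotientGroup.mk_surjective q
    have hd : n ∣ orderOf g := hq ▸ orderOf_map_dvd (QuotientGroup.mk' X) g
    have hpos := orderOf_pos g
    obtain ⟨m, hm⟩ := hd
    refine ⟨g ^ m, ?_⟩
    have hm0 : m ≠ 0 := by rintro rfl; rw [mul_zero] at hm; omega
    rw [orderOf_pow_of_dvd hm0 ⟨n, by rw [hm, mul_comm]⟩, hm, Nat.mul_div_cancel _ (Nat.pos_of_ne_zero hm0)]
  refine ⟨fun q hq => ?_, fun q hq => ?_, fun q hq => ?_⟩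
  · obtain ⟨g, hg⟩ := key q 9 (by norm_num) hq; exact hS.no9 g hg
  · obtain ⟨g, hg⟩ := key q 14 (by norm_num) hq; exact hS.no14 g hg
  · obtain ⟨g, hg⟩ := key q 21 (by norm_num) hq; exact hS.no21 g hg

theorem card_normalizer_seven (hS : Spec G) (hG : Nat.card G ∣ 12096) (P : Sylow 7 G)
    (hP : Nat.card (P : Subgroup G) = 7) :
    ∃ e, e ∣ 6 ∧ Nat.card (normalizer ((P : Subgroup G) : Set G)) = e * 7 := by
  haveI : Fact (Nat.Prime 7) := ⟨by norm_num⟩
  obtain ⟨⟨y, hy⟩, hyo⟩ := exists_prime_orderOf_dvd_card' (G := (P : Subgroup G)) 7 (by rw [hP])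
  rw [Subgroup.orderOf_mk] at hyo
  have hCP : Nat.card (centralizer ((P : Subgroup G) : Set G)) = 7 := by
    rw [← SmallGroups.centralizer_eq_of_prime hP hy (fun e => by rw [e, orderOf_one] at hyo; norm_num at hyo)]
    exact card_centralizer_seven hS hG hyo
  obtain ⟨e, he, hN⟩ := SmallGroups.exists_card_normalizer_eq (p := 7) hP
  exact ⟨e, he, by rw [hN, hCP]⟩

theorem card_sylow_seven (hS : Spec G) (h : Nat.card G = 12096) : Nat.card (Sylow 7 G) = 288 := by
  haveI : Fact (Nat.Prime 7) := ⟨by norm_num⟩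
  obtain ⟨P⟩ := (inferInstance : Nonempty (Sylow 7 G))
  have hP : Nat.card (P : Subgroup G) = 7 := by
    rw [Sylow.card_eq_multiplicity, h, show (12096 : ℕ) = 7 ^ 1 * 1728 by norm_num,
      Nat.factorization_mul (by norm_num) (by norm_num), (by norm_num : Nat.Prime 7).factorization_pow]
    simp [Nat.factorization_eq_zero_of_not_dvd (n := 1728) (p := 7) (by norm_num)]
  obtain ⟨e, he, hN⟩ := card_normalizer_seven hS (by rw [h]) P hP
  have hmul := SmallGroups.card_normalizer_sylow_mul P
  rw [hN, h] at hmul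
  have hmod : Nat.card (Sylow 7 G) % 7 = 1 := card_sylow_modEq_one (p := 7) (G := G)
  have he6 := Nat.le_of_dvd (by norm_num) he
  interval_cases e <;> omega

/-- An element of order seven acting on a subgroup without seven in its order. -/
theorem card_mod_seven (hS : Spec G) (hG : Nat.card G ∣ 12096) {Q : Subgroup G} {y : G}
    (hy : orderOf y = 7) (hyN : y ∈ normalizer (Q : Set G)) (hQ : ¬ 7 ∣ Nat.card Q) :
    Nat.card Q % 7 = 1 := by
  classical
  haveI : Fact (Nat.Prime 7) := ⟨by norm_num⟩
  letI act : MulAction (zpowers y) Q := MulAction.compHom Q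
    ((Subgroup.normalizerMonoidHom Q).comp (Subgroup.inclusion (zpowers_le.mpr hyN)))
  have hp : IsPGroup 7 (zpowers y) := IsPGroup.of_card (n := 1) (by rw [Nat.card_zpowers, hy, pow_one])
  have h1 := hp.card_modEq_card_fixedPoints Q
  have h2 : MulAction.fixedPoints (zpowers y) Q = {(1 : Q)} := by
    ext z
    constructor
    · intro hz
      have h3 : y * (z : G) * y⁻¹ = z := congrArg Subtype.val (hz ⟨y, mem_zpowers y⟩)
      have h4 : (z : G) ∈ centralizer ({y} : Set G) := by
        rw [mem_centralizer_singleton_iff]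
        exact (mul_inv_eq_iff_eq_mul.mp h3).symm
      have h5 := Subgroup.orderOf_dvd_natCard _ h4
      rw [card_centralizer_seven hS hG hy] at h5
      have h6 := Subgroup.orderOf_dvd_natCard _ z.2
      exact Subtype.ext (orderOf_eq_one_iff.mp (Nat.eq_one_of_dvd_coprimes
        ((by norm_num : Nat.Prime 7).coprime_iff_not_dvd.mpr hQ) h5 h6))
    · rintro rfl g
      exact map_one ((Subgroup.normalizerMonoidHom Q) (Subgroup.inclusion (zpowers_le.mpr hyN) g))
  rw [h2, Nat.card_coe_set_eq ({(1 : Q)} : Set Q), Set.ncard_singleton] at h1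
  exact h1

theorem not_three_dvd_of_normal (hS : Spec G) (h : Nat.card G = 12096) (X : Subgroup G) [X.Normal]
    (h7 : ¬ 7 ∣ Nat.card X) : ¬ 3 ∣ Nat.card X := by
  intro h3
  haveI : Fact (Nat.Prime 3) := ⟨Nat.prime_three⟩
  haveI : Fact (Nat.Prime 7) := ⟨by norm_num⟩
  obtain ⟨Q⟩ := (inferInstance : Nonempty (Sylow 3 X))
  set Q' := (Q : Subgroup X).map X.subtype with hQ'
  have hcardQ : Nat.card Q' = Nat.card (Q : Subgroup X) :=
    Nat.card_congr (Subgroup.equivMapOfInjective _ _ X.subtype_injective).toEquiv.symm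
  have htop : normalizer (Q' : Set G) ⊔ X = ⊤ := Sylow.normalizer_sup_eq_top Q
  have hd : Nat.card (G ⧸ X) ∣ Nat.card (normalizer (Q' : Set G)) := by
    refine Subgroup.card_dvd_of_surjective ((QuotientGroup.mk' X).comp (normalizer (Q' : Set G)).subtype) ?_
    rw [← MonoidHom.range_eq_top, MonoidHom.range_comp, Subgroup.range_subtype]
    have : (normalizer (Q' : Set G) ⊔ X).map (QuotientGroup.mk' X) = ⊤ := by
      rw [htop, Subgroup.map_top_of_surjective _ (QuotientGroup.mk'_surjective X)]
    rwa [Subgroup.map_sup, QuotientGroup.map_mk'_self, sup_bot_eq] at this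
  have h7q : 7 ∣ Nat.card (G ⧸ X) := by
    have := Subgroup.card_eq_card_quotient_mul_card_subgroup X
    rw [h] at this
    exact ((by norm_num : Nat.Prime 7).dvd_mul.mp (this ▸ (by norm_num : 7 ∣ 12096))).resolve_right h7
  obtain ⟨⟨y, hy⟩, hyo⟩ := exists_prime_orderOf_dvd_card' (G := normalizer (Q' : Set G)) 7 (h7q.trans hd)
  rw [Subgroup.orderOf_mk] at hyo
  obtain ⟨k, hk⟩ := Q.2.exists_card_eq
  have hk0 : k ≠ 0 := by
    rintro rfl
    have := Q.dvd_card_of_dvd_card h3
    rw [hk, pow_zero] at this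
    norm_num at this
  have hk3 : k ≤ 3 := by
    have h27 : 3 ^ k ∣ 12096 := hk ▸ h ▸ hcardQ ▸ Subgroup.card_subgroup_dvd_card Q'
    by_contra hcon
    have : 3 ^ 4 ∣ 12096 := (pow_dvd_pow 3 (by omega : 4 ≤ k)).trans h27
    norm_num at this
  have h1 := card_mod_seven hS (by rw [h]) hyo hy (by
    rw [hcardQ, hk]; intro hh
    exact absurd ((Nat.prime_dvd_prime_iff_eq (by norm_num) Nat.prime_three).mp
      ((by norm_num : Nat.Prime 7).dvd_of_dvd_pow hh)) (by norm_num))
  rw [hcardQ, hk] at h1
  interval_cases k <;> first | exact hk0 rfl | norm_num at h1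

/-- A nontrivial normal subgroup has order divisible by seven. -/
theorem seven_dvd_of_normal (hS : Spec G) (h : Nat.card G = 12096) (X : Subgroup G) [X.Normal]
    (hX : X ≠ ⊥) : 7 ∣ Nat.card X := by
  by_contra h7
  haveI : Fact (Nat.Prime 7) := ⟨by norm_num⟩
  have h3 := not_three_dvd_of_normal hS h X h7
  obtain ⟨y, hy⟩ := exists_prime_orderOf_dvd_card' (G := G) 7 (by rw [h]; norm_num)
  have h1 := card_mod_seven hS (by rw [h]) hy
    (by rw [Subgroup.normalizer_eq_top_iff.mpr inferInstance]; trivial) h7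
  have hd : Nat.card X ∣ 64 := by
    have h2 : Nat.card X ∣ 64 * (27 * 7) := by
      rw [show (64 : ℕ) * (27 * 7) = 12096 by norm_num, ← h]; exact Subgroup.card_subgroup_dvd_card X
    refine Nat.Coprime.dvd_of_dvd_mul_right ?_ h2
    exact Nat.Coprime.mul_right (Nat.Coprime.pow_right 3 (Nat.prime_three.coprime_iff_not_dvd.mpr h3).symm)
      ((by norm_num : Nat.Prime 7).coprime_iff_not_dvd.mpr h7).symm
  have hne1 : Nat.card X ≠ 1 := fun e => hX (Subgroup.card_eq_one.mp e)
  have hmem : Nat.card X ∈ (64 : ℕ).divisors := Nat.mem_divisors.mpr ⟨hd, by norm_num⟩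
  rw [show (64 : ℕ).divisors = {1, 2, 4, 8, 16, 32, 64} by decide +kernel] at hmem
  simp only [Finset.mem_insert, Finset.mem_singleton] at hmem
  obtain h8 | h64 : Nat.card X = 8 ∨ Nat.card X = 64 := by omega
  · set C := centralizer (X : Set G) with hC
    haveI : C.Normal := Subgroup.normal_centralizer
    have hC7 : ¬ 7 ∣ Nat.card C := by
      intro hd7
      obtain ⟨⟨z, hz⟩, hzo⟩ := exists_prime_orderOf_dvd_card' (G := C) 7 hd7
      rw [Subgroup.orderOf_mk] at hzo
      have hle : X ≤ centralizer ({z} : Set G) := fun w hw => by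
        rw [mem_centralizer_singleton_iff]
        exact mem_centralizer_iff.mp hz w hw
      have := Subgroup.card_dvd_of_le hle
      rw [card_centralizer_seven hS (by rw [h]) hzo, h8] at this
      norm_num at this
    have hC3 := not_three_dvd_of_normal hS h C hC7
    let ψ : G →* Equiv.Perm X := (
      (MulAction.toPermHom (MulAut X) X).comp (MulAut.conjNormal : G →* MulAut X))
    have hker : ψ.ker ≤ C := fun g hg => by
      rw [hC, mem_centralizer_iff]
      intro w hw
      have h4 := congrArg Subtype.val (Equiv.ext_iff.mp (MonoidHom.mem_ker.mp hg) ⟨w, hw⟩)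
      have h5 : g * w * g⁻¹ = w := h4
      exact (mul_inv_eq_iff_eq_mul.mp h5).symm
    have h27 : 27 ∣ Nat.card ψ.range := by
      have hk3 : ¬ 3 ∣ Nat.card ψ.ker := fun hh => hC3 (hh.trans (Subgroup.card_dvd_of_le hker))
      have hmul := Subgroup.card_eq_card_quotient_mul_card_subgroup ψ.ker
      rw [Nat.card_congr (QuotientGroup.quotientKerEquivRange ψ).toEquiv, h] at hmul
      refine Nat.Coprime.dvd_of_dvd_mul_right (Nat.Coprime.pow_left 3
        (Nat.prime_three.coprime_iff_not_dvd.mpr hk3)) (hmul ▸ (by norm_num : 3 ^ 3 ∣ 12096))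
    have h40320 := h27.trans (Subgroup.card_subgroup_dvd_card ψ.range)
    rw [Nat.card_perm, h8] at h40320
    norm_num [Nat.factorial] at h40320
  · have hq : Nat.card (G ⧸ X) = 189 := by
      have := Subgroup.card_eq_card_quotient_mul_card_subgroup X
      rw [h, h64] at this
      omega
    obtain ⟨P⟩ := (inferInstance : Nonempty (Sylow 7 (G ⧸ X)))
    have hP : Nat.card (P : Subgroup (G ⧸ X)) = 7 := by
      rw [Sylow.card_eq_multiplicity, hq, show (189 : ℕ) = 7 ^ 1 * 27 by norm_num,
        Nat.factorization_mul (by norm_num) (by norm_num), (by norm_num : Nat.Prime 7).factorization_pow]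
      simp [Nat.factorization_eq_zero_of_not_dvd (n := 27) (p := 7) (by norm_num)]
    obtain ⟨e, he, hN⟩ := card_normalizer_seven (hS.quotient X) (by rw [hq]; norm_num) P hP
    have hmul := SmallGroups.card_normalizer_sylow_mul P
    rw [hN, hq] at hmul
    have hmod : Nat.card (Sylow 7 (G ⧸ X)) % 7 = 1 := card_sylow_modEq_one (p := 7) (G := G ⧸ X)
    have he6 := Nat.le_of_dvd (by norm_num) he
    interval_cases e <;> omega

/-- The simple subgroup of index two. -/
theorem exists_simple (hS : Spec G) (h : Nat.card G = 12096) :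
    ∃ L : Subgroup G, L.Normal ∧ IsSimpleGroup L ∧ Nat.card L = 6048 := by
  classical
  haveI : Fact (Nat.Prime 7) := ⟨by norm_num⟩
  haveI : Nontrivial G := Finite.one_lt_card_iff_nontrivial.mp (by omega)
  obtain ⟨L, ⟨hLn, hLb⟩, hmin⟩ := Set.exists_min_image {L : Subgroup G | L.Normal ∧ L ≠ ⊥}
    (fun L => Nat.card L) (Set.toFinite _) ⟨⊤, inferInstance, top_ne_bot⟩
  haveI := hLn
  have h7 := seven_dvd_of_normal hS h L hLb
  have hsyl : ∀ P : Sylow 7 G, Nat.card (P : Subgroup G) = 7 := fun P => by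
    rw [Sylow.card_eq_multiplicity, h, show (12096 : ℕ) = 7 ^ 1 * 1728 by norm_num,
      Nat.factorization_mul (by norm_num) (by norm_num), (by norm_num : Nat.Prime 7).factorization_pow]
    simp [Nat.factorization_eq_zero_of_not_dvd (n := 1728) (p := 7) (by norm_num)]
  -- a normal subgroup with an element of order seven contains all of them
  have hall : ∀ (K : Subgroup G) [K.Normal], 7 ∣ Nat.card K → ∀ P : Sylow 7 G, (P : Subgroup G) ≤ K := by
    intro K _ hK P
    obtain ⟨⟨y, hy⟩, hyo⟩ := exists_prime_orderOf_dvd_card' (G := K) 7 hK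
    rw [Subgroup.orderOf_mk] at hyo
    obtain ⟨Q, hQ⟩ := (IsPGroup.of_card (p := 7) (n := 1) (G := zpowers y)
      (by rw [Nat.card_zpowers, hyo, pow_one])).exists_le_sylow
    have hQy : (Q : Subgroup G) ≤ K := by
      rw [← Subgroup.eq_of_le_of_card_ge hQ (by rw [hsyl Q, Nat.card_zpowers, hyo]), zpowers_le]
      exact hy
    obtain ⟨g, rfl⟩ := MulAction.exists_smul_eq G Q P
    intro w hw
    rw [Sylow.coe_subgroup_smul, Subgroup.mem_pointwise_smul_iff_inv_smul_mem, ← map_inv,
      MulAut.smul_def, MulAut.conj_apply, inv_inv] at hw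
    have := (inferInstance : K.Normal).conj_mem _ (hQy hw) g
    simpa [mul_assoc] using this
  -- simplicity
  have hsimple : ∀ X : Subgroup L, X.Normal → X ≠ ⊥ → X = ⊤ := by
    intro X hX hXb
    have h7X : 7 ∣ Nat.card X := by
      by_contra hcon
      obtain ⟨Y, ⟨hYn, hY7⟩, hYmax⟩ := Set.exists_max_image {Y : Subgroup L | Y.Normal ∧ ¬ 7 ∣ Nat.card Y}
        (fun Y => Nat.card Y) (Set.toFinite _) ⟨X, hX, hcon⟩
      haveI := hYn
      have hsup : ∀ Z : Subgroup L, Z.Normal → ¬ 7 ∣ Nat.card Z → Z ≤ Y := by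
        intro Z hZn hZ7
        have h77 : ¬ 7 ∣ Nat.card (Y ⊔ Z : Subgroup L) := by
          intro hd
          obtain ⟨⟨y, hy⟩, hyo⟩ := exists_prime_orderOf_dvd_card' (G := (Y ⊔ Z : Subgroup L)) 7 hd
          rw [Subgroup.orderOf_mk] at hyo
          have hy' : QuotientGroup.mk' Y y ∈ Z.map (QuotientGroup.mk' Y) := by
            have := Subgroup.mem_map_of_mem (QuotientGroup.mk' Y) hy
            rwa [Subgroup.map_sup, QuotientGroup.map_mk'_self, bot_sup_eq] at this
          have h8 := (Subgroup.orderOf_dvd_natCard _ hy').trans (Subgroup.card_map_dvd Z (QuotientGroup.mk' Y))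
          have h9 := orderOf_map_dvd (QuotientGroup.mk' Y) y
          rw [hyo] at h9
          have h10 := orderOf_eq_one_iff.mp (Nat.eq_one_of_dvd_coprimes
            ((by norm_num : Nat.Prime 7).coprime_iff_not_dvd.mpr hZ7) h9 h8)
          have h11 : y ∈ Y := (QuotientGroup.eq_one_iff y).mp h10
          exact hY7 (hyo ▸ Subgroup.orderOf_dvd_natCard _ h11)
        have := Subgroup.eq_of_le_of_card_ge (le_sup_left : Y ≤ Y ⊔ Z)
          (hYmax _ ⟨inferInstance, h77⟩)
        exact this ▸ le_sup_right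
      have hnorm : (Y.map L.subtype).Normal := by
        refine ⟨?_⟩
        rintro _ ⟨w, hw, rfl⟩ g
        let φ : L ≃* L := MulAut.conjNormal g
        have hZ := hsup (Y.map φ.toMonoidHom) (Subgroup.Normal.map hYn _ φ.surjective) (by
          rw [← Nat.card_congr (Subgroup.equivMapOfInjective Y φ.toMonoidHom φ.injective).toEquiv]
          exact hY7)
        exact ⟨φ w, hZ ⟨w, hw, rfl⟩, rfl⟩
      have hYb : Y.map L.subtype = ⊥ := by
        by_contra hne
        refine hY7 ?_
        have h12 := seven_dvd_of_normal hS h _ hne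
        rwa [← Nat.card_congr (Subgroup.equivMapOfInjective Y _ L.subtype_injective).toEquiv] at h12
      rw [Subgroup.map_eq_bot_iff_of_injective _ L.subtype_injective] at hYb
      exact hXb (le_bot_iff.mp (hYb ▸ hsup X hX hcon))
    -- the subgroup generated by all Sylow subgroups at seven
    let K : Subgroup G := ⨆ P : Sylow 7 G, (P : Subgroup G)
    obtain ⟨⟨y, hy⟩, hyo⟩ := exists_prime_orderOf_dvd_card' (G := X) 7 h7X
    rw [Subgroup.orderOf_mk] at hyo
    obtain ⟨Q, hQ⟩ := (IsPGroup.of_card (p := 7) (n := 1) (G := zpowers y)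
      (by rw [Nat.card_zpowers, hyo, pow_one])).exists_le_sylow
    have hQL : Nat.card (Q : Subgroup L) = 7 := by
      rw [Sylow.card_eq_multiplicity]
      have h49 : ¬ 7 ^ 2 ∣ Nat.card L := fun hh => by
        have := hh.trans (Subgroup.card_subgroup_dvd_card L)
        rw [h] at this
        norm_num at this
      have h1 : (Nat.card L).factorization 7 = 1 := by
        have a1 := ((by norm_num : Nat.Prime 7).dvd_iff_one_le_factorization Nat.card_pos.ne').mp h7
        have a2 : ¬ 2 ≤ (Nat.card L).factorization 7 := fun hh =>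
          h49 (((by norm_num : Nat.Prime 7).pow_dvd_iff_le_factorization Nat.card_pos.ne').mpr hh)
        omega
      rw [h1, pow_one]
    have hQX : (Q : Subgroup L) ≤ X := by
      rw [← Subgroup.eq_of_le_of_card_ge hQ (by rw [hQL, Nat.card_zpowers, hyo]), zpowers_le]
      exact hy
    have hPX : ∀ P : Sylow 7 G, (P : Subgroup G) ≤ X.map L.subtype := by
      intro P
      have hPL := hall L h7 P
      obtain ⟨g, hg⟩ := MulAction.exists_smul_eq L Q (P.subtype hPL)
      intro w hw
      refine ⟨⟨w, hPL hw⟩, ?_, rfl⟩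
      have hw' : (⟨w, hPL hw⟩ : L) ∈ (g • Q : Sylow 7 L) := hg ▸ (show (⟨w, hPL hw⟩ : L) ∈ P.subtype hPL from hw)
      change (⟨w, hPL hw⟩ : L) ∈ ((g • Q : Sylow 7 L) : Subgroup L) at hw'
      rw [Sylow.coe_subgroup_smul, Subgroup.mem_pointwise_smul_iff_inv_smul_mem, ← map_inv,
        MulAut.smul_def, MulAut.conj_apply, inv_inv] at hw'
      have := hX.conj_mem _ (hQX hw') g
      simpa [mul_assoc] using this
    have hKn : K.Normal := by
      refine ⟨fun w hw g => ?_⟩
      have : K.map (MulAut.conj g).toMonoidHom ≤ K := by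
        rw [Subgroup.map_iSup]
        refine iSup_le fun P => le_iSup_of_le (g • P) (le_of_eq ?_)
        rw [Sylow.coe_subgroup_smul]
        rfl
      exact this ⟨w, hw, rfl⟩
    have hKb : K ≠ ⊥ := by
      obtain ⟨P⟩ := (inferInstance : Nonempty (Sylow 7 G))
      intro hb
      have := (le_iSup (fun P : Sylow 7 G => (P : Subgroup G)) P).trans hb.le
      rw [le_bot_iff, ← Subgroup.card_eq_one, hsyl] at this
      norm_num at this
    have hKX : K ≤ X.map L.subtype := iSup_le hPX
    have h13 := (hmin K ⟨hKn, hKb⟩).trans (Subgroup.card_le_of_le hKX)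
    rw [← Nat.card_congr (Subgroup.equivMapOfInjective X _ L.subtype_injective).toEquiv] at h13
    exact Subgroup.eq_top_of_le_card X h13
  haveI : Nontrivial L := (Subgroup.nontrivial_iff_ne_bot L).mpr hLb
  have hsim : IsSimpleGroup L := ⟨fun X hX => (em (X = ⊥)).imp id (hsimple X hX)⟩
  -- the index
  obtain ⟨P⟩ := (inferInstance : Nonempty (Sylow 7 G))
  have htop : normalizer ((P : Subgroup G) : Set G) ⊔ L = ⊤ := by
    have h14 := Sylow.normalizer_sup_eq_top (P.subtype (hall L h7 P))
    rwa [Sylow.coe_subtype, Subgroup.map_subgroupOf_eq_of_le (hall L h7 P)] at h14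
  have hd : Nat.card (G ⧸ L) ∣ Nat.card (normalizer ((P : Subgroup G) : Set G)) := by
    refine Subgroup.card_dvd_of_surjective ((QuotientGroup.mk' L).comp (normalizer ((P : Subgroup G) : Set G)).subtype) ?_
    rw [← MonoidHom.range_eq_top, MonoidHom.range_comp, Subgroup.range_subtype]
    have := congrArg (Subgroup.map (QuotientGroup.mk' L)) htop
    rwa [Subgroup.map_sup, QuotientGroup.map_mk'_self, sup_bot_eq,
      Subgroup.map_top_of_surjective _ (QuotientGroup.mk'_surjective L)] at this
  have hN : Nat.card (normalizer ((P : Subgroup G) : Set G)) = 42 := by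
    have := SmallGroups.card_normalizer_sylow_mul P
    rw [card_sylow_seven hS h, h] at this
    omega
  rw [hN] at hd
  have hmul := Subgroup.card_eq_card_quotient_mul_card_subgroup L
  rw [h] at hmul
  obtain ⟨m, hm⟩ := h7
  have hq : Nat.card (G ⧸ L) * m = 1728 := by rw [hm] at hmul; linarith
  have hmem : Nat.card (G ⧸ L) ∈ (42 : ℕ).divisors := Nat.mem_divisors.mpr ⟨hd, by norm_num⟩
  rw [show (42 : ℕ).divisors = {1, 2, 3, 6, 7, 14, 21, 42} by decide +kernel] at hmem
  simp only [Finset.mem_insert, Finset.mem_singleton] at hmem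
  refine ⟨L, hLn, hsim, ?_⟩
  rcases hmem with hi | hi | hi | hi | hi | hi | hi | hi <;> rw [hi] at hmul hq
  · exfalso
    have hLtop : L = ⊤ := Subgroup.eq_top_of_card_eq L (by omega)
    haveI : IsSimpleGroup G := by
      subst hLtop
      exact IsSimpleGroup.isSimpleGroup_of_surjective (Subgroup.topEquiv : (⊤ : Subgroup G) ≃* G).toMonoidHom
        (Subgroup.topEquiv : (⊤ : Subgroup G) ≃* G).surjective
    letI := Fintype.ofFinite G
    exact false_of_simple hS h (card_sylow_seven hS h)
  · omega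
  · exact absurd (show Nat.card L = 4032 by omega) S0976.result
  · exact absurd (show Nat.card L = 2016 by omega) S1017.result
  all_goals omega

end Cfsg.Agent.Lib.SpecG2Two
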