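import Cfsg.Agent.Lib.SpecG2Two.NonAbel
import Cfsg.Agent.Lib.SpecG2Two.Reduction
import Cfsg.Agent.Lib.SpecG2Two.AutHeis
import Cfsg.Agent.Lib.SpecG2Two.Heis

/-!
A group of order 12096 without elements of order 9, 14 or 21 is the permutation group of the model.
-/

set_option autoImplicit false
set_option linter.unusedSectionVars false
set_option linter.style.haveILetI false

namespace Cfsg.Agent.Lib.SpecG2Two

open Subgroup Cfsg Cfsg.Agent.Lib

universe u

variable {G : Type u} [Group G] [Finite G]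

/-- What is needed of the action on the Sylow 3-subgroups. -/
structure Action (G : Type u) [Group G] [Finite G] : Prop where
  card : Nat.card (Sylow 3 G) = 28
  two : ∀ {P Q P' Q' : Sylow 3 G}, P ≠ Q → P' ≠ Q' → ∃ g : G, g • P = P' ∧ g • Q = Q'
  free : ∀ {P Q : Sylow 3 G}, Q ≠ P → ∀ a ∈ (P : Subgroup G), a • Q = Q → a = 1
  faithful : ∀ g : G, (∀ P : Sylow 3 G, g • P = P) → g = 1
  nonabelian : ∀ P : Sylow 3 G, ¬ IsMulCommutative (P : Subgroup G)

theorem card_sylow_three_eq (h : Nat.card G = 12096) (P : Sylow 3 G) : Nat.card (P : Subgroup G) = 27 := by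
  haveI : Fact (Nat.Prime 3) := ⟨Nat.prime_three⟩
  rw [Sylow.card_eq_multiplicity, h, show (12096 : ℕ) = 3 ^ 3 * 448 by norm_num,
    Nat.factorization_mul (by norm_num) (by norm_num), Nat.prime_three.factorization_pow]
  simp [Nat.factorization_eq_zero_of_not_dvd (n := 448) (p := 3) (by norm_num)]

theorem exists_action (hS : Spec G) (h : Nat.card G = 12096) : Action G := by
  classical
  haveI : Fact (Nat.Prime 3) := ⟨Nat.prime_three⟩
  haveI : Fact (Nat.Prime 7) := ⟨by norm_num⟩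
  obtain ⟨L, hLn, hLs, hL⟩ := exists_simple hS h
  haveI := hLn
  haveI := hLs
  letI : Fintype L := Fintype.ofFinite _
  have hSL : Spec L := hS.of_injective L.subtype L.subtype_injective
  obtain ⟨x, χ, ψ, θ₁, θ₂, D⟩ := exists_data hSL hL
  have hq : Nat.card (G ⧸ L) = 2 := by
    have := Subgroup.card_eq_card_quotient_mul_card_subgroup L
    rw [h, hL] at this
    omega
  have hle : ∀ P : Sylow 3 G, (P : Subgroup G) ≤ L := by
    intro P z hz
    obtain ⟨k, hk⟩ := IsPGroup.iff_orderOf.mp P.2 ⟨z, hz⟩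
    rw [Subgroup.orderOf_mk] at hk
    rw [← QuotientGroup.eq_one_iff, ← orderOf_eq_one_iff]
    refine Nat.eq_one_of_dvd_coprimes (a := 3 ^ k) (b := 2) ?_ ?_ ?_
    · exact Nat.Coprime.pow_left k (by norm_num)
    · exact hk ▸ orderOf_map_dvd (QuotientGroup.mk' L) z
    · exact hq ▸ orderOf_dvd_natCard _
  let e : Sylow 3 G → Sylow 3 L := fun P => P.subtype (hle P)
  have einj : Function.Injective e := fun P Q hPQ => Sylow.subtype_injective hPQ
  have esurj : Function.Surjective e := by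
    intro Q
    have hp : IsPGroup 3 ((Q : Subgroup L).map L.subtype) := Q.2.map L.subtype
    obtain ⟨P, hP⟩ := hp.exists_le_sylow
    refine ⟨P, Sylow.ext ?_⟩
    have heq : (Q : Subgroup L).map L.subtype = (P : Subgroup G) := by
      refine Subgroup.eq_of_le_of_card_ge hP ?_
      rw [card_sylow_three_eq h P, ← Nat.card_congr (Subgroup.equivMapOfInjective _ _ L.subtype_injective).toEquiv,
        card_three hL Q]
    rw [Sylow.coe_subtype, ← heq, ← Subgroup.comap_subtype, Subgroup.comap_map_eq_self_of_injective L.subtype_injective]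
  have esmul : ∀ (l : L) (P : Sylow 3 G), l • e P = e ((l : G) • P) := fun l P => by
    show l • P.subtype (hle P) = _
    rw [Sylow.smul_subtype]
    rfl
  have hcard : Nat.card (Sylow 3 G) = 28 := by
    rw [Nat.card_congr (Equiv.ofBijective e ⟨einj, esurj⟩), D.card_sylow hSL hL]
  have hfaith : ∀ g : G, (∀ P : Sylow 3 G, g • P = P) → g = 1 := by
    intro g hg
    set φ := MulAction.toPermHom G (Sylow 3 G)
    have hgk : g ∈ φ.ker := MonoidHom.mem_ker.mpr (Equiv.ext hg)
    have hLker : φ.ker ⊓ L = ⊥ := by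
      rcases (inferInstance : (φ.ker.subgroupOf L).Normal).eq_bot_or_eq_top with h1 | h1
      · rw [Subgroup.subgroupOf_eq_bot, disjoint_iff] at h1
        exact h1
      · exfalso
        haveI : Nontrivial (Sylow 3 G) := Finite.one_lt_card_iff_nontrivial.mp (by rw [hcard]; norm_num)
        obtain ⟨P, Q, hPQ⟩ := exists_pair_ne (Sylow 3 G)
        obtain ⟨l, hl⟩ := MulAction.exists_smul_eq L (e P) (e Q)
        rw [esmul] at hl
        refine hPQ ?_
        have hlk : (l : G) ∈ φ.ker := Subgroup.subgroupOf_eq_top.mp h1 l.2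
        rw [← einj hl]
        exact (Equiv.ext_iff.mp (MonoidHom.mem_ker.mp hlk) P).symm
    obtain ⟨y, hy⟩ := exists_prime_orderOf_dvd_card' (G := L) 7 (by rw [hL]; norm_num)
    have hcomm : g * (y : G) = y * g := by
      have h1 : g * (y : G) * g⁻¹ * (y : G)⁻¹ ∈ φ.ker ⊓ L := by
        refine ⟨?_, (mul_mem (hLn.conj_mem _ y.2 g) (inv_mem y.2) : g * (y : G) * g⁻¹ * (y : G)⁻¹ ∈ L)⟩
        rw [show g * (y : G) * g⁻¹ * (y : G)⁻¹ = g * ((y : G) * g⁻¹ * (y : G)⁻¹) by group]
        exact mul_mem hgk ((inferInstance : φ.ker.Normal).conj_mem _ (inv_mem hgk) _)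
      rw [hLker, Subgroup.mem_bot] at h1
      calc g * (y : G) = g * (y : G) * g⁻¹ * (y : G)⁻¹ * ((y : G) * g) := by group
        _ = y * g := by rw [h1, one_mul]
    have hy' : orderOf (y : G) = 7 := by rw [Subgroup.orderOf_coe, hy]
    have hgy : g ∈ centralizer ({(y : G)} : Set G) := mem_centralizer_singleton_iff.mpr hcomm
    have hC := card_centralizer_seven hS (by rw [h]) hy'
    have hCy : centralizer ({(y : G)} : Set G) = zpowers (y : G) :=
      (Subgroup.eq_of_le_of_card_ge (zpowers_le.mpr (mem_centralizer_singleton_iff.mpr rfl))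
        (by rw [hC, Nat.card_zpowers, hy'])).symm
    have hgL : g ∈ L := zpowers_le.mpr y.2 (hCy ▸ hgy)
    have : g ∈ φ.ker ⊓ L := ⟨hgk, hgL⟩
    rwa [hLker, Subgroup.mem_bot] at this
  refine ⟨hcard, ?_, ?_, hfaith, ?_⟩
  · intro P Q P' Q' hPQ hPQ'
    obtain ⟨h2, -⟩ := D.transitive hSL hL
    rw [MulAction.is_two_pretransitive_iff] at h2
    obtain ⟨l, hl1, hl2⟩ := h2 (fun hc => hPQ (einj hc)) (fun hc => hPQ' (einj hc))
    rw [esmul] at hl1 hl2
    exact ⟨l, einj hl1, einj hl2⟩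
  · intro P Q hQ a ha haQ
    have hne : e Q ≠ e P := fun hc => hQ (einj hc)
    have h1 := (D.regular hSL hL hne).1 (a₁ := ⟨⟨a, hle P ha⟩, Subgroup.mem_subgroupOf.mpr ha⟩) (a₂ := 1)
      (Subtype.ext (by
        show (⟨a, hle P ha⟩ : L) • e Q = ((1 : (e P : Subgroup L)) : L) • e Q
        rw [OneMemClass.coe_one, one_smul, esmul, haQ]))
    exact congrArg (fun z : (e P : Subgroup L) => ((z : L) : G)) h1
  · intro P hcom
    refine D.not_abelian hSL hL (e P) ⟨⟨fun a b => ?_⟩⟩
    apply Subtype.ext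
    apply Subtype.ext
    push_cast
    exact congrArg Subtype.val (hcom.is_comm.comm (⟨((a : L) : G), a.2⟩ : (P : Subgroup G)) ⟨((b : L) : G), b.2⟩)

open Model

/-- Recognition. -/
theorem exists_iso_Std (hS : Spec G) (h : Nat.card G = 12096) : Nonempty (G ≃* Std) := by
  classical
  haveI : Fact (Nat.Prime 3) := ⟨Nat.prime_three⟩
  have A := exists_action hS h
  haveI : Nontrivial (Sylow 3 G) := Finite.one_lt_card_iff_nontrivial.mp (by rw [A.card]; norm_num)
  obtain ⟨P, Q, hPQ⟩ := exists_pair_ne (Sylow 3 G)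
  have hP := card_sylow_three_eq h P
  obtain ⟨v, hv, hvm⟩ := exists_heis hP (fun g => by
    by_cases hg : (g : G) = 1
    · exact Subtype.ext (by push_cast; rw [hg, one_pow])
    · exact Subtype.ext (by
        have h3 := pow_orderOf_eq_one (g : G)
        rw [hS.orderOf_three P.2 g.2 hg] at h3
        push_cast
        exact h3))
    (A.nonabelian P)
  have hPfix : ∀ a ∈ (P : Subgroup G), a • P = P := fun a ha =>
    Sylow.smul_eq_iff_mem_normalizer.mpr (le_normalizer ha)
  -- the points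
  let β : Fin 28 → Sylow 3 G := fun x => if hx : (x : ℕ) < 27 then ((v ⟨x, hx⟩ : (P : Subgroup G)) : G) • Q else P
  have hneP : ∀ a ∈ (P : Subgroup G), a • Q ≠ P := fun a ha e =>
    hPQ.symm (MulAction.injective a (e.trans (hPfix a ha).symm))
  have hβ : Function.Bijective β := by
    refine (Nat.bijective_iff_injective_and_card β).mpr ⟨fun x y hxy => ?_, by rw [Nat.card_fin, A.card]⟩
    simp only [β] at hxy
    split_ifs at hxy with hx hy hy
    · have h1 := A.free hPQ.symm _ (mul_mem (inv_mem (v ⟨y, hy⟩).2) (v ⟨x, hx⟩).2)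
        (by rw [mul_smul, hxy, inv_smul_smul])
      have := hv.1 (Subtype.ext (inv_mul_eq_one.mp h1).symm)
      exact Fin.ext (congrArg Fin.val this :)
    · exact absurd hxy (hneP _ (v ⟨x, hx⟩).2)
    · exact absurd hxy.symm (hneP _ (v ⟨y, hy⟩).2)
    · exact Fin.ext (by omega)
  let E : Fin 28 ≃ Sylow 3 G := Equiv.ofBijective β hβ
  let ρ : G →* Equiv.Perm (Fin 28) :=
    (E.symm.permCongrHom.toMonoidHom).comp (MulAction.toPermHom G (Sylow 3 G))
  have hρ : ∀ (g : G) (x : Fin 28), β (ρ g x) = g • β x := fun g x => E.apply_symm_apply _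
  have hρinj : Function.Injective ρ := by
    refine (injective_iff_map_eq_one ρ).mpr fun g hg => A.faithful g fun S => ?_
    obtain ⟨x, rfl⟩ := hβ.2 S
    rw [← hρ, hg, Equiv.Perm.one_apply]
  have hR : ∀ c : Fin 27, ρ (v c : G) = R c := by
    intro c
    refine Equiv.ext fun x => hβ.1 ?_
    rw [hρ]
    have hRx : ((R c x : Fin 28) : ℕ) = Table.mapR c x := R_apply c.2 x
    simp only [β, Table.mapR] at hRx ⊢
    split_ifs at hRx with hx
    · rw [dif_neg (show ¬ (x : ℕ) < 27 by omega), dif_neg (show ¬ (R c x : ℕ) < 27 by omega)]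
      exact hPfix _ (v c).2
    · have hx' : (x : ℕ) < 27 := by omega
      have hlt := hm_lt c.2 hx'
      rw [dif_pos hx', dif_pos (by omega), ← mul_smul, ← Subgroup.coe_mul,
        hvm c ⟨x, hx'⟩ ⟨(R c x : ℕ), by omega⟩ hRx]
  -- the image
  set H := ρ.range with hH
  have hHc : Nat.card H = 12096 := by
    rw [← h, Nat.card_congr (MonoidHom.ofInjective hρinj).toEquiv]
  have hRH : ∀ a < 27, R a ∈ H := fun a ha => ⟨(v ⟨a, ha⟩ : G), hR ⟨a, ha⟩⟩
  have hβ0 : β 0 = Q := by
    have hv0 : v ⟨0, by decide⟩ = 1 := by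
      have := hvm ⟨0, by decide⟩ ⟨0, by decide⟩ ⟨0, by decide⟩ rfl
      exact left_eq_mul.mp this
    show (if hx : ((0 : Fin 28) : ℕ) < 27 then _ else _) = Q
    rw [dif_pos (by decide)]
    show ((v ⟨0, _⟩ : (P : Subgroup G)) : G) • Q = Q
    rw [hv0, OneMemClass.coe_one, one_smul]
  have hβ27 : β 27 = P := dif_neg (by decide)
  -- the stabilizer of two points
  let S2 : Subgroup G := MulAction.stabilizer G P ⊓ MulAction.stabilizer G Q
  have hS2 : Nat.card S2 = 16 := by
    haveI : MulAction.IsPretransitive G (Sylow 3 G) := inferInstance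
    have h1 := (MulAction.stabilizer G P).card_mul_index
    rw [MulAction.index_stabilizer_of_transitive G P, A.card, h] at h1
    set U := MulAction.stabilizer G P
    letI : Fintype U := Fintype.ofFinite _
    letI : Fintype (Sylow 3 G) := Fintype.ofFinite _
    have horb : MulAction.orbit U Q = {S | S ≠ P} := by
      ext S
      constructor
      · rintro ⟨⟨g, hg⟩, rfl⟩ hcon
        exact hPQ.symm (MulAction.injective g ((show g • Q = P from hcon).trans
          (MulAction.mem_stabilizer_iff.mp hg).symm))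
      · intro hSP
        obtain ⟨g, hg1, hg2⟩ := A.two hPQ (Ne.symm hSP)
        exact ⟨⟨g, MulAction.mem_stabilizer_iff.mpr hg1⟩, hg2⟩
    have h4 := MulAction.card_orbit_mul_card_stabilizer_eq_card_group U Q
    rw [← Nat.card_eq_fintype_card, ← Nat.card_eq_fintype_card, ← Nat.card_eq_fintype_card] at h4
    have h5 : Nat.card (MulAction.orbit U Q) = 27 := by
      rw [horb]
      show Nat.card {S : Sylow 3 G // S ≠ P} = 27
      have h6 : Nat.card {S : Sylow 3 G // S ≠ P} + 1 = Nat.card (Sylow 3 G) := by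
        rw [← Finite.card_option, Nat.card_congr (Equiv.optionSubtypeNe P)]
      rw [A.card] at h6
      omega
    have h7 : Nat.card (MulAction.stabilizer U Q) = Nat.card S2 := Nat.card_congr
      { toFun := fun g => ⟨g.1.1, g.1.2, MulAction.mem_stabilizer_iff.mpr (MulAction.mem_stabilizer_iff.mp g.2)⟩
        invFun := fun g => ⟨⟨g.1, g.2.1⟩, MulAction.mem_stabilizer_iff.mpr (MulAction.mem_stabilizer_iff.mp g.2.2)⟩
        left_inv := fun g => rfl
        right_inv := fun g => rfl }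
    rw [h5] at h4
    omega
  have hpair : ∀ g : G, g ∈ S2 ↔ ρ g 0 = 0 ∧ ρ g 27 = 27 := by
    intro g
    rw [← hβ.1.eq_iff (a := ρ g 0), ← hβ.1.eq_iff (a := ρ g 27), hρ, hρ, hβ0, hβ27, Subgroup.mem_inf,
      MulAction.mem_stabilizer_iff, MulAction.mem_stabilizer_iff]
    exact And.comm
  set A16 := S2.map ρ
  have hA16 : Nat.card A16 = 16 := by
    rw [← Nat.card_congr (Subgroup.equivMapOfInjective S2 ρ hρinj).toEquiv, hS2]
  have hAut : A16 ≤ AutR := by
    rintro _ ⟨g, hg, rfl⟩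
    obtain ⟨h0, h27⟩ := (hpair g).mp hg
    refine ⟨h0, h27, fun c hc => ?_⟩
    have hgP : g ∈ normalizer ((P : Subgroup G) : Set G) :=
      Sylow.smul_eq_iff_mem_normalizer.mp (MulAction.mem_stabilizer_iff.mp hg.1)
    obtain ⟨d, hd⟩ := hv.2 ⟨_, (Subgroup.mem_normalizer_iff.mp hgP _).mp (v ⟨c, hc⟩).2⟩
    have h2 : ρ g * R c * (ρ g)⁻¹ = R d := by
      rw [← hR d, hd, map_mul, map_mul, map_inv, ← hR ⟨c, hc⟩]
    have h3 : ((ρ g c : Fin 28) : ℕ) = d := by
      have h4 := congrArg (fun p : Equiv.Perm (Fin 28) => ((p 0 : Fin 28) : ℕ)) h2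
      simp only [Equiv.Perm.mul_apply, R_first d.2] at h4
      rw [Equiv.Perm.inv_eq_iff_eq.mpr h0.symm, show R c 0 = c from Fin.ext (R_first hc)] at h4
      exact h4
    rw [h3, ← h2, inv_mul_cancel_right]
  obtain ⟨c, hc, hcA⟩ := exists_conj_KS hAut hA16
  -- adjust the labels
  let ρ' : G →* Equiv.Perm (Fin 28) := (MulAut.conj c).toMonoidHom.comp ρ
  have hρ'inj : Function.Injective ρ' := (MulAut.conj c).injective.comp hρinj
  set H' := ρ'.range
  have hH'c : Nat.card H' = 12096 := by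
    rw [← h, Nat.card_congr (MonoidHom.ofInjective hρ'inj).toEquiv]
  have hR' : ∀ a < 27, R a ∈ H' := by
    intro a ha
    have hci : c⁻¹ ∈ AutR := inv_mem hc
    set a' : Fin 28 := ⟨a, by omega⟩
    have hlt := (mem_AutR.mp hci).lt (c := a') ha
    refine ⟨(v ⟨(c⁻¹ a' : Fin 28), hlt⟩ : G), ?_⟩
    show c * ρ _ * c⁻¹ = R a
    rw [hR, (mem_AutR.mp hc).2.2 (c⁻¹ a') hlt, show c (c⁻¹ a') = a' from c.apply_symm_apply a',
      mul_inv_cancel_right]
  have hK' : ∀ k < 16, K k ∈ H' := by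
    intro k hk
    obtain ⟨_, ⟨g, -, rfl⟩, e⟩ := Subgroup.mem_map.mp (hcA.symm ▸ K_mem_KS hk)
    exact ⟨g, e⟩
  have hci0 : c⁻¹ 0 = 0 := by rw [Equiv.Perm.inv_eq_iff_eq, (mem_AutR.mp hc).1]
  have hci27 : c⁻¹ 27 = 27 := by rw [Equiv.Perm.inv_eq_iff_eq, (mem_AutR.mp hc).2.1]
  have hstab : ∀ p ∈ H', p 0 = 0 → p 27 = 27 → ∃ k < 16, p = K k := by
    rintro _ ⟨g, rfl⟩ h0 h27
    refine KS_eq (hcA ▸ Subgroup.mem_map.mpr ⟨ρ g, Subgroup.mem_map_of_mem ρ ((hpair g).mpr ?_), rfl⟩)
    change c (ρ g (c⁻¹ 0)) = 0 at h0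
    change c (ρ g (c⁻¹ 27)) = 27 at h27
    rw [hci0] at h0
    rw [hci27] at h27
    exact ⟨c.injective (h0.trans (mem_AutR.mp hc).1.symm), c.injective (h27.trans (mem_AutR.mp hc).2.1.symm)⟩
  have hswap : ∃ t ∈ H', t 27 = 0 ∧ t 0 = 27 := by
    obtain ⟨g, hg1, hg2⟩ := A.two hPQ hPQ.symm
    refine ⟨ρ' g, ⟨g, rfl⟩, ?_, ?_⟩
    · show c (ρ g (c⁻¹ 27)) = 0
      rw [hci27, show ρ g 27 = 0 from hβ.1 (by rw [hρ, hβ27, hβ0, hg1]), (mem_AutR.mp hc).1]
    · show c (ρ g (c⁻¹ 0)) = 27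
      rw [hci0, show ρ g 0 = 27 from hβ.1 (by rw [hρ, hβ0, hβ27, hg2]), (mem_AutR.mp hc).2.1]
  have hEq : H' = Std := eq_Std hR' hK' (T_mem hR' hK' hstab hswap) hH'c.le
  exact ⟨(MonoidHom.ofInjective hρ'inj).trans (MulEquiv.subgroupCongr hEq)⟩

end Cfsg.Agent.Lib.SpecG2Two
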