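import Cfsg.Agent.Lib.SpecG2Two.TableTwo
import Mathlib.GroupTheory.Perm.Basic
import Mathlib.GroupTheory.Index
import Mathlib.Tactic.Group
import Mathlib.Tactic.NormNum
import Mathlib.Algebra.Group.Subgroup.Finite

/-!
The permutation group of order 12096 on twenty-eight points, and its recognition from a Sylow
3-subgroup and the stabilizer of two points.
-/

set_option autoImplicit false
set_option linter.unusedSectionVars false

namespace Cfsg.Agent.Lib.SpecG2Two.Model

open Cfsg.Agent.Lib.SpecG2Two.Table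

theorem all_range {n : ℕ} {p : ℕ → Bool} (h : (List.range n).all p = true) {i : ℕ} (hi : i < n) :
    p i = true := List.all_eq_true.mp h i (List.mem_range.mpr hi)

theorem all_range' {s n : ℕ} {p : ℕ → Bool} (h : (List.range' s n).all p = true) {i : ℕ} (hs : s ≤ i)
    (hi : i < s + n) : p i = true := List.all_eq_true.mp h i (List.mem_range'_1.mpr ⟨hs, hi⟩)

theorem dig_enc : ∀ (n : ℕ) (f : ℕ → ℕ) (x : ℕ), x < n → dig (enc n f) x = f x % 32
  | 0, _, _, h => absurd h (Nat.not_lt_zero _)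
  | n + 1, f, 0, _ => by simp [dig, enc, Nat.add_mul_mod_self_left]
  | n + 1, f, x + 1, h => by
    have h1 : (f 0 % 32 + 32 * enc n fun y => f (y + 1)) / 32 = enc n fun y => f (y + 1) := by omega
    have h2 := dig_enc n (fun y => f (y + 1)) x (by omega)
    simp only [dig, Nat.shiftRight_eq_div_pow] at h2 ⊢
    rw [enc, show 2 ^ (5 * (x + 1)) = 32 * 2 ^ (5 * x) by rw [mul_add, pow_add, mul_comm]; norm_num,
      ← Nat.div_div_eq_div_mul, h1, h2]

theorem enc_congr : ∀ (n : ℕ) {f g : ℕ → ℕ}, (∀ x < n, f x = g x) → enc n f = enc n g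
  | 0, _, _, _ => rfl
  | n + 1, f, g, h => by
    rw [enc, enc, h 0 (Nat.succ_pos n), enc_congr n (fun x hx => h (x + 1) (Nat.succ_lt_succ hx))]

theorem rfacts {a : ℕ} (ha : a < 27) {x : ℕ} (hx : x < 28) :
    mapR (hinv a) (mapR a x) = x ∧ mapR a (mapR (hinv a) x) = x ∧ mapR a x < 28 := by
  have h := all_range invR ha
  simp only [Bool.and_eq_true, decide_eq_true_eq] at h
  have h2 := all_range h.2 hx
  simpa [Bool.and_eq_true, decide_eq_true_eq, beq_iff_eq, and_assoc] using h2

theorem hinv_lt {a : ℕ} (ha : a < 27) : hinv a < 27 := by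
  have h := all_range invR ha
  simp only [Bool.and_eq_true, decide_eq_true_eq] at h
  exact h.1

theorem kfacts {k : ℕ} (hk : k < 16) : invK k < 16 ∧ mulK (invK k) k = 0 ∧ mulK k (invK k) = 0 ∧
    ∀ x < 28, dig (kCode k) x < 28 := by
  have h := all_range invKK hk
  simp only [Bool.and_eq_true, decide_eq_true_eq, beq_iff_eq] at h
  exact ⟨h.1.1.1, h.1.1.2, h.1.2, fun x hx => of_decide_eq_true (all_range h.2 hx)⟩

theorem kmul {a b : ℕ} (ha : a < 16) (hb : b < 16) : mulK a b < 16 ∧
    ∀ x < 28, dig (kCode a) (dig (kCode b) x) = dig (kCode (mulK a b)) x := by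
  have h := all_range (all_range mulKK ha) hb
  simp only [Bool.and_eq_true, decide_eq_true_eq] at h
  exact ⟨h.1, fun x hx => beq_iff_eq.mp (all_range h.2 hx)⟩

theorem base {x : ℕ} (hx : x < 28) :
    mapR 0 x = x ∧ dig (kCode 0) x = x ∧ dig tCode x < 28 ∧ dig tCode (dig tCode x) = x := by
  have h := all_range baseOK hx
  simpa [Bool.and_eq_true, decide_eq_true_eq, beq_iff_eq, and_assoc] using h

/-- Left translation by an element of the Sylow subgroup. -/
def R (a : ℕ) : Equiv.Perm (Fin 28) where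
  toFun x := ⟨mapR (a % 27) x, (rfacts (Nat.mod_lt _ (by decide)) x.2).2.2⟩
  invFun x := ⟨mapR (hinv (a % 27)) x, (rfacts (hinv_lt (Nat.mod_lt _ (by decide))) x.2).2.2⟩
  left_inv x := Fin.ext (rfacts (Nat.mod_lt _ (by decide)) x.2).1
  right_inv x := Fin.ext (rfacts (Nat.mod_lt _ (by decide)) x.2).2.1

theorem R_apply {a : ℕ} (ha : a < 27) (x : Fin 28) : (R a x : ℕ) = mapR a x := by
  show mapR (a % 27) x = _
  rw [Nat.mod_eq_of_lt ha]

/-- An element of the stabilizer of the two points. -/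
def K (k : ℕ) : Equiv.Perm (Fin 28) where
  toFun x := ⟨dig (kCode (k % 16)) x, (kfacts (Nat.mod_lt _ (by decide))).2.2.2 x x.2⟩
  invFun x := ⟨dig (kCode (invK (k % 16))) x,
    (kfacts (kfacts (Nat.mod_lt _ (by decide))).1).2.2.2 x x.2⟩
  left_inv x := Fin.ext (by
    have h := kfacts (k := k % 16) (Nat.mod_lt _ (by decide))
    show dig _ (dig _ x) = _
    rw [(kmul h.1 (Nat.mod_lt _ (by decide))).2 x x.2, h.2.1, (base x.2).2.1])
  right_inv x := Fin.ext (by
    have h := kfacts (k := k % 16) (Nat.mod_lt _ (by decide))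
    show dig _ (dig _ x) = _
    rw [(kmul (Nat.mod_lt _ (by decide)) h.1).2 x x.2, h.2.2.1, (base x.2).2.1])

theorem K_apply {k : ℕ} (hk : k < 16) (x : Fin 28) : (K k x : ℕ) = dig (kCode k) x := by
  show dig (kCode (k % 16)) x = _
  rw [Nat.mod_eq_of_lt hk]

/-- The involution interchanging the two points. -/
def T : Equiv.Perm (Fin 28) where
  toFun x := ⟨dig tCode x, (base x.2).2.2.1⟩
  invFun x := ⟨dig tCode x, (base x.2).2.2.1⟩
  left_inv x := Fin.ext (base x.2).2.2.2
  right_inv x := Fin.ext (base x.2).2.2.2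

theorem T_apply (x : Fin 28) : (T x : ℕ) = dig tCode x := rfl

theorem hm_lt {a b : ℕ} (ha : a < 27) (hb : b < 27) : hm a b < 27 := by
  have h := all_range (all_range mulRR ha) hb
  simp only [Bool.and_eq_true, decide_eq_true_eq] at h
  exact h.1

theorem R_mul {a b : ℕ} (ha : a < 27) (hb : b < 27) : R a * R b = R (hm a b) := by
  refine Equiv.ext fun x => Fin.ext ?_
  have h := all_range (all_range mulRR ha) hb
  simp only [Bool.and_eq_true, decide_eq_true_eq] at h
  rw [Equiv.Perm.mul_apply, R_apply ha, R_apply hb, R_apply h.1]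
  exact beq_iff_eq.mp (all_range h.2 x.2)

theorem R_zero : R 0 = 1 := Equiv.ext fun x => Fin.ext ((R_apply (by decide) x).trans (base x.2).1)

theorem K_mul {a b : ℕ} (ha : a < 16) (hb : b < 16) : K a * K b = K (mulK a b) := by
  refine Equiv.ext fun x => Fin.ext ?_
  rw [Equiv.Perm.mul_apply, K_apply ha, K_apply hb, K_apply (kmul ha hb).1, (kmul ha hb).2 x x.2]

theorem K_zero : K 0 = 1 := Equiv.ext fun x => Fin.ext ((K_apply (by decide) x).trans (base x.2).2.1)

theorem K_R {k c : ℕ} (hk : k < 16) (hc : c < 27) :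
    dig (kCode k) c < 27 ∧ K k * R c = R (dig (kCode k) c) * K k := by
  have h := all_range (all_range mulKR hk) hc
  simp only [Bool.and_eq_true, decide_eq_true_eq] at h
  refine ⟨h.1, Equiv.ext fun x => Fin.ext ?_⟩
  rw [Equiv.Perm.mul_apply, Equiv.Perm.mul_apply, K_apply hk, R_apply hc, R_apply h.1, K_apply hk]
  exact beq_iff_eq.mp (all_range h.2 x.2)

theorem K_fix {k : ℕ} (hk : k < 16) : K k 0 = 0 ∧ K k 27 = 27 := by
  have h := all_range fixOK hk
  simp only [Bool.and_eq_true, beq_iff_eq] at h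
  exact ⟨Fin.ext ((K_apply hk 0).trans h.1), Fin.ext ((K_apply hk 27).trans h.2)⟩

theorem R_last {a : ℕ} (ha : a < 27) : R a 27 = 27 := Fin.ext (R_apply ha 27)

theorem R_first {a : ℕ} (ha : a < 27) : (R a 0 : ℕ) = a := by
  rw [R_apply ha]
  have : ∀ b : Fin 27, mapR b 0 = b := by decide
  exact this ⟨a, ha⟩

theorem T_swap : T 0 = 27 ∧ T 27 = 0 := ⟨Fin.ext (by decide +kernel), Fin.ext (by decide +kernel)⟩

theorem K_injective {k l : ℕ} (hk : k < 16) (hl : l < 16) (h : K k = K l) : k = l := by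
  have h1 : dig (kCode k) 1 = dig (kCode l) 1 := by
    have := congrArg (fun p : Equiv.Perm (Fin 28) => (p 1 : ℕ)) h
    simpa [K_apply hk, K_apply hl] using this
  have h2 := all_range (all_range orbitOK hk) hl
  simpa [h1] using h2

/-- The group generated by the translations, the stabilizer of two points and the involution. -/
def Std : Subgroup (Equiv.Perm (Fin 28)) :=
  Subgroup.closure (Set.range (fun a : Fin 27 => R a) ∪ Set.range (fun k : Fin 16 => K k) ∪ {T})

theorem R_mem_Std {a : ℕ} (ha : a < 27) : R a ∈ Std :=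
  Subgroup.subset_closure (Or.inl (Or.inl ⟨⟨a, ha⟩, rfl⟩))

theorem K_mem_Std {k : ℕ} (hk : k < 16) : K k ∈ Std :=
  Subgroup.subset_closure (Or.inl (Or.inr ⟨⟨k, hk⟩, rfl⟩))

theorem T_mem_Std : T ∈ Std := Subgroup.subset_closure (Or.inr rfl)

theorem Std_le {H : Subgroup (Equiv.Perm (Fin 28))} (hR : ∀ a < 27, R a ∈ H) (hK : ∀ k < 16, K k ∈ H)
    (hT : T ∈ H) : Std ≤ H := by
  refine (Subgroup.closure_le H).mpr ?_
  rintro p ((⟨a, rfl⟩ | ⟨k, rfl⟩) | rfl)
  exacts [hR a a.2, hK k k.2, hT]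

/-- The Bruhat normal form. -/
def word : Option (Fin 27) × Fin 27 × Fin 16 → Equiv.Perm (Fin 28)
  | (none, d, k) => R d * K k
  | (some c, d, k) => R c * T * (R d * K k)

theorem word_mem : ∀ i, word i ∈ Std
  | (none, d, k) => mul_mem (R_mem_Std d.2) (K_mem_Std k.2)
  | (some c, d, k) => mul_mem (mul_mem (R_mem_Std c.2) T_mem_Std) (mul_mem (R_mem_Std d.2) (K_mem_Std k.2))

theorem word_last_none (d : Fin 27) (k : Fin 16) : word (none, d, k) 27 = 27 := by
  show (R d * K k) 27 = 27
  rw [Equiv.Perm.mul_apply, (K_fix k.2).2, R_last d.2]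

theorem word_last_some (c d : Fin 27) (k : Fin 16) : (word (some c, d, k) 27 : ℕ) = c := by
  show ((R c * T * (R d * K k)) 27 : ℕ) = c
  simp only [Equiv.Perm.mul_apply]
  rw [(K_fix k.2).2, R_last d.2, T_swap.2, R_first c.2]

theorem word_injective : Function.Injective word := by
  have hinner : ∀ (d d' : Fin 27) (k k' : Fin 16), R d * K k = R d' * K k' → (d, k) = (d', k') := by
    intro d d' k k' h
    have h1 : (d : ℕ) = d' := by
      have := congrArg (fun p : Equiv.Perm (Fin 28) => (p 0 : ℕ)) h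
      simpa [(K_fix k.2).1, (K_fix k'.2).1, R_first d.2, R_first d'.2] using this
    obtain rfl := Fin.ext h1
    exact congrArg _ (Fin.ext (K_injective k.2 k'.2 (mul_left_cancel h)))
  rintro ⟨_ | c, d, k⟩ ⟨_ | c', d', k'⟩ h
  · exact congrArg _ (hinner _ _ _ _ h)
  · exfalso
    have h1 := congrArg (fun p : Equiv.Perm (Fin 28) => (p 27 : ℕ)) h
    simp only [word_last_none, word_last_some] at h1
    have := c'.2
    simp at h1
    omega
  · exfalso
    have h1 := congrArg (fun p : Equiv.Perm (Fin 28) => (p 27 : ℕ)) h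
    simp only [word_last_none, word_last_some] at h1
    have := c.2
    simp at h1
    omega
  · have h1 := congrArg (fun p : Equiv.Perm (Fin 28) => (p 27 : ℕ)) h
    simp only [word_last_some] at h1
    obtain rfl := Fin.ext h1
    exact congrArg _ (hinner _ _ _ _ (mul_left_cancel h))

theorem le_card_Std : 12096 ≤ Nat.card Std := by
  have h := Nat.card_le_card_of_injective (fun i => (⟨word i, word_mem i⟩ : Std))
    fun i j e => word_injective (congrArg Subtype.val e)
  simpa [Nat.card_eq_fintype_card] using h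

theorem eq_Std {H : Subgroup (Equiv.Perm (Fin 28))} (hR : ∀ a < 27, R a ∈ H) (hK : ∀ k < 16, K k ∈ H)
    (hT : T ∈ H) (hH : Nat.card H ≤ 12096) : H = Std :=
  (Subgroup.eq_of_le_of_card_ge (Std_le hR hK hT) (hH.trans le_card_Std)).symm

theorem powK_spec {a : ℕ} (ha : a < 16) : ∀ i, powK a i < 16 ∧ K (powK a i) = K a ^ i
  | 0 => ⟨Nat.succ_pos 15, K_zero⟩
  | i + 1 => by
    obtain ⟨h1, h2⟩ := powK_spec ha i
    exact ⟨(kmul ha h1).1, by rw [pow_succ', ← h2, K_mul ha h1, powK]⟩

theorem fK_spec {a b : ℕ} (ha : a < 16) (hb : b < 16) (k : ℕ) : fK a b k < 16 ∧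
    K (fK a b k) = K a ^ (wordK k / 2) * K b ^ (wordK k % 2) := by
  obtain ⟨h1, h2⟩ := powK_spec ha (wordK k / 2)
  unfold fK
  split_ifs with h
  · exact ⟨h1, by rw [h, pow_zero, mul_one, h2]⟩
  · have h3 : wordK k % 2 = 1 := by omega
    exact ⟨(kmul h1 hb).1, by rw [h3, pow_one, ← h2, K_mul h1 hb]⟩

theorem fK_std {k : ℕ} (hk : k < 16) : K k = K 3 ^ (wordK k / 2) * K 1 ^ (wordK k % 2) := by
  have h := all_range wordsOK hk
  simp only [Bool.and_eq_true, beq_iff_eq] at h
  have h1 := (fK_spec (a := 3) (b := 1) (by decide) (by decide) k).2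
  rwa [h.2] at h1

theorem K_mem {H : Subgroup (Equiv.Perm (Fin 28))} (h3 : K 3 ∈ H) (h1 : K 1 ∈ H) {k : ℕ} (hk : k < 16) :
    K k ∈ H := by
  rw [fK_std hk]
  exact mul_mem (pow_mem h3 _) (pow_mem h1 _)

theorem R_mem {H : Subgroup (Equiv.Perm (Fin 28))} (h1 : R 1 ∈ H) (h3 : R 3 ∈ H) {c : ℕ} (hc : c < 27) :
    R c ∈ H := by
  have h := all_range hwordsOK hc
  simp only [Bool.and_eq_true, beq_iff_eq, List.all_eq_true, Bool.or_eq_true] at h
  have key : ∀ l : List ℕ, (∀ g ∈ l, g = 1 ∨ g = 3) → l.foldr hm 0 < 27 ∧ R (l.foldr hm 0) ∈ H := by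
    intro l
    induction l with
    | nil => exact fun _ => ⟨Nat.succ_pos 26, by rw [List.foldr_nil, R_zero]; exact one_mem H⟩
    | cons g l ih =>
      intro hl
      obtain ⟨i1, i2⟩ := ih fun x hx => hl x (List.mem_cons_of_mem g hx)
      have hg : g < 27 ∧ R g ∈ H := by
        rcases hl g List.mem_cons_self with rfl | rfl
        exacts [⟨by decide, h1⟩, ⟨by decide, h3⟩]
      rw [List.foldr_cons]
      exact ⟨hm_lt hg.1 i1, by rw [← R_mul hg.1 i1]; exact mul_mem hg.2 i2⟩
  have h2 := (key _ h.1).2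
  rwa [h.2] at h2

theorem conj_fK {t : Equiv.Perm (Fin 28)} {a b : ℕ} (ha : a < 16) (hb : b < 16)
    (h3 : t * K 3 * t⁻¹ = K a) (h1 : t * K 1 * t⁻¹ = K b) {k : ℕ} (hk : k < 16) :
    t * K k * t⁻¹ = K (fK a b k) := by
  rw [(fK_spec ha hb k).2, fK_std hk, ← h3, ← h1, conj_pow, conj_pow]
  group

/-- A subgroup containing the translations, with stabilizer of two points in `K` and an element
interchanging the two points, contains `T`. -/
theorem T_mem {H : Subgroup (Equiv.Perm (Fin 28))} (hR : ∀ a < 27, R a ∈ H) (hK : ∀ k < 16, K k ∈ H)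
    (hstab : ∀ g ∈ H, g 0 = 0 → g 27 = 27 → ∃ k < 16, g = K k)
    (hswap : ∃ t ∈ H, t 27 = 0 ∧ t 0 = 27) : T ∈ H := by
  obtain ⟨t, htH, ht27, ht0⟩ := hswap
  -- conjugation by such an element preserves the stabilizer
  have conj : ∀ s ∈ H, s 27 = 0 → s 0 = 27 → ∀ k < 16, ∃ l < 16, s * K k * s⁻¹ = K l := by
    intro s hs h27 h0 k hk
    refine hstab _ (mul_mem (mul_mem hs (hK k hk)) (inv_mem hs)) ?_ ?_
    · have : s⁻¹ 0 = 27 := by rw [Equiv.Perm.inv_eq_iff_eq, h27]
      rw [Equiv.Perm.mul_apply, Equiv.Perm.mul_apply, this, (K_fix hk).2, h27]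
    · have : s⁻¹ 27 = 0 := by rw [Equiv.Perm.inv_eq_iff_eq, h0]
      rw [Equiv.Perm.mul_apply, Equiv.Perm.mul_apply, this, (K_fix hk).1, h0]
  have mid : ∀ s : Equiv.Perm (Fin 28), s 27 = 0 → s 0 = 27 → ∀ x : Fin 28, x ≠ 0 → x ≠ 27 →
      1 ≤ (s x : ℕ) ∧ (s x : ℕ) < 1 + 26 := by
    intro s h27 h0 x hx hx'
    have h1 : s x ≠ 0 := fun e => hx' (s.injective (e.trans h27.symm))
    have h2 : s x ≠ 27 := fun e => hx (s.injective (e.trans h0.symm))
    rw [Ne, Fin.ext_iff] at h1 h2
    simp at h1 h2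
    omega
  -- adjust `t` to fix the point 1
  have hadj : ∃ s ∈ H, s 27 = 0 ∧ s 0 = 27 ∧ s 1 = 1 := by
    obtain ⟨b1, b2⟩ := mid t ht27 ht0 1 (by decide) (by decide)
    have h := all_range' freeOK b1 b2
    simp only [Bool.or_eq_true, List.any_eq_true, List.mem_range, beq_iff_eq, List.mem_range'_1] at h
    rcases h with ⟨k, hk, hkx⟩ | ⟨k, ⟨hk1, hk2⟩, hkx⟩
    · refine ⟨(K k)⁻¹ * t, mul_mem (inv_mem (hK k hk)) htH, ?_, ?_, ?_⟩
      · rw [Equiv.Perm.mul_apply, ht27, Equiv.Perm.inv_eq_iff_eq, (K_fix hk).1]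
      · rw [Equiv.Perm.mul_apply, ht0, Equiv.Perm.inv_eq_iff_eq, (K_fix hk).2]
      · rw [Equiv.Perm.mul_apply, Equiv.Perm.inv_eq_iff_eq]
        exact Fin.ext ((K_apply hk 1).trans hkx).symm
    · exfalso
      have hk : k < 16 := by omega
      have hti27 : t⁻¹ 27 = 0 := by rw [Equiv.Perm.inv_eq_iff_eq, ht0]
      have hti0 : t⁻¹ 0 = 27 := by rw [Equiv.Perm.inv_eq_iff_eq, ht27]
      obtain ⟨l, hl, hl'⟩ := conj _ (inv_mem htH) hti27 hti0 k hk
      have h1 : K l 1 = 1 := by
        rw [← hl', inv_inv, Equiv.Perm.mul_apply, Equiv.Perm.mul_apply, Equiv.Perm.inv_eq_iff_eq]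
        exact Fin.ext ((K_apply hk _).trans hkx)
      have h2 : l = 0 := by
        have h3 := all_range (all_range orbitOK hl) (Nat.succ_pos 15)
        have h4 : dig (kCode l) 1 = 1 := (K_apply hl 1).symm.trans (congrArg Fin.val h1)
        have h5 : dig (kCode 0) 1 = 1 := (base (by decide)).2.1
        simpa [h4, h5] using h3
      rw [h2, K_zero, inv_inv] at hl'
      have h6 : K k = K 0 := by
        rw [K_zero]
        exact mul_left_cancel (a := t⁻¹) (mul_right_cancel (b := t) (by rw [hl', mul_one, inv_mul_cancel]))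
      have := K_injective hk (Nat.succ_pos 15) h6
      omega
  obtain ⟨s, hs, h27, h0, h1⟩ := hadj
  obtain ⟨a, ha, ha'⟩ := conj s hs h27 h0 3 (by decide)
  obtain ⟨b, hb, hb'⟩ := conj s hs h27 h0 1 (by decide)
  have hconj : ∀ k < 16, ∀ x : Fin 28, s (K k x) = K (fK a b k) (s x) := by
    intro k hk x
    rw [← conj_fK ha hb ha' hb' hk]
    simp [Equiv.Perm.mul_apply]
  have hpos : ∀ k, 1 ≤ k → k < 16 → 1 ≤ fK a b k := by
    intro k hk1 hk
    by_contra hcon
    have h2 := conj_fK ha hb ha' hb' hk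
    rw [show fK a b k = 0 by omega, K_zero, mul_inv_eq_one, mul_eq_left, ← K_zero] at h2
    have := K_injective hk (Nat.succ_pos 15) h2
    omega
  have hfix : ∀ {k : ℕ}, k < 16 → ∀ x : Fin 28, dig (kCode k) x = x →
      dig (kCode (fK a b k)) (s x) = s x := by
    intro k hk x hx
    have h2 := hconj k hk x
    rw [show K k x = x from Fin.ext ((K_apply hk x).trans hx)] at h2
    rw [← K_apply (fK_spec ha hb k).1, ← h2]
  -- the images of 7 and 9
  have hj : (s 7 : ℕ) ∈ special := by
    have h := sevenFixed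
    simp only [List.any_eq_true, List.mem_range'_1, beq_iff_eq] at h
    obtain ⟨k, ⟨hk1, hk2⟩, hk3⟩ := h
    have hk : k < 16 := by omega
    obtain ⟨b1, b2⟩ := mid s h27 h0 7 (by decide) (by decide)
    have h2 := all_range' (all_range' oneFixed b1 b2) (hpos k hk1 hk)
      (by have := (fK_spec ha hb k).1; omega)
    have h3 := hfix hk 7 hk3
    simpa [h3] using h2
  have hz : (s 9 : ℕ) ∈ [9, 18] := by
    have h := nineFixed
    simp only [List.any_eq_true, List.mem_range'_1, beq_iff_eq, Bool.and_eq_true,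
      Bool.not_eq_true', beq_eq_false_iff_ne] at h
    obtain ⟨k, ⟨hk1, hk2⟩, l, ⟨hl1, hl2⟩, ⟨hk3, hl3⟩, hne⟩ := h
    have hk : k < 16 := by omega
    have hl : l < 16 := by omega
    obtain ⟨b1, b2⟩ := mid s h27 h0 9 (by decide) (by decide)
    have h2 := all_range' (all_range' (all_range' twoFixed b1 b2) (hpos k hk1 hk)
      (by have := (fK_spec ha hb k).1; omega)) (hpos l hl1 hl) (by have := (fK_spec ha hb l).1; omega)
    have hne' : fK a b k ≠ fK a b l := by
      intro e
      refine hne (K_injective hk hl ?_)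
      have e1 := conj_fK ha hb ha' hb' hk
      rw [e, ← conj_fK ha hb ha' hb' hl] at e1
      exact mul_left_cancel (mul_right_cancel e1)
    simpa [hfix hk 9 hk3, hfix hl 9 hl3, hne'] using h2
  set c := enc 28 (cand a b (s 7) (s 9)) with hc
  have hcode : ∀ x : Fin 28, (s x : ℕ) = dig c x := by
    intro x
    have hcx : cand a b (s 7) (s 9) x = (s x : ℕ) := by
      unfold cand
      split_ifs with e1 e2
      · rw [show x = 0 from Fin.ext e1, h0]; rfl
      · rw [show x = 27 from Fin.ext e2, h27]; rfl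
      · have h2 := all_range' decOK (i := x) (by omega) (by omega)
        simp only [Bool.and_eq_true, decide_eq_true_eq, beq_iff_eq, List.contains_iff_mem] at h2
        obtain ⟨⟨d1, d2⟩, d3⟩ := h2
        simp only [List.mem_cons, List.not_mem_nil, or_false] at d2
        obtain ⟨r, hr, hsr⟩ : ∃ r : Fin 28, decK x % 32 = r ∧ imRep (s 7) (s 9) (decK x % 32) = s r := by
          rcases d2 with e | e | e <;> rw [e]
          exacts [⟨1, rfl, by rw [h1]; rfl⟩, ⟨7, rfl, rfl⟩, ⟨9, rfl, rfl⟩]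
        have h3 : K (decK x / 32) r = x := Fin.ext (by rw [K_apply d1, ← hr, d3])
        rw [hsr, ← K_apply (fK_spec ha hb _).1, ← hconj _ d1, h3]
    rw [hc, dig_enc 28 _ x x.2, hcx, Nat.mod_eq_of_lt (by omega)]
  have hclose : closeOK c = true := by
    refine List.all_eq_true.mpr fun i hi => ?_
    rw [List.mem_range'_1] at hi
    let i' : Fin 28 := ⟨i, by omega⟩
    have hy : (s i' : ℕ) < 27 := by
      have h2 : s i' ≠ 27 := fun e => by
        have := congrArg Fin.val (s.injective (e.trans h0.symm))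
        simp [i'] at this
        omega
      rw [Ne, Fin.ext_iff] at h2
      simp at h2
      omega
    have hR0 : R i 0 = i' := Fin.ext (R_first (by omega))
    set y := (s i' : ℕ) with hydef
    set g := (R y * s)⁻¹ * (s * R i * s) with hg
    have hgH : g ∈ H := mul_mem (inv_mem (mul_mem (hR y hy) hs)) (mul_mem (mul_mem hs (hR i (by omega))) hs)
    have hRy : R y 0 = s i' := Fin.ext (R_first hy)
    have hg27 : g 27 = 27 := by
      rw [hg, Equiv.Perm.mul_apply, Equiv.Perm.inv_eq_iff_eq]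
      simp only [Equiv.Perm.mul_apply]
      rw [h27, hR0, hRy]
    have hd : (g 0 : ℕ) < 27 := by
      have h2 : g 0 ≠ 27 := fun e => absurd (g.injective (e.trans hg27.symm)) (by decide)
      rw [Ne, Fin.ext_iff] at h2
      simp at h2
      omega
    set d := (g 0 : ℕ) with hddef
    obtain ⟨k, hk, hk'⟩ := hstab ((R d)⁻¹ * g) (mul_mem (inv_mem (hR d hd)) hgH)
      (by rw [Equiv.Perm.mul_apply, Equiv.Perm.inv_eq_iff_eq]; exact Fin.ext (R_first hd).symm)
      (by rw [Equiv.Perm.mul_apply, hg27, Equiv.Perm.inv_eq_iff_eq, R_last hd])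
    have heq : s * R i * s = R y * s * (R d * K k) := by rw [← hk', mul_inv_cancel_left, hg]; group
    have hdig : ∀ x : Fin 28, dig c (mapR i (dig c x)) = mapR y (dig c (mapR d (dig (kCode k) x))) := by
      intro x
      have h2 := congrArg (fun p : Equiv.Perm (Fin 28) => (p x : ℕ)) heq
      simp only [Equiv.Perm.mul_apply] at h2
      simpa only [R_apply hy, R_apply hd, R_apply (show i < 27 by omega), K_apply hk, hcode] using h2
    have hdy : dig c i = y := (hcode i').symm
    have hzero : hm y (dig c d) = 0 := by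
      have h2 := hdig 0
      have e1 : dig c ((0 : Fin 28) : ℕ) = 27 := by rw [← hcode, h0]; rfl
      have e2 : dig (kCode k) ((0 : Fin 28) : ℕ) = 0 := by rw [← K_apply hk, (K_fix hk).1]; rfl
      have e3 : mapR d 0 = d := (R_apply hd 0).symm.trans (R_first hd)
      have e4 : dig c 27 = 0 := by
        have := hcode 27
        rw [h27] at this
        exact this.symm
      rw [e1, e2, e3, show mapR i 27 = 27 from rfl, e4] at h2
      unfold mapR at h2
      split_ifs at h2 with h3
      exact h2.symm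
    simp only [closeAt, hdy, Bool.and_eq_true, decide_eq_true_eq, List.any_eq_true, List.mem_range,
      beq_iff_eq, List.all_eq_true]
    exact ⟨hy, d, hd, hzero, k, hk, fun x hx => hdig ⟨x, hx⟩⟩
  have hfound : c = tCode := by
    have h := all_range (all_range searchOK ha) hb
    have h2 := List.all_eq_true.mp (List.all_eq_true.mp h _ hj) _ hz
    rw [← hc, hclose] at h2
    simpa using h2
  have : s = T := Equiv.ext fun x => Fin.ext (by rw [hcode, T_apply, hfound])
  exact this ▸ hs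

/-- The iterated images. -/
theorem pow_apply_iter {p : Equiv.Perm (Fin 28)} {c : ℕ} (h : ∀ x : Fin 28, (p x : ℕ) = dig c x) :
    ∀ (n : ℕ) (x : Fin 28), ((p ^ n) x : ℕ) = iter c n x
  | 0, x => rfl
  | n + 1, x => by rw [pow_succ', Equiv.Perm.mul_apply, h, pow_apply_iter h n, iter]

theorem small {p : Equiv.Perm (Fin 28)} {c : ℕ} (h : ∀ x : Fin 28, (p x : ℕ) = dig c x)
    (hc : smallOrder c = true) : p ^ 7 = 1 ∨ p ^ 24 = 1 := by
  simp only [smallOrder, Bool.or_eq_true, List.all_eq_true, List.mem_range, beq_iff_eq] at hc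
  rcases hc with hc | hc
  · exact Or.inl (Equiv.ext fun x => Fin.ext ((pow_apply_iter h 7 x).trans (hc x x.2)))
  · exact Or.inr (Equiv.ext fun x => Fin.ext ((pow_apply_iter h 24 x).trans (hc x x.2)))

/-- In a group of order 12096 containing the normal forms every element has order dividing 7 or 24. -/
theorem orders {H : Subgroup (Equiv.Perm (Fin 28))} (hH : Std ≤ H) (hcard : Nat.card H ≤ 12096)
    {p : Equiv.Perm (Fin 28)} (hp : p ∈ H) : p ^ 7 = 1 ∨ p ^ 24 = 1 := by
  have hbij : Function.Bijective fun i => (⟨word i, hH (word_mem i)⟩ : H) := by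
    refine Function.Injective.bijective_of_nat_card_le (fun i j e => word_injective (congrArg Subtype.val e)) ?_
    simpa [Nat.card_eq_fintype_card] using hcard
  obtain ⟨⟨o, d, k⟩, hi⟩ := hbij.2 ⟨p, hp⟩
  have hi' : word (o, d, k) = p := congrArg Subtype.val hi
  subst hi'
  have hA : ∀ {d k : ℕ}, d < 27 → k < 16 → ∀ x : Fin 28,
      ((R d * K k) x : ℕ) = dig (enc 28 (repA d k)) x := by
    intro d k hd hk x
    have h : ((R d * K k) x : ℕ) = repA d k x := by
      rw [Equiv.Perm.mul_apply, R_apply hd, K_apply hk]; rfl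
    rw [dig_enc 28 _ x x.2, ← h, Nat.mod_eq_of_lt (by omega)]
  have hB : ∀ {d k : ℕ}, d < 27 → k < 16 → ∀ x : Fin 28,
      ((T * (R d * K k)) x : ℕ) = dig (enc 28 (repB d k)) x := by
    intro d k hd hk x
    have h : ((T * (R d * K k)) x : ℕ) = repB d k x := by
      rw [Equiv.Perm.mul_apply, T_apply, Equiv.Perm.mul_apply, R_apply hd, K_apply hk]; rfl
    rw [dig_enc 28 _ x x.2, ← h, Nat.mod_eq_of_lt (by omega)]
  match o with
  | none =>
    have h := all_range (all_range orderOK d.2) k.2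
    simp only [Bool.and_eq_true] at h
    exact small (hA d.2 k.2) h.1
  | some e =>
    obtain ⟨hc1, hc2⟩ := K_R k.2 e.2
    have he' : hm d (dig (kCode k) e) < 27 := hm_lt d.2 hc1
    have h := all_range (all_range orderOK he') k.2
    simp only [Bool.and_eq_true] at h
    have hconj : word (some e, d, k) = R e * (T * (R (hm d (dig (kCode k) e)) * K k)) * (R e)⁻¹ := by
      rw [← R_mul d.2 hc1, mul_assoc (R (d : ℕ)), ← hc2]
      show R e * T * (R d * K k) = _
      group
    rcases small (hB he' k.2) h.2 with h1 | h1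
    · left; rw [hconj, conj_pow, h1, mul_one, mul_inv_cancel]
    · right; rw [hconj, conj_pow, h1, mul_one, mul_inv_cancel]

end Cfsg.Agent.Lib.SpecG2Two.Model
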