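import Cfsg.Agent.Lib.SpecG2Two.Model
import Cfsg.Agent.Lib.SpecG2Two.Common
import Cfsg.Agent.Lib.ChevTwo.G2Two

/-!
`G₂(2)` is isomorphic to the permutation group of order 12096, so it has no elements of order 9, 14
or 21.
-/

set_option autoImplicit false
set_option maxRecDepth 20000

namespace Cfsg.Agent.Lib.SpecG2Two.Model

open Cfsg.Lie Cfsg.Agent.Lib.Chev Cfsg.Agent.Lib.ChevTwo Cfsg.Agent.Lib.SpecG2Two

/-- The labels. -/
def labels (x : ℕ) : ℕ :=
  ([0, 1, 12, 2, 19, 16, 6, 5, 24, 25, 17, 13, 11, 8, 21, 20, 9, 18, 26, 4, 7, 22, 3, 10, 14, 23, 15, 27] :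
    List ℕ).getD x 0

/-- The inverse labels. -/
def labelsInv (x : ℕ) : ℕ :=
  ([0, 1, 3, 22, 19, 7, 6, 20, 13, 16, 23, 12, 2, 11, 24, 26, 5, 10, 17, 4, 15, 14, 21, 25, 8, 9, 18, 27] :
    List ℕ).getD x 0

theorem labelsOK : ∀ x : Fin 28, labels x < 28 ∧ labelsInv x < 28 ∧ labelsInv (labels x) = x ∧
    labels (labelsInv x) = x := by decide +kernel

/-- Relabelling. -/
def L : Equiv.Perm (Fin 28) where
  toFun x := ⟨labels x, (labelsOK x).1⟩
  invFun x := ⟨labelsInv x, (labelsOK x).2.1⟩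
  left_inv x := Fin.ext (labelsOK x).2.2.1
  right_inv x := Fin.ext (labelsOK x).2.2.2

theorem word_r1 : ∀ x, (([1, 6, 3, 9] : List ℕ).map g2Perm).prod (L x) = L (R 1 x) := by decide +kernel
theorem word_r3 : ∀ x, (([11, 0, 3, 9] : List ℕ).map g2Perm).prod (L x) = L (R 3 x) := by decide +kernel
theorem word_g1 : ∀ x, (([3, 10, 4, 11, 5] : List ℕ).map g2Perm).prod (L x) = L (K 3 x) := by decide +kernel
theorem word_g2 : ∀ x, (([9, 1, 3, 9] : List ℕ).map g2Perm).prod (L x) = L (K 1 x) := by decide +kernel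
theorem word_t : ∀ x, (([0, 4, 7, 4, 11, 0] : List ℕ).map g2Perm).prod (L x) = L (T x) := by decide +kernel

/-- `G₂(2)` is the permutation model. -/
theorem exists_iso {F : Type*} [Field F] [Fintype F] (hF : Fintype.card F = 2) :
    Nonempty (↥(chevG2.group F) ≃* Std) ∧ Nat.card Std = 12096 := by
  obtain ⟨f, hf, -⟩ := exists_hom (Rooted.mk checked_G2 descent_G2) g2Data (by decide +kernel)
  let θ : ↥(chevG2.group (ZMod 2)) →* Equiv.Perm (Fin 28) :=
    (MulAut.conj L⁻¹).toMonoidHom.comp ((MonoidHom.fst _ _).comp f)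
  have hθ : ∀ (l : List ℕ) (p : Equiv.Perm (Fin 28)), (∀ r ∈ l, r < 12) →
      (∀ x, (l.map g2Perm).prod (L x) = L (p x)) → p ∈ θ.range := by
    intro l p hl hp
    have h1 : (l.map g2Perm).prod ∈ ((MonoidHom.fst _ _).comp f).range := by
      refine Subgroup.list_prod_mem _ fun y hy => ?_
      obtain ⟨r, hr, rfl⟩ := List.mem_map.1 hy
      obtain ⟨g, hg⟩ := hf r (hl r hr)
      exact ⟨g, congrArg Prod.fst hg⟩
    obtain ⟨g, hg⟩ := h1
    refine ⟨g, Equiv.ext fun x => ?_⟩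
    show (L⁻¹ * ((MonoidHom.fst _ _).comp f) g * L⁻¹⁻¹) x = p x
    rw [hg, inv_inv, Equiv.Perm.mul_apply, Equiv.Perm.mul_apply, hp, Equiv.Perm.inv_eq_iff_eq]
  have hle : Std ≤ θ.range := Std_le
    (fun a ha => R_mem (hθ _ _ (by decide) word_r1) (hθ _ _ (by decide) word_r3) ha)
    (fun k hk => K_mem (hθ _ _ (by decide) word_g1) (hθ _ _ (by decide) word_g2) hk)
    (hθ _ _ (by decide) word_t)
  have hG : Nat.card ↥(chevG2.group (ZMod 2)) = 12096 :=
    (S1059.result (F := ZMod 2) (ZMod.card 2)).trans (by norm_num)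
  have hr : Nat.card θ.range ≤ 12096 := hG ▸ Nat.card_le_card_of_surjective _ θ.rangeRestrict_surjective
  have heq : Std = θ.range := Subgroup.eq_of_le_of_card_ge hle (hr.trans le_card_Std)
  have hbij : Function.Bijective θ.rangeRestrict :=
    θ.rangeRestrict_surjective.bijective_of_nat_card_le (by rw [hG, ← heq]; exact le_card_Std)
  let e : ↥(chevG2.group (ZMod 2)) ≃* Std :=
    (MulEquiv.ofBijective θ.rangeRestrict hbij).trans (MulEquiv.subgroupCongr heq.symm)
  let φ : F ≃+* ZMod 2 := (ZMod.ringEquivOfPrime F Nat.prime_two hF).symm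
  exact ⟨⟨(G2Natural.groupMap chevG2 φ).trans e⟩, by rw [← Nat.card_congr e.toEquiv, hG]⟩

theorem spec_Std (h : Nat.card Std = 12096) : Spec Std := by
  have key : ∀ g : Std, orderOf g ∣ 7 ∨ orderOf g ∣ 24 := by
    intro g
    rcases orders le_rfl h.le g.2 with h1 | h1
    · exact Or.inl (orderOf_dvd_of_pow_eq_one (Subtype.ext (by simpa using h1)))
    · exact Or.inr (orderOf_dvd_of_pow_eq_one (Subtype.ext (by simpa using h1)))
  refine ⟨fun g hg => ?_, fun g hg => ?_, fun g hg => ?_⟩ <;>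
    rcases key g with h1 | h1 <;> rw [hg] at h1 <;> norm_num at h1

/-- `G₂(2)` has no elements of order 9, 14 or 21. -/
theorem spec_group {F : Type*} [Field F] [Fintype F] (hF : Fintype.card F = 2) :
    Spec ↥(chevG2.group F) := by
  obtain ⟨⟨e⟩, h⟩ := exists_iso hF
  exact (spec_Std h).of_injective e.toMonoidHom e.injective

end Cfsg.Agent.Lib.SpecG2Two.Model
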