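import Cfsg.Agent.Lib.SpecG2Two.Regular

/-!
The Sylow 3-subgroups are not abelian.
-/

set_option autoImplicit false
set_option linter.unusedSectionVars false
set_option linter.style.haveILetI false

namespace Cfsg.Agent.Lib.SpecG2Two

open scoped ComplexConjugate
open Finset Subgroup Cfsg Cfsg.Agent.Lib
open Cfsg.Agent.Lib.DefectOne Cfsg.Agent.Lib.BrauerReynolds Cfsg.Agent.Lib.BrauerTuan

universe u

variable {G : Type u} [Group G] [Fintype G] [IsSimpleGroup G] {x : G} {χ ψ θ₁ θ₂ : IrrCharacter G}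

/-- A subgroup of order nine inverted by an involution has sum 18. -/
theorem Data.inverted_sum (D : Data x χ ψ θ₁ θ₂) (hS : Spec G) (W : Subgroup G) [Fintype W]
    (hW : Nat.card W = 9) {t : G} (ht : orderOf t = 2) (hinv : ∀ a ∈ W, t * a * t⁻¹ = a⁻¹)
    (c : W → ℤ) (hc : ∀ a : W, (χ : G → ℂ) a = (c a : ℂ) ∧
      ((a = 1 ∧ c a = 6) ∨ (a ≠ 1 ∧ (c a = 3 ∨ c a = 0 ∨ c a = -3)))) : ∑ a : W, c a = 18 := by
  classical
  haveI : Fact (Nat.Prime 3) := ⟨Nat.prime_three⟩
  have hW3 : IsPGroup 3 W := IsPGroup.of_card (n := 2) (by rw [hW]; norm_num)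
  obtain ⟨m, hm⟩ := exists_fixed_mult χ W
  have hm' : ∑ a : W, c a = 9 * (m : ℤ) := by
    rw [hW] at hm
    have h1 : ((∑ a : W, c a : ℤ) : ℂ) = ((9 * (m : ℤ) : ℤ) : ℂ) := by
      push_cast
      rw [← sum_congr rfl fun a _ => (hc a).1, hm]
      norm_num
    exact Int.cast_injective h1
  -- some fixed vector
  have hm0 : m ≠ 0 := by
    intro h0
    have h1 : ∑ a : W, (χ : G → ℂ) a = 0 := by rw [hm, h0, Nat.cast_zero, mul_zero]
    have h2 := sum_mul_eq_zero χ h1 t
    have h3 : ∀ a : W, (χ : G → ℂ) ((a : G) * t) = (χ : G → ℂ) t := by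
      intro a
      have ha3 : (a : G) ^ 3 = 1 := by
        by_cases ha : (a : G) = 1
        · rw [ha, one_pow]
        · rw [← hS.orderOf_three hW3 a.2 ha]; exact pow_orderOf_eq_one _
      set v : G := (a : G) * a with hv
      have hvW : v ∈ W := mul_mem a.2 a.2
      have h4 : v * t * v⁻¹ = (a : G) * t := by
        have h5 : t * v⁻¹ = v * t := by
          have htt : t * t = 1 := by rw [← sq, ← ht, pow_orderOf_eq_one]
          have hti : t⁻¹ = t := inv_eq_of_mul_eq_one_right htt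
          rw [← hinv v hvW, hti, ← mul_assoc, ← mul_assoc, htt, one_mul]
        rw [mul_assoc, h5, ← mul_assoc, hv]
        calc (a : G) * a * ((a : G) * a) * t = (a : G) ^ 3 * (a : G) * t := by rw [pow_three]; group
          _ = (a : G) * t := by rw [ha3, one_mul]
      rw [← h4]
      exact Chars.irr_isClassFunction χ t v
    rw [sum_congr rfl fun a _ => h3 a, sum_const, card_univ, ← Nat.card_eq_fintype_card, hW,
      (D.inv t ht).1] at h2
    norm_num at h2
  -- at most three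
  have hle : ∑ a : W, c a ≤ 30 := by
    rw [← add_sum_erase univ c (mem_univ (1 : W))]
    have h1 : c 1 = 6 := by
      rcases (hc 1).2 with ⟨-, e⟩ | ⟨e, -⟩
      · exact e
      · exact absurd rfl e
    have h2 : ∑ a ∈ univ.erase (1 : W), c a ≤ ∑ _a ∈ univ.erase (1 : W), (3 : ℤ) := by
      refine sum_le_sum fun a ha => ?_
      rcases (hc a).2 with ⟨e, -⟩ | ⟨-, e | e | e⟩
      · exact absurd e (mem_erase.mp ha).1
      all_goals omega
    rw [sum_const, card_erase_of_mem (mem_univ _), card_univ, ← Nat.card_eq_fintype_card, hW] at h2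
    rw [h1]
    norm_num at h2
    linarith [add_sum_erase univ c (mem_univ (1 : W))]
  -- parity
  have heven : ((∑ a : W, c a : ℤ) : ZMod 2) = 0 := by
    push_cast
    rw [← add_sum_erase univ _ (mem_univ (1 : W))]
    have h1 : ((c 1 : ℤ) : ZMod 2) = 0 := by
      rcases (hc 1).2 with ⟨-, e⟩ | ⟨e, -⟩
      · rw [e]; decide
      · exact absurd rfl e
    rw [h1, zero_add]
    have h2 : ∀ a : W, c a⁻¹ = c a := fun a => by
      have h3 : ((c a⁻¹ : ℤ) : ℂ) = ((c a : ℤ) : ℂ) := by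
        rw [← (hc a⁻¹).1, ← (hc a).1, Subgroup.coe_inv, apply_inv, D.real]
      exact Int.cast_injective h3
    refine Finset.sum_involution (fun a _ => a⁻¹) (fun a _ => by rw [h2]; exact CharTwo.add_self_eq_zero _)
      (fun a ha _ hcon => ?_) (fun a ha => ?_) (fun a _ => inv_inv a)
    · have h4 : (a : G) ^ 2 = 1 := by
        rw [sq]
        nth_rewrite 1 [← congrArg Subtype.val hcon]
        rw [Subgroup.coe_inv, inv_mul_cancel]
      have h5 := hS.orderOf_three hW3 a.2 fun e => (mem_erase.mp ha).1 (Subtype.ext e)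
      have := Nat.le_of_dvd two_pos (orderOf_dvd_of_pow_eq_one h4)
      omega
    · exact mem_erase.mpr ⟨inv_ne_one.mpr (mem_erase.mp ha).1, mem_univ _⟩
  obtain ⟨k, hk⟩ := (ZMod.intCast_zmod_eq_zero_iff_dvd (∑ a : W, c a) 2).mp heven
  omega

/-- The elements of an abelian subgroup inverted by `t`. -/
def invSub (P : Subgroup G) [IsMulCommutative P] (t : G) : Subgroup G where
  carrier := {a | a ∈ P ∧ t * a * t⁻¹ = a⁻¹}
  one_mem' := ⟨one_mem P, by group⟩
  mul_mem' {a b} ha hb := ⟨mul_mem ha.1 hb.1, by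
    have hab : a⁻¹ * b⁻¹ = b⁻¹ * a⁻¹ := congrArg Subtype.val
      (IsMulCommutative.is_comm.comm (⟨a⁻¹, inv_mem ha.1⟩ : P) ⟨b⁻¹, inv_mem hb.1⟩)
    calc t * (a * b) * t⁻¹ = (t * a * t⁻¹) * (t * b * t⁻¹) := by group
      _ = (a * b)⁻¹ := by rw [ha.2, hb.2, hab, mul_inv_rev]⟩
  inv_mem' {a} ha := ⟨inv_mem ha.1, by
    calc t * a⁻¹ * t⁻¹ = (t * a * t⁻¹)⁻¹ := by group
      _ = a⁻¹⁻¹ := by rw [ha.2]⟩

/-- Nine elements are inverted. -/
theorem Data.card_invSub (D : Data x χ ψ θ₁ θ₂) (hS : Spec G) (h : Nat.card G = 6048) {P Q : Sylow 3 G}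
    [IsMulCommutative (P : Subgroup G)] (hQ : Q ≠ P) {t : G} (ht : orderOf t = 2) (htK : t ∈ pairStab P Q) :
    Nat.card (invSub (P : Subgroup G) t) = 9 := by
  classical
  have htt : t * t = 1 := by rw [← sq, ← ht, pow_orderOf_eq_one]
  have hti : t⁻¹ = t := inv_eq_of_mul_eq_one_right htt
  have hcm : ∀ a b : G, a ∈ (P : Subgroup G) → b ∈ (P : Subgroup G) → a * b = b * a := fun a b ha hb =>
    congrArg Subtype.val (IsMulCommutative.is_comm.comm (⟨a, ha⟩ : (P : Subgroup G)) ⟨b, hb⟩)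
  have hm : ∀ a : (P : Subgroup G), t * (a : G) * t⁻¹ ∈ (P : Subgroup G) := fun a => conj_mem_of_stab htK.1 a.2
  let f : (P : Subgroup G) →* (P : Subgroup G) := MonoidHom.mk' (fun a => ⟨a * (t * a * t⁻¹), mul_mem a.2 (hm a)⟩)
    fun a b => Subtype.ext (by
      show (a : G) * b * (t * ((a : G) * b) * t⁻¹) = (a : G) * (t * a * t⁻¹) * ((b : G) * (t * b * t⁻¹))
      calc (a : G) * b * (t * ((a : G) * b) * t⁻¹) = (a : G) * ((b : G) * (t * a * t⁻¹)) * (t * b * t⁻¹) := by group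
        _ = (a : G) * ((t * a * t⁻¹) * b) * (t * b * t⁻¹) := by rw [hcm _ _ b.2 (hm a)]
        _ = _ := by group)
  have hker : Nat.card f.ker = Nat.card (invSub (P : Subgroup G) t) := Nat.card_congr
    { toFun := fun a => ⟨a.1.1, a.1.2, by
        have h1 : (a.1 : G) * (t * a.1 * t⁻¹) = 1 := congrArg Subtype.val (MonoidHom.mem_ker.mp a.2)
        exact eq_inv_of_mul_eq_one_right h1⟩
      invFun := fun a => ⟨⟨a.1, a.2.1⟩, MonoidHom.mem_ker.mpr (Subtype.ext (by
        show (a : G) * (t * a * t⁻¹) = 1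
        rw [a.2.2, mul_inv_cancel]))⟩
      left_inv := fun a => rfl
      right_inv := fun a => rfl }
  have hrange : Nat.card f.range = 3 := by
    refine Eq.trans ?_ (D.card_fixed hS h hQ ht htK)
    refine Nat.card_congr ((Equiv.setCongr (?_ : (f.range : Set (P : Subgroup G)) =
      {a : (P : Subgroup G) | t * (a : G) * t⁻¹ = a})))
    ext a
    constructor
    · rintro ⟨b, rfl⟩
      show t * ((b : G) * (t * b * t⁻¹)) * t⁻¹ = (b : G) * (t * b * t⁻¹)
      calc t * ((b : G) * (t * b * t⁻¹)) * t⁻¹ = (t * b * t⁻¹) * ((t * t) * b * (t * t)⁻¹) := by group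
        _ = (t * b * t⁻¹) * b := by rw [htt]; group
        _ = _ := hcm _ _ (hm b) b.2
    · intro ha
      have ha' : t * (a : G) * t⁻¹ = a := ha
      have ha3 : (a : G) ^ 3 = 1 := by
        by_cases h1 : (a : G) = 1
        · rw [h1, one_pow]
        · exact (congrArg ((a : G) ^ ·) (hS.orderOf_three P.2 a.2 h1)).symm.trans (pow_orderOf_eq_one _)
      refine ⟨a * a, Subtype.ext ?_⟩
      show (a : G) * a * (t * ((a : G) * a) * t⁻¹) = a
      calc (a : G) * a * (t * ((a : G) * a) * t⁻¹) = (a : G) * a * ((t * a * t⁻¹) * (t * a * t⁻¹)) := by group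
        _ = (a : G) ^ 3 * a := by rw [ha', pow_three]; group
        _ = a := by rw [ha3, one_mul]
  have h1 := Subgroup.card_eq_card_quotient_mul_card_subgroup f.ker
  rw [Nat.card_congr (QuotientGroup.quotientKerEquivRange f).toEquiv, hrange, hker, card_three h P] at h1
  omega

/-- The arithmetic of the three planes. -/
theorem arith (f : Fin 3 → Fin 3 → Fin 3 → ℤ) (h0 : f 0 0 0 = 6)
    (hlo : ∀ i j k, -3 ≤ f i j k) (hhi : ∀ i j k, (i, j, k) ≠ (0, 0, 0) → f i j k ≤ 3)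
    (htot : ∑ i, ∑ j, ∑ k, f i j k = 0) (h1 : ∑ j, ∑ k, f 0 j k = 18)
    (h2 : ∑ i, ∑ k, f i 0 k = 18) (h3 : ∑ i, ∑ j, f i j 0 = 18)
    (h4 : ∑ i, ∑ j, f i j (-j) = 18) : False := by
  simp only [Fin.sum_univ_three] at htot h1 h2 h3 h4
  simp only [show -(0 : Fin 3) = 0 from rfl, show -(1 : Fin 3) = 2 from rfl, show -(2 : Fin 3) = 1 from rfl] at h4
  have a1 := hhi 1 0 0 (by decide)
  have a2 := hhi 2 0 0 (by decide)
  have a3 := hhi 0 1 0 (by decide)
  have a4 := hhi 0 2 0 (by decide)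
  have a5 := hhi 0 0 1 (by decide)
  have a6 := hhi 0 0 2 (by decide)
  have a7 := hhi 0 1 2 (by decide)
  have a8 := hhi 0 2 1 (by decide)
  have b1 := hlo 1 1 1
  have b2 := hlo 1 1 2
  have b3 := hlo 1 2 1
  have b4 := hlo 1 2 2
  have b5 := hlo 2 1 1
  have b6 := hlo 2 1 2
  have b7 := hlo 2 2 1
  have b8 := hlo 2 2 2
  linarith

/-- The Sylow 3-subgroups are not abelian. -/
theorem Data.not_abelian (D : Data x χ ψ θ₁ θ₂) (hS : Spec G) (h : Nat.card G = 6048) (P : Sylow 3 G) :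
    ¬ IsMulCommutative (P : Subgroup G) := by
  classical
  intro hab
  haveI : Fact (Nat.Prime 3) := ⟨Nat.prime_three⟩
  haveI : Fact (Nat.Prime 2) := ⟨Nat.prime_two⟩
  haveI : Nontrivial (Sylow 3 G) := Finite.one_lt_card_iff_nontrivial.mp (by rw [D.card_sylow hS h]; norm_num)
  obtain ⟨Q, hQ⟩ := exists_ne P
  set K := pairStab P Q
  have hK : Nat.card K = 8 := D.card_pairStab hS h hQ
  have hK2 : IsPGroup 2 K := IsPGroup.of_card (n := 3) (by rw [hK]; norm_num)
  have hcm : ∀ a ∈ (P : Subgroup G), ∀ b ∈ (P : Subgroup G), a * b = b * a := fun a ha b hb =>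
    congrArg Subtype.val (IsMulCommutative.is_comm.comm (⟨a, ha⟩ : (P : Subgroup G)) ⟨b, hb⟩)
  have hexp : ∀ a ∈ (P : Subgroup G), a ^ 3 = 1 := by
    intro a ha
    by_cases h1 : a = 1
    · rw [h1, one_pow]
    · rw [← hS.orderOf_three P.2 ha h1]; exact pow_orderOf_eq_one _
  obtain ⟨c, hc⟩ := D.exists_value_fun hS (P : Subgroup G) P.2
  -- an involution central in the pair stabilizer
  obtain ⟨t, htc, hto⟩ : ∃ t : K, t ∈ Subgroup.center K ∧ orderOf t = 2 := by
    haveI : Nontrivial K := Finite.one_lt_card_iff_nontrivial.mp (by rw [hK]; norm_num)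
    haveI : Nontrivial (Subgroup.center K) := hK2.center_nontrivial
    have hd : 2 ∣ Nat.card (Subgroup.center K) := by
      obtain ⟨n, hn⟩ := IsPGroup.iff_card.mp (hK2.to_subgroup (Subgroup.center K))
      rw [hn]
      refine dvd_pow_self 2 fun h0 => ?_
      rw [h0, pow_zero] at hn
      have := Finite.one_lt_card (α := Subgroup.center K)
      omega
    obtain ⟨⟨t, ht⟩, hto⟩ := exists_prime_orderOf_dvd_card' 2 hd
    exact ⟨t, ht, by rwa [Subgroup.orderOf_mk] at hto⟩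
  have ht2 : orderOf (t : G) = 2 := by rw [Subgroup.orderOf_coe, hto]
  have hK_act : ∀ k ∈ K, ∀ a ∈ (P : Subgroup G), k * a * k⁻¹ ∈ (P : Subgroup G) := fun k hk a ha =>
    conj_mem_of_stab hk.1 ha
  by_cases hone : ∀ s : K, orderOf s = 2 → s = t
  · -- a single involution: the pair stabilizer is regular on the inverted elements
    set W := invSub (P : Subgroup G) (t : G)
    have hW : Nat.card W = 9 := D.card_invSub hS h hQ ht2 t.2
    haveI : Fintype W := Fintype.ofFinite _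
    haveI : Fintype K := Fintype.ofFinite _
    have hWP : ∀ a : W, (a : G) ∈ (P : Subgroup G) := fun a => a.2.1
    have hmemW : ∀ (k : K) (a : W), (k : G) * a * (k : G)⁻¹ ∈ W := by
      intro k a
      refine ⟨hK_act _ k.2 _ (hWP a), ?_⟩
      have hkt : (k : G) * t = t * k := congrArg Subtype.val (Subgroup.mem_center_iff.mp htc k)
      calc (t : G) * ((k : G) * a * (k : G)⁻¹) * (t : G)⁻¹
          = ((t : G) * k) * a * ((t : G) * k)⁻¹ := by group
        _ = ((k : G) * t) * a * ((k : G) * t)⁻¹ := by rw [hkt]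
        _ = (k : G) * ((t : G) * a * (t : G)⁻¹) * (k : G)⁻¹ := by group
        _ = _ := by rw [a.2.2]; group
    obtain ⟨w, hw⟩ : ∃ w : W, w ≠ 1 := by
      haveI : Nontrivial W := Finite.one_lt_card_iff_nontrivial.mp (by rw [hW]; norm_num)
      exact exists_ne 1
    let o : K → {a : W // a ≠ 1} := fun k => ⟨⟨_, hmemW k w⟩, fun hcon => hw (Subtype.ext (by
      have h1 : (k : G) * w * (k : G)⁻¹ = 1 := congrArg Subtype.val hcon
      calc (w : G) = (k : G)⁻¹ * ((k : G) * w * (k : G)⁻¹) * k := by group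
        _ = 1 := by rw [h1]; group))⟩
    have ho : Function.Bijective o := by
      refine (Nat.bijective_iff_injective_and_card o).mpr ⟨fun k₁ k₂ hk => ?_, ?_⟩
      · have h1 : (k₁ : G) * w * (k₁ : G)⁻¹ = (k₂ : G) * w * (k₂ : G)⁻¹ :=
          congrArg (fun a => (a.1 : G)) hk
        by_contra hne
        set k : K := k₂⁻¹ * k₁ with hkdef
        have hk1 : k ≠ 1 := fun e => hne (inv_mul_eq_one.mp e).symm
        have hkfix : (k : G) * w * (k : G)⁻¹ = w := by
          rw [hkdef, Subgroup.coe_mul, Subgroup.coe_inv]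
          calc (k₂ : G)⁻¹ * k₁ * w * ((k₂ : G)⁻¹ * k₁)⁻¹ = (k₂ : G)⁻¹ * ((k₁ : G) * w * (k₁ : G)⁻¹) * k₂ := by group
            _ = w := by rw [h1]; group
        obtain ⟨j, hj⟩ := IsPGroup.iff_orderOf.mp hK2 k
        have hj0 : j ≠ 0 := fun e => hk1 (orderOf_eq_one_iff.mp (by rw [hj, e, pow_zero]))
        have hs : k ^ (2 ^ (j - 1)) = t := by
          refine hone _ ?_
          rw [orderOf_pow_of_dvd (by positivity) (by rw [hj]; exact pow_dvd_pow 2 (Nat.sub_le j 1)), hj,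
            Nat.pow_div (Nat.sub_le j 1) two_pos, show j - (j - 1) = 1 by omega, pow_one]
        have htfix : (t : G) * w * (t : G)⁻¹ = w := by
          have hcomm : Commute (k : G) (w : G) := mul_inv_eq_iff_eq_mul.mp hkfix
          have h2 : Commute ((k ^ (2 ^ (j - 1)) : K) : G) (w : G) := by
            rw [Subgroup.coe_pow]; exact hcomm.pow_left _
          rw [hs] at h2
          rw [h2.eq, mul_inv_cancel_right]
        have hw2 := w.2.2
        rw [htfix] at hw2
        have h4 : (w : G) ^ 2 = 1 := by rw [sq]; nth_rewrite 2 [hw2]; exact mul_inv_cancel _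
        have h5 := hS.orderOf_three P.2 (hWP w) fun e => hw (Subtype.ext e)
        have := Nat.le_of_dvd two_pos (orderOf_dvd_of_pow_eq_one h4)
        omega
      · have h1 : Nat.card {a : W // a ≠ 1} + 1 = Nat.card W := by
          rw [← Finite.card_option, Nat.card_congr (Equiv.optionSubtypeNe (1 : W))]
        omega
    have hval : ∀ a : W, (χ : G → ℂ) a = ((c ⟨a, hWP a⟩ : ℤ) : ℂ) := fun a => (hc ⟨a, hWP a⟩).1
    have hsum := D.inverted_sum hS W hW ht2 (fun a ha => ha.2) (fun a => c ⟨a, hWP a⟩) fun a => by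
      refine ⟨hval a, ?_⟩
      rcases (hc ⟨a, hWP a⟩).2 with ⟨e, e'⟩ | ⟨e, e'⟩
      · exact Or.inl ⟨Subtype.ext (congrArg Subtype.val e :), e'⟩
      · exact Or.inr ⟨fun e2 => e (Subtype.ext (by rw [e2]; rfl)), e'⟩
    have hconst : ∀ a : W, a ≠ 1 → c ⟨a, hWP a⟩ = c ⟨w, hWP w⟩ := by
      intro a ha
      obtain ⟨k, hk⟩ := ho.2 ⟨a, ha⟩
      have h1 : (k : G) * w * (k : G)⁻¹ = a := congrArg (fun b => (b.1 : G)) hk
      have h2 : ((c ⟨a, hWP a⟩ : ℤ) : ℂ) = ((c ⟨w, hWP w⟩ : ℤ) : ℂ) := by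
        rw [← hval, ← hval, ← h1]
        exact Chars.irr_isClassFunction χ _ _
      exact Int.cast_injective h2
    rw [← add_sum_erase _ _ (mem_univ (1 : W)), sum_congr rfl (g := fun _ => c ⟨w, hWP w⟩)
      (fun a ha => hconst a (mem_erase.mp ha).1), sum_const, card_erase_of_mem (mem_univ _), card_univ,
      ← Nat.card_eq_fintype_card, hW, nsmul_eq_mul] at hsum
    have h6 : c ⟨((1 : W) : G), hWP 1⟩ = 6 := by
      rcases (hc ⟨((1 : W) : G), hWP 1⟩).2 with ⟨-, e⟩ | ⟨e, -⟩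
      · exact e
      · exact absurd (Subtype.ext rfl) e
    rw [h6] at hsum
    norm_num at hsum
    rcases (hc ⟨w, hWP w⟩).2 with ⟨-, e⟩ | ⟨-, e | e | e⟩ <;> omega
  -- three commuting involutions
  push Not at hone
  obtain ⟨u, huo, hut⟩ := hone
  have htt : t * t = 1 := by rw [← sq, ← hto, pow_orderOf_eq_one]
  have huu : u * u = 1 := by rw [← sq, ← huo, pow_orderOf_eq_one]
  have htu : u * t = t * u := Subgroup.mem_center_iff.mp htc u
  set v : K := t * u with hv
  have hti : t⁻¹ = t := inv_eq_of_mul_eq_one_right htt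
  have hvv : v * v = 1 := by
    rw [hv, show t * u * (t * u) = t * (u * t) * u by group, htu,
      show t * (t * u) * u = (t * t) * (u * u) by group, htt, huu, one_mul]
  have hv1 : v ≠ 1 := fun e => hut (by rw [hv] at e; rw [← hti]; exact eq_inv_of_mul_eq_one_right e)
  have hvo : orderOf v = 2 := orderOf_eq_prime (by rw [sq, hvv]) hv1
  have ord : ∀ s : K, orderOf s = 2 → orderOf (s : G) = 2 := fun s hs => by rw [Subgroup.orderOf_coe, hs]
  -- generators of the centralised lines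
  have hline : ∀ s : K, orderOf s = 2 → ∃ l : G, l ∈ (P : Subgroup G) ∧ l ≠ 1 ∧
      (s : G) * l * (s : G)⁻¹ = l ∧ ∀ a ∈ (P : Subgroup G), (s : G) * a * (s : G)⁻¹ = a → a ∈ zpowers l := by
    intro s hs
    have h3 := D.card_fixed hS h hQ (ord s hs) s.2
    obtain ⟨l, hl, hl1⟩ : ∃ l : (P : Subgroup G), (s : G) * l * (s : G)⁻¹ = l ∧ l ≠ 1 := by
      by_contra hcon
      push Not at hcon
      have : Nat.card {a : (P : Subgroup G) // (s : G) * a * (s : G)⁻¹ = a} ≤ 1 :=
        Finite.card_le_one_iff_subsingleton.mpr ⟨fun a b => Subtype.ext ((hcon a a.2).trans (hcon b b.2).symm)⟩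
      omega
    refine ⟨l, l.2, fun e => hl1 (Subtype.ext e), hl, fun a ha hfix => ?_⟩
    have hlo := hS.orderOf_three P.2 l.2 fun e => hl1 (Subtype.ext e)
    let F : Subgroup G :=
      { carrier := {a | a ∈ (P : Subgroup G) ∧ (s : G) * a * (s : G)⁻¹ = a}
        one_mem' := ⟨one_mem _, by group⟩
        mul_mem' := fun {a b} ha hb => ⟨mul_mem ha.1 hb.1, by
          calc (s : G) * (a * b) * (s : G)⁻¹ = ((s : G) * a * (s : G)⁻¹) * ((s : G) * b * (s : G)⁻¹) := by group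
            _ = a * b := by rw [ha.2, hb.2]⟩
        inv_mem' := fun {a} ha => ⟨inv_mem ha.1, by
          calc (s : G) * a⁻¹ * (s : G)⁻¹ = ((s : G) * a * (s : G)⁻¹)⁻¹ := by group
            _ = a⁻¹ := by rw [ha.2]⟩ }
    have hF : Nat.card F = 3 := by
      rw [← h3]
      exact Nat.card_congr
        { toFun := fun a => ⟨⟨a.1, a.2.1⟩, a.2.2⟩
          invFun := fun a => ⟨a.1.1, a.1.2, a.2⟩
          left_inv := fun a => rfl
          right_inv := fun a => rfl }
    have hle : zpowers (l : G) ≤ F := zpowers_le.mpr ⟨l.2, hl⟩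
    have heq : zpowers (l : G) = F := Subgroup.eq_of_le_of_card_ge hle (by rw [hF, Nat.card_zpowers, hlo])
    rw [heq]
    exact ⟨ha, hfix⟩
  obtain ⟨l₁, hl₁P, hl₁1, hl₁t, hline₁⟩ := hline t hto
  obtain ⟨l₂, hl₂P, hl₂1, hl₂u, hline₂⟩ := hline u huo
  obtain ⟨l₃, hl₃P, hl₃1, hl₃v, hline₃⟩ := hline v hvo
  -- conjugation as a homomorphism on P
  have hmulc : ∀ (k : G) (a b : G), k * (a * b) * k⁻¹ = (k * a * k⁻¹) * (k * b * k⁻¹) := fun k a b => by group
  have hinvc : ∀ (k : G) (a : G), k * a⁻¹ * k⁻¹ = (k * a * k⁻¹)⁻¹ := fun k a => by group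
  have hconjzp : ∀ (k l : G), k * l * k⁻¹ = l → ∀ a ∈ zpowers l, k * a * k⁻¹ = a := by
    rintro k l hkl _ ⟨n, rfl⟩
    show k * l ^ n * k⁻¹ = l ^ n
    rw [← conj_zpow, hkl]
  have heq3 : ∀ a ∈ (P : Subgroup G), a = a⁻¹ → a = 1 := by
    intro a ha hh
    by_contra h1
    have h2 : a ^ 2 = 1 := by rw [sq]; nth_rewrite 2 [hh]; exact mul_inv_cancel a
    have h3 := hS.orderOf_three P.2 ha h1
    have := Nat.le_of_dvd two_pos (orderOf_dvd_of_pow_eq_one h2)
    omega
  -- commuting elements preserve lines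
  have hpres : ∀ (k s : K) (l : G), k * s = s * k → l ∈ (P : Subgroup G) → (s : G) * l * (s : G)⁻¹ = l →
      (∀ a ∈ (P : Subgroup G), (s : G) * a * (s : G)⁻¹ = a → a ∈ zpowers l) → orderOf l = 3 →
      (k : G) * l * (k : G)⁻¹ = l ∨ (k : G) * l * (k : G)⁻¹ = l⁻¹ := by
    intro k s l hks hlP hsl hlin hlo
    have hks' : (k : G) * s = s * k := congrArg Subtype.val hks
    have h1 : (k : G) * l * (k : G)⁻¹ ∈ zpowers l := by
      refine hlin _ (hK_act _ k.2 _ hlP) ?_
      calc (s : G) * ((k : G) * l * (k : G)⁻¹) * (s : G)⁻¹ = ((s : G) * k) * l * ((s : G) * k)⁻¹ := by group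
        _ = ((k : G) * s) * l * ((k : G) * s)⁻¹ := by rw [hks']
        _ = (k : G) * ((s : G) * l * (s : G)⁻¹) * (k : G)⁻¹ := by group
        _ = _ := by rw [hsl]
    have hl3 : l ^ 3 = 1 := by rw [← hlo]; exact pow_orderOf_eq_one l
    rcases mem_cases hl3 h1 with e | e | e
    · exfalso
      have : l = 1 := by
        calc l = (k : G)⁻¹ * ((k : G) * l * (k : G)⁻¹) * k := by group
          _ = 1 := by rw [e]; group
      rw [this, orderOf_one] at hlo
      norm_num at hlo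
    · exact Or.inl e
    · exact Or.inr (e.trans (eq_inv_of_mul_eq_one_left (by rw [← pow_three']; exact hl3)))
  have ho₁ := hS.orderOf_three P.2 hl₁P hl₁1
  have ho₂ := hS.orderOf_three P.2 hl₂P hl₂1
  have ho₃ := hS.orderOf_three P.2 hl₃P hl₃1
  -- a line centralised by two of them would be centralised by all, so the two would agree
  have hdist : ∀ s s' : K, orderOf s = 2 → orderOf s' = 2 → s ≠ s' → s * s' = s' * s →
      ∀ a ∈ (P : Subgroup G), (s : G) * a * (s : G)⁻¹ = a → (s' : G) * a * (s' : G)⁻¹ = a → a = 1 := by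
    intro s s' hs hs' hne hc' a ha hsa hs'a
    by_contra ha1
    obtain ⟨l, hlP, hl1, hls, hlin⟩ := hline s hs
    obtain ⟨l', hl'P, hl'1, hl's', hlin'⟩ := hline s' hs'
    have hao := hS.orderOf_three P.2 ha ha1
    -- both lines are the one of a
    have hla : zpowers a = zpowers l := Subgroup.eq_of_le_of_card_ge (zpowers_le.mpr (hlin a ha hsa))
      (by rw [Nat.card_zpowers, Nat.card_zpowers, hao, hS.orderOf_three P.2 hlP hl1])
    have hla' : zpowers a = zpowers l' := Subgroup.eq_of_le_of_card_ge (zpowers_le.mpr (hlin' a ha hs'a))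
      (by rw [Nat.card_zpowers, Nat.card_zpowers, hao, hS.orderOf_three P.2 hl'P hl'1])
    refine hne ?_
    have hss : s' * s' = 1 := by rw [← sq, ← hs', pow_orderOf_eq_one]
    have hs'i : s'⁻¹ = s' := inv_eq_of_mul_eq_one_right hss
    have hone' : s * s' = 1 := Subtype.ext (D.eq_one_of_centralizes hS h hQ (s * s').2 fun b hb => by
      -- b = b₀ b₁ with b₀ on the line and b₁ inverted by both
      rw [Subgroup.coe_mul]
      set bs := (s : G) * b * (s : G)⁻¹ with hbs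
      have hbsP : bs ∈ (P : Subgroup G) := hK_act _ s.2 _ hb
      have hst : (s : G) * s = 1 := by
        rw [← sq, ← ord s hs, pow_orderOf_eq_one]
      have hfix0 : (s : G) * (b * bs) * (s : G)⁻¹ = b * bs := by
        rw [hmulc, ← hbs, show (s : G) * bs * (s : G)⁻¹ = b by
          rw [hbs, show (s : G) * ((s : G) * b * (s : G)⁻¹) * (s : G)⁻¹ = (s : G) * s * b * ((s : G) * s)⁻¹ by group,
            hst, one_mul, inv_one, mul_one], hcm _ hbsP _ hb]
      have h0 : b * bs ∈ zpowers a := hla ▸ hlin _ (mul_mem hb hbsP) hfix0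
      set b₁ := b * bs⁻¹ with hb₁
      have hb₁P : b₁ ∈ (P : Subgroup G) := mul_mem hb (inv_mem hbsP)
      have hinv1 : (s : G) * b₁ * (s : G)⁻¹ = b₁⁻¹ := by
        rw [hb₁, hmulc, hinvc, ← hbs, show (s : G) * bs * (s : G)⁻¹ = b by
          rw [hbs, show (s : G) * ((s : G) * b * (s : G)⁻¹) * (s : G)⁻¹ = (s : G) * s * b * ((s : G) * s)⁻¹ by group,
            hst, one_mul, inv_one, mul_one], mul_inv_rev, inv_inv]
      -- s' also inverts b₁
      set b₁' := (s' : G) * b₁ * (s' : G)⁻¹ with hb₁'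
      have hb₁'P : b₁' ∈ (P : Subgroup G) := hK_act _ s'.2 _ hb₁P
      have hs'2 : (s' : G) * s' = 1 := congrArg Subtype.val hss
      have hfix1 : (s' : G) * (b₁ * b₁') * (s' : G)⁻¹ = b₁ * b₁' := by
        rw [hmulc, ← hb₁', show (s' : G) * b₁' * (s' : G)⁻¹ = b₁ by
          rw [hb₁', show (s' : G) * ((s' : G) * b₁ * (s' : G)⁻¹) * (s' : G)⁻¹ = (s' : G) * s' * b₁ * ((s' : G) * s')⁻¹ by group,
            hs'2, one_mul, inv_one, mul_one], hcm _ hb₁'P _ hb₁P]
      have hcc : (s : G) * s' = (s' : G) * s := congrArg Subtype.val hc'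
      have hinv1' : (s : G) * b₁' * (s : G)⁻¹ = b₁'⁻¹ := by
        calc (s : G) * b₁' * (s : G)⁻¹ = ((s : G) * s') * b₁ * ((s : G) * s')⁻¹ := by rw [hb₁']; group
          _ = (s' : G) * ((s : G) * b₁ * (s : G)⁻¹) * (s' : G)⁻¹ := by rw [hcc]; group
          _ = b₁'⁻¹ := by rw [hinv1, hinvc]
      have h1 : b₁ * b₁' ∈ zpowers a := hla' ▸ hlin' _ (mul_mem hb₁P hb₁'P) hfix1
      have h2 : b₁ * b₁' = 1 := by
        refine heq3 _ (mul_mem hb₁P hb₁'P) ?_
        have h3 := hconjzp (s : G) a hsa _ h1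
        rw [hmulc, hinv1, hinv1'] at h3
        rw [mul_inv_rev, ← hcm _ (inv_mem hb₁P) _ (inv_mem hb₁'P)]
        exact h3.symm
      have hinv2 : b₁' = b₁⁻¹ := eq_inv_of_mul_eq_one_right h2
      -- b is determined by its two parts
      have hb2 : b * b = (b * bs) * b₁ := by
        rw [hb₁]
        calc b * b = b * (bs * bs⁻¹ * b) := by group
          _ = b * (bs * (b * bs⁻¹)) := by rw [mul_assoc bs, hcm _ (inv_mem hbsP) _ hb]
          _ = _ := by group
      have hsb2 : (s : G) * (b * b) * (s : G)⁻¹ = (s' : G) * (b * b) * (s' : G)⁻¹ := by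
        rw [hb2, hmulc (s : G) (b * bs) b₁, hmulc (s' : G) (b * bs) b₁, hconjzp (s : G) a hsa _ h0, hconjzp (s' : G) a hs'a _ h0, hinv1, ← hb₁', hinv2]
      have hb3 : b = (b * b) * (b * b) := by
        have h4 : b ^ 3 = 1 := hexp b hb
        calc b = b ^ 3 * b := by rw [h4, one_mul]
          _ = _ := by rw [pow_three]; group
      have hsb : (s : G) * b * (s : G)⁻¹ = (s' : G) * b * (s' : G)⁻¹ := by
        rw [hb3, hmulc, hsb2, ← hmulc]
      calc (s : G) * s' * b * ((s : G) * s')⁻¹ = (s : G) * ((s' : G) * b * (s' : G)⁻¹) * (s : G)⁻¹ := by group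
        _ = (s : G) * ((s : G) * b * (s : G)⁻¹) * (s : G)⁻¹ := by rw [hsb]
        _ = ((s : G) * s) * b * ((s : G) * s)⁻¹ := by group
        _ = b := by rw [hst, one_mul, inv_one, mul_one])
    rw [← hs'i]
    exact eq_inv_of_mul_eq_one_left hone'
  have htv : t * v = v * t := by rw [hv, ← mul_assoc, htt, one_mul, mul_assoc, htu, ← mul_assoc, htt, one_mul]
  have huv : u * v = v * u := by
    rw [hv, ← mul_assoc, htu, mul_assoc]
  have hne_tv : t ≠ v := fun e => by
    have h1 : u = 1 := mul_left_cancel (a := t) (by rw [mul_one]; exact e.symm)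
    rw [h1, orderOf_one] at huo
    norm_num at huo
  have hne_uv : u ≠ v := fun e => by
    have h1 : (1 : K) = t := mul_right_cancel (b := u) (by rw [one_mul]; exact e)
    rw [← h1, orderOf_one] at hto
    norm_num at hto
  -- signs
  have i₁u : (u : G) * l₁ * (u : G)⁻¹ = l₁⁻¹ := (hpres u t l₁ htu hl₁P hl₁t hline₁ ho₁).resolve_left
    fun e => hl₁1 (hdist t u hto huo (Ne.symm hut) htu.symm l₁ hl₁P hl₁t e)
  have i₁v : (v : G) * l₁ * (v : G)⁻¹ = l₁⁻¹ := (hpres v t l₁ htv.symm hl₁P hl₁t hline₁ ho₁).resolve_left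
    fun e => hl₁1 (hdist t v hto hvo hne_tv htv l₁ hl₁P hl₁t e)
  have i₂t : (t : G) * l₂ * (t : G)⁻¹ = l₂⁻¹ := (hpres t u l₂ htu.symm hl₂P hl₂u hline₂ ho₂).resolve_left
    fun e => hl₂1 (hdist t u hto huo (Ne.symm hut) htu.symm l₂ hl₂P e hl₂u)
  have i₂v : (v : G) * l₂ * (v : G)⁻¹ = l₂⁻¹ := (hpres v u l₂ huv.symm hl₂P hl₂u hline₂ ho₂).resolve_left
    fun e => hl₂1 (hdist u v huo hvo hne_uv huv l₂ hl₂P hl₂u e)
  have i₃t : (t : G) * l₃ * (t : G)⁻¹ = l₃⁻¹ := (hpres t v l₃ htv hl₃P hl₃v hline₃ ho₃).resolve_left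
    fun e => hl₃1 (hdist t v hto hvo hne_tv htv l₃ hl₃P e hl₃v)
  have i₃u : (u : G) * l₃ * (u : G)⁻¹ = l₃⁻¹ := (hpres u v l₃ huv hl₃P hl₃v hline₃ ho₃).resolve_left
    fun e => hl₃1 (hdist u v huo hvo hne_uv huv l₃ hl₃P e hl₃v)
  clear hpres
  -- an involution which exchanges two of the lines
  obtain ⟨k, hk⟩ : ∃ k : K, k ≠ 1 ∧ k ≠ t ∧ k ≠ u ∧ k ≠ v := by
    by_contra hcon
    push Not at hcon
    have h1 : Nat.card K ≤ 4 := by
      haveI : Fintype K := Fintype.ofFinite _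
      rw [Nat.card_eq_fintype_card, ← card_univ]
      refine le_trans (card_le_card (t := ({1, t, u, v} : Finset K)) fun k _ => ?_) card_le_four
      simp only [mem_insert, mem_singleton]
      by_contra h2
      simp only [not_or] at h2
      exact h2.2.2.2 (hcon k h2.1 h2.2.1 h2.2.2.1)
    omega
  obtain ⟨hk1, hkt, hku, hkv⟩ := hk
  let V : Subgroup K :=
    { carrier := {a | a = 1 ∨ a = t ∨ a = u ∨ a = v}
      one_mem' := Or.inl rfl
      mul_mem' := by
        have e1 : t * v = u := by rw [hv, ← mul_assoc, htt, one_mul]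
        have e2 : u * v = t := by rw [huv, hv, mul_assoc, huu, mul_one]
        rintro a b (ha | ha | ha | ha) (hb | hb | hb | hb) <;> rw [ha, hb]
        exacts [Or.inl (mul_one 1), Or.inr (Or.inl (one_mul t)), Or.inr (Or.inr (Or.inl (one_mul u))),
          Or.inr (Or.inr (Or.inr (one_mul v))), Or.inr (Or.inl (mul_one t)), Or.inl htt,
          Or.inr (Or.inr (Or.inr hv.symm)), Or.inr (Or.inr (Or.inl e1)), Or.inr (Or.inr (Or.inl (mul_one u))),
          Or.inr (Or.inr (Or.inr htu)), Or.inl huu, Or.inr (Or.inl e2), Or.inr (Or.inr (Or.inr (mul_one v))),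
          Or.inr (Or.inr (Or.inl (htv.symm.trans e1))), Or.inr (Or.inl (huv.symm.trans e2)), Or.inl hvv]
      inv_mem' := by
        rintro a (ha | ha | ha | ha) <;> rw [ha]
        · exact Or.inl inv_one
        · exact Or.inr (Or.inl hti)
        · exact Or.inr (Or.inr (Or.inl (inv_eq_of_mul_eq_one_right huu)))
        · exact Or.inr (Or.inr (Or.inr (inv_eq_of_mul_eq_one_right hvv))) }
  have hVcard : Nat.card V = 4 := by
    have : (V : Set K) = {1, t, u, v} := by ext a; simp [V]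
    have h1t : (1 : K) ≠ t := fun e => by rw [← e, orderOf_one] at hto; norm_num at hto
    have h1u : (1 : K) ≠ u := fun e => by rw [← e, orderOf_one] at huo; norm_num at huo
    show Nat.card (V : Set K) = 4
    rw [this, Nat.card_eq_fintype_card]
    simp [h1t, h1u, hv1.symm, Ne.symm hut, hne_tv, hne_uv]
  haveI hVn : V.Normal := Subgroup.normal_of_index_eq_minFac_card (by
    have h1 := V.card_mul_index
    rw [hVcard, hK] at h1
    rw [hK]
    norm_num
    omega)
  have hkk : k * k ∈ V := by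
    have h1 : V.index = 2 := by
      have h1 := V.card_mul_index
      rw [hVcard, hK] at h1
      omega
    exact Subgroup.mul_self_mem_of_index_two h1 k
  have hcu : k * u * k⁻¹ = u ∨ k * u * k⁻¹ = v := by
    rcases hVn.conj_mem u (Or.inr (Or.inr (Or.inl rfl))) k with e | e | e | e
    · exfalso
      have : u = 1 := by rwa [mul_inv_eq_one, mul_eq_left] at e
      rw [this, orderOf_one] at huo
      norm_num at huo
    · exfalso
      refine hut ?_
      calc u = k⁻¹ * (k * u * k⁻¹) * k := by group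
        _ = k⁻¹ * t * k := by rw [e]
        _ = t := by rw [mul_assoc, ← Subgroup.mem_center_iff.mp htc k, inv_mul_cancel_left]
    · exact Or.inl e
    · exact Or.inr e
  have hkc : k * t = t * k := Subgroup.mem_center_iff.mp htc k
  -- the three lines give coordinates
  have hexp₁ : ∀ n : ℕ, l₁ ^ n = l₁ ^ (n % 3) := fun n => by
    rw [← pow_mod_orderOf, ho₁]
  let e : Fin 3 → Fin 3 → Fin 3 → G := fun i j m => l₁ ^ (i : ℕ) * l₂ ^ (j : ℕ) * l₃ ^ (m : ℕ)
  have heP : ∀ i j m, e i j m ∈ (P : Subgroup G) := fun i j m =>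
    mul_mem (mul_mem (pow_mem hl₁P _) (pow_mem hl₂P _)) (pow_mem hl₃P _)
  have hcpow : ∀ (g a : G) (n : ℕ), g * a ^ n * g⁻¹ = (g * a * g⁻¹) ^ n := fun g a n => by rw [conj_pow]
  have hte : ∀ i j m, (t : G) * e i j m * (t : G)⁻¹ = l₁ ^ (i : ℕ) * (l₂ ^ (j : ℕ))⁻¹ * (l₃ ^ (m : ℕ))⁻¹ := by
    intro i j m
    show (t : G) * (l₁ ^ (i : ℕ) * l₂ ^ (j : ℕ) * l₃ ^ (m : ℕ)) * (t : G)⁻¹ = _
    rw [hmulc, hmulc, hcpow, hcpow, hcpow, hl₁t, i₂t, i₃t, inv_pow, inv_pow]
  have hue : ∀ i j m, (u : G) * e i j m * (u : G)⁻¹ = (l₁ ^ (i : ℕ))⁻¹ * l₂ ^ (j : ℕ) * (l₃ ^ (m : ℕ))⁻¹ := by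
    intro i j m
    show (u : G) * (l₁ ^ (i : ℕ) * l₂ ^ (j : ℕ) * l₃ ^ (m : ℕ)) * (u : G)⁻¹ = _
    rw [hmulc, hmulc, hcpow, hcpow, hcpow, i₁u, hl₂u, i₃u, inv_pow, inv_pow]
  have hve : ∀ i j m, (v : G) * e i j m * (v : G)⁻¹ = (l₁ ^ (i : ℕ))⁻¹ * (l₂ ^ (j : ℕ))⁻¹ * l₃ ^ (m : ℕ) := by
    intro i j m
    show (v : G) * (l₁ ^ (i : ℕ) * l₂ ^ (j : ℕ) * l₃ ^ (m : ℕ)) * (v : G)⁻¹ = _
    rw [hmulc, hmulc, hcpow, hcpow, hcpow, i₁v, i₂v, hl₃v, inv_pow, inv_pow]
  have hinj : ∀ i j m i' j' m', e i j m = e i' j' m' → i = i' ∧ j = j' ∧ m = m' := by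
    intro i j m i' j' m' he
    have h1 : ∀ (s : G) (A B C A' B' C' : G), A ∈ (P : Subgroup G) → B ∈ (P : Subgroup G) → C ∈ (P : Subgroup G) →
        A' ∈ (P : Subgroup G) → B' ∈ (P : Subgroup G) → C' ∈ (P : Subgroup G) →
        A * B * C = A' * B' * C' → A * B⁻¹ * C⁻¹ = A' * B'⁻¹ * C'⁻¹ → A = A' := by
      intro s A B C A' B' C' hA hB hC hA' hB' hC' h1 h2
      let a : ∀ z : G, z ∈ (P : Subgroup G) → (P : Subgroup G) := fun z hz => ⟨z, hz⟩
      letI : CommGroup (P : Subgroup G) :=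
        { (inferInstance : Group (P : Subgroup G)) with mul_comm := IsMulCommutative.is_comm.comm }
      have h1' : a A hA * a B hB * a C hC = a A' hA' * a B' hB' * a C' hC' := Subtype.ext h1
      have h2' : a A hA * (a B hB)⁻¹ * (a C hC)⁻¹ = a A' hA' * (a B' hB')⁻¹ * (a C' hC')⁻¹ := Subtype.ext h2
      have h3 : a A hA * a A hA = a A' hA' * a A' hA' := by
        calc a A hA * a A hA = (a A hA * a B hB * a C hC) * (a A hA * (a B hB)⁻¹ * (a C hC)⁻¹) := by
              rw [mul_mul_mul_comm (a A hA * a B hB), mul_mul_mul_comm (a A hA)]; simp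
          _ = (a A' hA' * a B' hB' * a C' hC') * (a A' hA' * (a B' hB')⁻¹ * (a C' hC')⁻¹) := by rw [h1', h2']
          _ = a A' hA' * a A' hA' := by
              rw [mul_mul_mul_comm (a A' hA' * a B' hB'), mul_mul_mul_comm (a A' hA')]; simp
      have h4 : A * A = A' * A' := congrArg Subtype.val h3
      calc A = A ^ 3 * A := by rw [hexp A hA, one_mul]
        _ = (A * A) * (A * A) := by rw [pow_three]; group
        _ = (A' * A') * (A' * A') := by rw [h4]
        _ = A' ^ 3 * A' := by rw [pow_three]; group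
        _ = A' := by rw [hexp A' hA', one_mul]
    have hp := fun {l : G} (hl : l ∈ (P : Subgroup G)) (n : Fin 3) => pow_mem hl (n : ℕ)
    have e1 : l₁ ^ (i : ℕ) = l₁ ^ (i' : ℕ) := h1 (t : G) _ _ _ _ _ _ (hp hl₁P i) (hp hl₂P j) (hp hl₃P m)
      (hp hl₁P i') (hp hl₂P j') (hp hl₃P m') he (by rw [← hte, ← hte, he])
    have e3 : l₃ ^ (m : ℕ) = l₃ ^ (m' : ℕ) := by
      refine h1 (v : G) _ _ _ _ _ _ (hp hl₃P m) (hp hl₁P i) (hp hl₂P j) (hp hl₃P m') (hp hl₁P i') (hp hl₂P j') ?_ ?_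
      · rw [mul_assoc, mul_assoc, hcm _ (hp hl₃P m) _ (mul_mem (hp hl₁P i) (hp hl₂P j)),
          hcm _ (hp hl₃P m') _ (mul_mem (hp hl₁P i') (hp hl₂P j'))]
        exact he
      · have h2 : (v : G) * e i j m * (v : G)⁻¹ = (v : G) * e i' j' m' * (v : G)⁻¹ := by rw [he]
        rw [hve, hve] at h2
        rw [mul_assoc, mul_assoc, hcm _ (hp hl₃P m) _ (mul_mem (inv_mem (hp hl₁P i)) (inv_mem (hp hl₂P j))),
          hcm _ (hp hl₃P m') _ (mul_mem (inv_mem (hp hl₁P i')) (inv_mem (hp hl₂P j')))]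
        exact h2
    have e2 : l₂ ^ (j : ℕ) = l₂ ^ (j' : ℕ) := by
      have h2 : l₁ ^ (i : ℕ) * l₂ ^ (j : ℕ) * l₃ ^ (m : ℕ) = l₁ ^ (i' : ℕ) * l₂ ^ (j' : ℕ) * l₃ ^ (m' : ℕ) := he
      rw [e1, e3] at h2
      exact mul_left_cancel (mul_right_cancel h2)
    have hfin : ∀ {l : G}, orderOf l = 3 → ∀ a b : Fin 3, l ^ (a : ℕ) = l ^ (b : ℕ) → a = b := fun hlo a b hab =>
      Fin.ext (by
        have h3 := pow_eq_pow_iff_modEq.mp hab
        rw [hlo] at h3
        unfold Nat.ModEq at h3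
        rw [Nat.mod_eq_of_lt a.2, Nat.mod_eq_of_lt b.2] at h3
        exact h3)
    exact ⟨hfin ho₁ i i' e1, hfin ho₂ j j' e2, hfin ho₃ m m' e3⟩
  let f : Fin 3 → Fin 3 → Fin 3 → ℤ := fun i j m => c ⟨e i j m, heP i j m⟩
  haveI : Fintype (P : Subgroup G) := Fintype.ofFinite _
  have he000 : e 0 0 0 = 1 := by simp [e]
  have hplane : ∀ (s : K) (g : Fin 3 → Fin 3 → Fin 3 × Fin 3 × Fin 3), Function.Injective (Function.uncurry g) →
      orderOf s = 2 → (∀ a b, (s : G) * e (g a b).1 (g a b).2.1 (g a b).2.2 * (s : G)⁻¹ =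
        (e (g a b).1 (g a b).2.1 (g a b).2.2)⁻¹) →
      ∑ a, ∑ b, f (g a b).1 (g a b).2.1 (g a b).2.2 = 18 := by
    intro s g hg hs hinv
    set W := invSub (P : Subgroup G) (s : G)
    haveI : Fintype W := Fintype.ofFinite _
    have hW : Nat.card W = 9 := D.card_invSub hS h hQ (ord s hs) s.2
    have hsum := D.inverted_sum hS W hW (ord s hs) (fun a ha => ha.2) (fun a => c ⟨a, a.2.1⟩) fun a => by
      refine ⟨(hc ⟨a, a.2.1⟩).1, ?_⟩
      rcases (hc ⟨a, a.2.1⟩).2 with ⟨e', e''⟩ | ⟨e', e''⟩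
      · exact Or.inl ⟨Subtype.ext (congrArg Subtype.val e' :), e''⟩
      · exact Or.inr ⟨fun e2 => e' (Subtype.ext (by rw [e2]; rfl)), e''⟩
    let F : Fin 3 × Fin 3 → W := fun q => ⟨e (g q.1 q.2).1 (g q.1 q.2).2.1 (g q.1 q.2).2.2, heP _ _ _, hinv _ _⟩
    have hF : Function.Bijective F := by
      refine (Nat.bijective_iff_injective_and_card F).mpr ⟨fun q q' hq => ?_, by rw [Nat.card_prod, Nat.card_fin, hW]⟩
      obtain ⟨a1, a2, a3⟩ := hinj _ _ _ _ _ _ (congrArg Subtype.val hq :)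
      exact hg (Prod.ext a1 (Prod.ext a2 a3))
    rw [← Fintype.sum_bijective F hF (fun q => c ⟨F q, (F q).2.1⟩) _ (fun q => rfl), Fintype.sum_prod_type] at hsum
    exact hsum
  have p1 : ∑ j, ∑ m, f 0 j m = 18 := hplane t (fun a b => (0, a, b))
    (fun a b hab => by simpa [Function.uncurry] using hab) hto fun a b => by
      rw [hte]
      show _ = (l₁ ^ ((0 : Fin 3) : ℕ) * l₂ ^ (a : ℕ) * l₃ ^ (b : ℕ))⁻¹
      rw [Fin.val_zero, pow_zero, one_mul, one_mul, mul_inv_rev,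
        hcm _ (inv_mem (pow_mem hl₂P _)) _ (inv_mem (pow_mem hl₃P _))]
  have p2 : ∑ i, ∑ m, f i 0 m = 18 := hplane u (fun a b => (a, 0, b))
    (fun a b hab => by simpa [Function.uncurry, Prod.ext_iff] using hab) huo fun a b => by
      rw [hue]
      show _ = (l₁ ^ (a : ℕ) * l₂ ^ ((0 : Fin 3) : ℕ) * l₃ ^ (b : ℕ))⁻¹
      rw [Fin.val_zero, pow_zero, mul_one, mul_one, mul_inv_rev,
        hcm _ (inv_mem (pow_mem hl₁P _)) _ (inv_mem (pow_mem hl₃P _))]
  have p3 : ∑ i, ∑ j, f i j 0 = 18 := hplane v (fun a b => (a, b, 0))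
    (fun a b hab => by simpa [Function.uncurry, Prod.ext_iff] using hab) hvo fun a b => by
      rw [hve]
      show _ = (l₁ ^ (a : ℕ) * l₂ ^ (b : ℕ) * l₃ ^ ((0 : Fin 3) : ℕ))⁻¹
      rw [Fin.val_zero, pow_zero, mul_one, mul_one, mul_inv_rev,
        hcm _ (inv_mem (pow_mem hl₁P _)) _ (inv_mem (pow_mem hl₂P _))]
  have hlo : ∀ i j m, -3 ≤ f i j m := fun i j m => by
    rcases (hc ⟨e i j m, heP i j m⟩).2 with ⟨-, e'⟩ | ⟨-, e' | e' | e'⟩ <;> simp only [f] <;> omega
  have hhi : ∀ i j m, (i, j, m) ≠ (0, 0, 0) → f i j m ≤ 3 := fun i j m hne => by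
    rcases (hc ⟨e i j m, heP i j m⟩).2 with ⟨e', -⟩ | ⟨-, e' | e' | e'⟩
    · exfalso
      obtain ⟨a1, a2, a3⟩ := hinj i j m 0 0 0 (by rw [he000]; exact congrArg Subtype.val e')
      exact hne (by rw [a1, a2, a3])
    all_goals (simp only [f]; omega)
  have h0 : f 0 0 0 = 6 := by
    rcases (hc ⟨e 0 0 0, heP 0 0 0⟩).2 with ⟨-, e'⟩ | ⟨e', -⟩
    · exact e'
    · exact absurd (Subtype.ext he000) e'
  have htot : ∑ i, ∑ j, ∑ m, f i j m = 0 := by
    let F : Fin 3 × Fin 3 × Fin 3 → (P : Subgroup G) := fun q => ⟨e q.1 q.2.1 q.2.2, heP _ _ _⟩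
    have hF : Function.Bijective F := by
      refine (Nat.bijective_iff_injective_and_card F).mpr ⟨fun q q' hq => ?_, by rw [Nat.card_prod, Nat.card_prod, Nat.card_fin, card_three h P]⟩
      obtain ⟨a1, a2, a3⟩ := hinj _ _ _ _ _ _ (congrArg Subtype.val hq :)
      exact Prod.ext a1 (Prod.ext a2 a3)
    have h1 := D.sum_three hS h P
    rw [← Fintype.sum_bijective F hF (fun q => (χ : G → ℂ) (F q)) _ (fun q => rfl)] at h1
    have h2 : ((∑ q, c (F q) : ℤ) : ℂ) = ((0 : ℤ) : ℂ) := by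
      push_cast
      rw [← h1]
      exact sum_congr rfl fun q _ => (hc (F q)).1.symm
    have h3 := Int.cast_injective h2
    rw [Fintype.sum_prod_type] at h3
    simp only [Fintype.sum_prod_type] at h3
    exact h3
  -- the fourth plane
  rcases hcu with hku' | hku'
  · -- k preserves all lines: it would act as an element of V
    exfalso
    have hkv' : k * v = v * k := by
      have h1 : k * u = u * k := mul_inv_eq_iff_eq_mul.mp hku'
      rw [hv, ← mul_assoc, hkc, mul_assoc, h1, ← mul_assoc]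
    have hku2 : k * u = u * k := mul_inv_eq_iff_eq_mul.mp hku'
    have hsign : ∀ (s : K) (l : G), k * s = s * k → l ∈ (P : Subgroup G) → (s : G) * l * (s : G)⁻¹ = l →
        (∀ a ∈ (P : Subgroup G), (s : G) * a * (s : G)⁻¹ = a → a ∈ zpowers l) → orderOf l = 3 →
        (k : G) * l * (k : G)⁻¹ = l ∨ (k : G) * l * (k : G)⁻¹ = l⁻¹ := by
      intro s l hks hlP hsl hlin hlo
      have hks' : (k : G) * s = s * k := congrArg Subtype.val hks
      have h1 : (k : G) * l * (k : G)⁻¹ ∈ zpowers l := by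
        refine hlin _ (hK_act _ k.2 _ hlP) ?_
        calc (s : G) * ((k : G) * l * (k : G)⁻¹) * (s : G)⁻¹ = ((s : G) * k) * l * ((s : G) * k)⁻¹ := by group
          _ = ((k : G) * s) * l * ((k : G) * s)⁻¹ := by rw [hks']
          _ = (k : G) * ((s : G) * l * (s : G)⁻¹) * (k : G)⁻¹ := by group
          _ = _ := by rw [hsl]
      have hl3 : l ^ 3 = 1 := by rw [← hlo]; exact pow_orderOf_eq_one l
      rcases mem_cases hl3 h1 with e' | e' | e'
      · exfalso
        have : l = 1 := by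
          calc l = (k : G)⁻¹ * ((k : G) * l * (k : G)⁻¹) * k := by group
            _ = 1 := by rw [e']; group
        rw [this, orderOf_one] at hlo
        norm_num at hlo
      · exact Or.inl e'
      · exact Or.inr (e'.trans (eq_inv_of_mul_eq_one_left (by rw [← pow_three']; exact hl3)))
    have s1 := hsign t l₁ hkc hl₁P hl₁t hline₁ ho₁
    have s2 := hsign u l₂ hku2 hl₂P hl₂u hline₂ ho₂
    have s3 := hsign v l₃ hkv' hl₃P hl₃v hline₃ ho₃
    -- k squares to one on P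
    have hsq : ∀ l : G, ((k : G) * l * (k : G)⁻¹ = l ∨ (k : G) * l * (k : G)⁻¹ = l⁻¹) →
        ((k * k : K) : G) * l * ((k * k : K) : G)⁻¹ = l := by
      intro l hl
      rw [Subgroup.coe_mul]
      rcases hl with e' | e'
      · calc (k : G) * k * l * ((k : G) * k)⁻¹ = (k : G) * ((k : G) * l * (k : G)⁻¹) * (k : G)⁻¹ := by group
          _ = l := by rw [e', e']
      · calc (k : G) * k * l * ((k : G) * k)⁻¹ = (k : G) * ((k : G) * l * (k : G)⁻¹) * (k : G)⁻¹ := by group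
          _ = l := by rw [e', hinvc, e', inv_inv]
    have hgen : ∀ (g : G) (s₁ s₂ s₃ : G), g * l₁ * g⁻¹ = s₁ → g * l₂ * g⁻¹ = s₂ → g * l₃ * g⁻¹ = s₃ →
        ∀ i j m, g * e i j m * g⁻¹ = s₁ ^ (i : ℕ) * s₂ ^ (j : ℕ) * s₃ ^ (m : ℕ) := by
      intro g s₁ s₂ s₃ a b d i j m
      show g * (l₁ ^ (i : ℕ) * l₂ ^ (j : ℕ) * l₃ ^ (m : ℕ)) * g⁻¹ = _
      rw [hmulc, hmulc, hcpow, hcpow, hcpow, a, b, d]
    have hsurj : ∀ a ∈ (P : Subgroup G), ∃ i j m, e i j m = a := by
      let F : Fin 3 × Fin 3 × Fin 3 → (P : Subgroup G) := fun q => ⟨e q.1 q.2.1 q.2.2, heP _ _ _⟩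
      have hF : Function.Bijective F := by
        refine (Nat.bijective_iff_injective_and_card F).mpr ⟨fun q q' hq => ?_, by rw [Nat.card_prod, Nat.card_prod, Nat.card_fin, card_three h P]⟩
        obtain ⟨a1, a2, a3⟩ := hinj _ _ _ _ _ _ (congrArg Subtype.val hq :)
        exact Prod.ext a1 (Prod.ext a2 a3)
      intro a ha
      obtain ⟨q, hq⟩ := hF.2 ⟨a, ha⟩
      exact ⟨q.1, q.2.1, q.2.2, congrArg Subtype.val hq⟩
    have hk2 : k * k = 1 := Subtype.ext (D.eq_one_of_centralizes hS h hQ (k * k).2 fun a ha => by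
      obtain ⟨i, j, m, rfl⟩ := hsurj a ha
      rw [hgen _ _ _ _ (hsq _ s1) (hsq _ s2) (hsq _ s3)])
    have hko : orderOf k = 2 := orderOf_eq_prime (by rw [sq, hk2]) hk1
    have hfx := hdist
    -- its fixed line is one of the three
    obtain ⟨l, hlP, hl1, hlk, hlink⟩ := hline k hko
    obtain ⟨i, j, m, hel⟩ := hsurj l hlP
    rcases s1 with a1 | a1
    · rcases s2 with a2 | a2
      · have h1 := hlink l₁ hl₁P a1
        have h2 := hlink l₂ hl₂P a2
        have hlo' := hS.orderOf_three P.2 hlP hl1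
        have h3 : zpowers l₁ = zpowers l := Subgroup.eq_of_le_of_card_ge (zpowers_le.mpr h1)
          (by rw [Nat.card_zpowers, Nat.card_zpowers, hlo', ho₁])
        have h4 : l₂ ∈ zpowers l₁ := h3 ▸ h2
        refine hl₂1 (heq3 l₂ hl₂P ?_)
        have h5 := hconjzp (t : G) l₁ hl₁t l₂ h4
        rw [i₂t] at h5
        exact h5.symm
      · rcases s3 with a3 | a3
        · have h1 := hlink l₁ hl₁P a1
          have h2 := hlink l₃ hl₃P a3
          have hlo' := hS.orderOf_three P.2 hlP hl1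
          have h3 : zpowers l₁ = zpowers l := Subgroup.eq_of_le_of_card_ge (zpowers_le.mpr h1)
            (by rw [Nat.card_zpowers, Nat.card_zpowers, hlo', ho₁])
          have h4 : l₃ ∈ zpowers l₁ := h3 ▸ h2
          refine hl₃1 (heq3 l₃ hl₃P ?_)
          have h5 := hconjzp (t : G) l₁ hl₁t l₃ h4
          rw [i₃t] at h5
          exact h5.symm
        · -- the signs of t
          refine hkt (mul_inv_eq_one.mp (Subtype.ext (D.eq_one_of_centralizes hS h hQ (k * t⁻¹).2 fun a ha => ?_)))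
          obtain ⟨i, j, m, rfl⟩ := hsurj a ha
          rw [hti, Subgroup.coe_mul]
          rw [hgen ((k : G) * t) l₁ l₂ l₃]
          · calc (k : G) * t * l₁ * ((k : G) * t)⁻¹ = (k : G) * ((t : G) * l₁ * (t : G)⁻¹) * (k : G)⁻¹ := by group
              _ = l₁ := by rw [hl₁t, a1]
          · calc (k : G) * t * l₂ * ((k : G) * t)⁻¹ = (k : G) * ((t : G) * l₂ * (t : G)⁻¹) * (k : G)⁻¹ := by group
              _ = l₂ := by rw [i₂t, hinvc, a2, inv_inv]
          · calc (k : G) * t * l₃ * ((k : G) * t)⁻¹ = (k : G) * ((t : G) * l₃ * (t : G)⁻¹) * (k : G)⁻¹ := by group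
              _ = l₃ := by rw [i₃t, hinvc, a3, inv_inv]
    · rcases s2 with a2 | a2
      · rcases s3 with a3 | a3
        · have h1 := hlink l₂ hl₂P a2
          have h2 := hlink l₃ hl₃P a3
          have hlo' := hS.orderOf_three P.2 hlP hl1
          have h3 : zpowers l₂ = zpowers l := Subgroup.eq_of_le_of_card_ge (zpowers_le.mpr h1)
            (by rw [Nat.card_zpowers, Nat.card_zpowers, hlo', ho₂])
          have h4 : l₃ ∈ zpowers l₂ := h3 ▸ h2
          refine hl₃1 (heq3 l₃ hl₃P ?_)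
          have h5 := hconjzp (u : G) l₂ hl₂u l₃ h4
          rw [i₃u] at h5
          exact h5.symm
        · refine hku (mul_inv_eq_one.mp (Subtype.ext (D.eq_one_of_centralizes hS h hQ (k * u⁻¹).2 fun a ha => ?_)))
          obtain ⟨i, j, m, rfl⟩ := hsurj a ha
          rw [show u⁻¹ = u from inv_eq_of_mul_eq_one_right huu, Subgroup.coe_mul]
          rw [hgen ((k : G) * u) l₁ l₂ l₃]
          · calc (k : G) * u * l₁ * ((k : G) * u)⁻¹ = (k : G) * ((u : G) * l₁ * (u : G)⁻¹) * (k : G)⁻¹ := by group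
              _ = l₁ := by rw [i₁u, hinvc, a1, inv_inv]
          · calc (k : G) * u * l₂ * ((k : G) * u)⁻¹ = (k : G) * ((u : G) * l₂ * (u : G)⁻¹) * (k : G)⁻¹ := by group
              _ = l₂ := by rw [hl₂u, a2]
          · calc (k : G) * u * l₃ * ((k : G) * u)⁻¹ = (k : G) * ((u : G) * l₃ * (u : G)⁻¹) * (k : G)⁻¹ := by group
              _ = l₃ := by rw [i₃u, hinvc, a3, inv_inv]
      · rcases s3 with a3 | a3
        · refine hkv (mul_inv_eq_one.mp (Subtype.ext (D.eq_one_of_centralizes hS h hQ (k * v⁻¹).2 fun a ha => ?_)))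
          obtain ⟨i, j, m, rfl⟩ := hsurj a ha
          rw [show v⁻¹ = v from inv_eq_of_mul_eq_one_right hvv, Subgroup.coe_mul]
          rw [hgen ((k : G) * v) l₁ l₂ l₃]
          · calc (k : G) * v * l₁ * ((k : G) * v)⁻¹ = (k : G) * ((v : G) * l₁ * (v : G)⁻¹) * (k : G)⁻¹ := by group
              _ = l₁ := by rw [i₁v, hinvc, a1, inv_inv]
          · calc (k : G) * v * l₂ * ((k : G) * v)⁻¹ = (k : G) * ((v : G) * l₂ * (v : G)⁻¹) * (k : G)⁻¹ := by group
              _ = l₂ := by rw [i₂v, hinvc, a2, inv_inv]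
          · calc (k : G) * v * l₃ * ((k : G) * v)⁻¹ = (k : G) * ((v : G) * l₃ * (v : G)⁻¹) * (k : G)⁻¹ := by group
              _ = l₃ := by rw [hl₃v, a3]
        · -- k inverts everything, so fixes no point but the two
          refine hl1 (heq3 l hlP ?_)
          have h5 := hgen (k : G) _ _ _ a1 a2 a3 i j m
          rw [hel, hlk, inv_pow, inv_pow, inv_pow] at h5
          refine h5.trans ?_
          rw [← hel]
          show (l₁ ^ (i : ℕ))⁻¹ * (l₂ ^ (j : ℕ))⁻¹ * (l₃ ^ (m : ℕ))⁻¹ = (l₁ ^ (i : ℕ) * l₂ ^ (j : ℕ) * l₃ ^ (m : ℕ))⁻¹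
          rw [mul_inv_rev, mul_inv_rev, hcm _ (inv_mem (pow_mem hl₃P _)) _ (mul_mem (inv_mem (pow_mem hl₂P _)) (inv_mem (pow_mem hl₁P _))),
            hcm _ (inv_mem (pow_mem hl₂P _)) _ (inv_mem (pow_mem hl₁P _))]
  · -- k exchanges the last two lines
    have hkv' : k * v * k⁻¹ = u := by
      have h1 : k * v * k⁻¹ = (k * t * k⁻¹) * (k * u * k⁻¹) := by rw [hv]; group
      rw [h1, hku', show k * t * k⁻¹ = t by rw [hkc, mul_inv_cancel_right], hv, ← mul_assoc, htt, one_mul]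
    -- an involution doing so
    obtain ⟨s, hso, hsu, hsv⟩ : ∃ s : K, orderOf s = 2 ∧ s * u * s⁻¹ = v ∧ s * v * s⁻¹ = u := by
      have hne : k * k ≠ u ∧ k * k ≠ v := by
        refine ⟨fun e' => ?_, fun e' => ?_⟩
        · have h1 : k * u * k⁻¹ = u := by rw [← e']; group
          exact hne_uv (h1.symm.trans hku')
        · have h1 : k * v * k⁻¹ = v := by rw [← e']; group
          exact hne_uv (hkv'.symm.trans h1)
      rcases hkk with e' | e' | e' | e'
      · exact ⟨k, orderOf_eq_prime (by rw [sq, e']) hk1, hku', hkv'⟩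
      · refine ⟨k * u, orderOf_eq_prime ?_ ?_, ?_, ?_⟩
        · rw [sq]
          calc k * u * (k * u) = (k * u * k⁻¹) * (k * k) * u := by group
            _ = v * t * u := by rw [hku', e']
            _ = t * (v * u) := by rw [← htv, mul_assoc]
            _ = t * (t * (u * u)) := by rw [hv, mul_assoc]
            _ = 1 := by rw [huu, mul_one, htt]
        · intro h1
          exact hku ((eq_inv_of_mul_eq_one_left h1).trans (inv_eq_of_mul_eq_one_right huu))
        · calc k * u * u * (k * u)⁻¹ = k * (u * u * u⁻¹) * k⁻¹ := by group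
            _ = v := by rw [huu, one_mul, inv_eq_of_mul_eq_one_right huu, hku']
        · calc k * u * v * (k * u)⁻¹ = k * ((u * v) * u⁻¹) * k⁻¹ := by group
            _ = u := by rw [huv, mul_inv_cancel_right, hkv']
      · exact absurd e' hne.1
      · exact absurd e' hne.2
    have hst' : (s : G) * t = t * s := congrArg Subtype.val (Subgroup.mem_center_iff.mp htc s)
    have hsu' : (s : G) * u * (s : G)⁻¹ = v := congrArg Subtype.val hsu
    have hsv' : (s : G) * v * (s : G)⁻¹ = u := congrArg Subtype.val hsv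
    have hss : (s : G) * s = 1 := by rw [← sq, ← ord s hso, pow_orderOf_eq_one]
    -- replace the third generator by the image of the second
    set l₃' := (s : G) * l₂ * (s : G)⁻¹ with hl₃'
    have hl₃'P : l₃' ∈ (P : Subgroup G) := hK_act _ s.2 _ hl₂P
    have hl₃'v : (v : G) * l₃' * (v : G)⁻¹ = l₃' := by
      rw [hl₃', ← hsu']
      calc (s : G) * u * (s : G)⁻¹ * ((s : G) * l₂ * (s : G)⁻¹) * ((s : G) * u * (s : G)⁻¹)⁻¹
          = (s : G) * ((u : G) * l₂ * (u : G)⁻¹) * (s : G)⁻¹ := by group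
        _ = _ := by rw [hl₂u]
    have hs3 : (s : G) * l₃' * (s : G)⁻¹ = l₂ := by
      calc (s : G) * l₃' * (s : G)⁻¹ = ((s : G) * s) * l₂ * ((s : G) * s)⁻¹ := by rw [hl₃']; group
        _ = l₂ := by rw [hss]; group
    have hl₃'1 : l₃' ≠ 1 := fun e' => hl₂1 (by rw [← hs3, e']; group)
    have h33 := hline₃ _ hl₃'P hl₃'v
    have hl33 : l₃ ^ 3 = 1 := hexp _ hl₃P
    -- s inverts the first line
    have hs1 : (s : G) * l₁ * (s : G)⁻¹ = l₁⁻¹ := by
      have h1 : (s : G) * l₁ * (s : G)⁻¹ ∈ zpowers l₁ := by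
        refine hline₁ _ (hK_act _ s.2 _ hl₁P) ?_
        calc (t : G) * ((s : G) * l₁ * (s : G)⁻¹) * (t : G)⁻¹ = ((t : G) * s) * l₁ * ((t : G) * s)⁻¹ := by group
          _ = ((s : G) * t) * l₁ * ((s : G) * t)⁻¹ := by rw [hst']
          _ = (s : G) * ((t : G) * l₁ * (t : G)⁻¹) * (s : G)⁻¹ := by group
          _ = _ := by rw [hl₁t]
      rcases mem_cases (hexp _ hl₁P) h1 with e' | e' | e'
      · exfalso
        refine hl₁1 ?_
        calc l₁ = (s : G)⁻¹ * ((s : G) * l₁ * (s : G)⁻¹) * s := by group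
          _ = 1 := by rw [e']; group
      · exfalso
        -- the fixed line of s is that of l₂ l₃'
        obtain ⟨l, hlP, hl1, hls, hlins⟩ := hline s hso
        have hd : (s : G) * (l₂ * l₃') * (s : G)⁻¹ = l₂ * l₃' := by
          rw [hmulc, hs3, ← hl₃', hcm _ hl₃'P _ hl₂P]
        have h2 := hlins _ hl₁P e'
        have h3 : zpowers l₁ = zpowers l := Subgroup.eq_of_le_of_card_ge (zpowers_le.mpr h2)
          (by rw [Nat.card_zpowers, Nat.card_zpowers, ho₁, hS.orderOf_three P.2 hlP hl1])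
        have h4 : l₂ * l₃' ∈ zpowers l₁ := h3 ▸ hlins _ (mul_mem hl₂P hl₃'P) hd
        have h5 := hconjzp (u : G) l₁ ?_
        rotate_left
        · exfalso
          have h6 := hconjzp (t : G) l₁ hl₁t _ h4
          have i3' : (t : G) * l₃' * (t : G)⁻¹ = l₃'⁻¹ := by
            obtain ⟨n, hn⟩ := h33
            rw [← hn]
            show (t : G) * l₃ ^ n * (t : G)⁻¹ = (l₃ ^ n)⁻¹
            rw [← conj_zpow, i₃t, inv_zpow]
          rw [hmulc, i₂t, i3', ← mul_inv_rev, hcm _ hl₃'P _ hl₂P] at h6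
          have h7 := heq3 _ (mul_mem hl₂P hl₃'P) h6.symm
          have h8 : l₃' = l₂⁻¹ := eq_inv_of_mul_eq_one_right h7
          have h9 := hconjzp (v : G) l₃ hl₃v _ (h8 ▸ h33 : l₂⁻¹ ∈ zpowers l₃)
          rw [hinvc, i₂v, inv_inv] at h9
          exact hl₂1 (heq3 l₂ hl₂P h9)
        exact absurd (h5 l₁ (mem_zpowers l₁)) (by rw [i₁u]; exact fun h' => hl₁1 (heq3 _ hl₁P h'.symm))
      · exact e'.trans (eq_inv_of_mul_eq_one_left (by rw [← pow_three']; exact hexp _ hl₁P))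
    -- the fourth plane
    have hdist2 : ∃ ε : Fin 3, ε ≠ 0 ∧ l₃' = l₃ ^ (ε : ℕ) := by
      rcases mem_cases hl33 h33 with e' | e' | e'
      · exact absurd e' hl₃'1
      · exact ⟨1, by decide, by rw [e']; simp⟩
      · exact ⟨2, by decide, by rw [e']; simp [sq]⟩
    obtain ⟨ε, hε, hl3'⟩ := hdist2
    have p4 : ∑ i, ∑ j, f i j (-(ε * j)) = 18 := hplane s (fun a b => (a, b, -(ε * b)))
      (fun a b hab => by
        simp only [Function.uncurry, Prod.mk.injEq] at hab
        exact Prod.ext hab.1 hab.2.1) hso fun a b => by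
      have hlk' : l₃ ^ ((-(ε * b) : Fin 3) : ℕ) = (l₃' ^ (b : ℕ))⁻¹ := by
        rw [hl3', ← pow_mul]
        refine eq_inv_of_mul_eq_one_left ?_
        rw [← pow_add, ← pow_mod_orderOf, ho₃]
        have : ∀ x y : Fin 3, (((-(x * y) : Fin 3) : ℕ) + (x : ℕ) * (y : ℕ)) % 3 = 0 := by decide
        rw [this ε b, pow_zero]
      show (s : G) * (l₁ ^ (a : ℕ) * l₂ ^ (b : ℕ) * l₃ ^ ((-(ε * b) : Fin 3) : ℕ)) * (s : G)⁻¹ =
        (l₁ ^ (a : ℕ) * l₂ ^ (b : ℕ) * l₃ ^ ((-(ε * b) : Fin 3) : ℕ))⁻¹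
      rw [hlk', hmulc, hmulc, hinvc, hcpow, hcpow, hcpow, hs1, ← hl₃', hs3, inv_pow, mul_inv_rev, mul_inv_rev,
        inv_inv, hcm _ (pow_mem hl₃'P _) _ (mul_mem (inv_mem (pow_mem hl₂P _)) (inv_mem (pow_mem hl₁P _))),
        hcm _ (inv_mem (pow_mem hl₂P _)) _ (inv_mem (pow_mem hl₁P _)), mul_assoc, mul_assoc]
      rw [hcm _ (pow_mem hl₃'P _) _ (inv_mem (pow_mem hl₂P _))]
    -- renormalise to ε = 1
    let g : Fin 3 → Fin 3 → Fin 3 → ℤ := fun i j m => f i j (ε * m)
    have hperm : Function.Bijective fun m : Fin 3 => ε * m := by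
      have : ∀ x : Fin 3, x ≠ 0 → Function.Bijective fun m : Fin 3 => x * m := by decide
      exact this ε hε
    have hre : ∀ F : Fin 3 → ℤ, ∑ m, F (ε * m) = ∑ m, F m := fun F => Fintype.sum_bijective _ hperm _ _ fun m => rfl
    refine arith g (by simp [g, h0]) (fun i j m => hlo _ _ _) (fun i j m hne => hhi _ _ _ ?_) ?_ ?_ ?_ ?_ ?_
    · intro hcon
      simp only [Prod.mk.injEq] at hcon
      refine hne ?_
      rw [hcon.1, hcon.2.1, hperm.1 (a₁ := m) (a₂ := 0) (by simpa using hcon.2.2)]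
    · rw [← htot]
      exact sum_congr rfl fun i _ => sum_congr rfl fun j _ => hre (fun m => f i j m)
    · rw [← p1]; exact sum_congr rfl fun j _ => hre (fun m => f 0 j m)
    · rw [← p2]; exact sum_congr rfl fun i _ => hre (fun m => f i 0 m)
    · simp only [g, mul_zero]; exact p3
    · rw [← p4]
      refine sum_congr rfl fun i _ => sum_congr rfl fun j _ => ?_
      simp only [g, mul_neg]

end Cfsg.Agent.Lib.SpecG2Two
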