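import Cfsg.Agent.Lib.BrauerTuan.SmallBlock

/-!
An involution inverting a self-centralising element of prime order: the structure constant of its
class with itself at that element is exactly one orbit.
-/

set_option autoImplicit false
set_option linter.unusedSectionVars false

namespace Cfsg.Agent.Lib.SpecG2Two

open scoped ComplexConjugate
open Cfsg Cfsg.Agent.Lib Finset Subgroup Cfsg.Agent.Lib.DefectOne

universe u

variable {G : Type u} [Group G] [Fintype G] {p : ℕ} [hp : Fact p.Prime]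

theorem pairs_one {x t : G} (hx : orderOf x = p) (hp2 : p ≠ 2)
    (hC : Nat.card (centralizer ({x} : Set G)) = p) (ht : orderOf t = 2) (hinv : t * x * t⁻¹ = x⁻¹) :
    (Nat.card G : ℂ) * ∑ χ : IrrCharacter G,
        (χ : G → ℂ) t ^ 2 * conj ((χ : G → ℂ) x) / (χ : G → ℂ) 1 =
      (p * (Nat.card (centralizer ({t} : Set G)) * Nat.card (centralizer ({t} : Set G))) : ℕ) := by
  classical
  set C := centralizer ({t} : Set G) with hCdef
  have htt : t * t = 1 := by rw [← sq, ← ht, pow_orderOf_eq_one]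
  have hti : t⁻¹ = t := inv_eq_of_mul_eq_one_right htt
  have hterm : ∀ χ : IrrCharacter G, (Nat.card G : ℂ) *
      ((χ : G → ℂ) t ^ 2 * conj ((χ : G → ℂ) x) / (χ : G → ℂ) 1) =
      ∑ v : G, (χ : G → ℂ) (t * (v * t * v⁻¹)) * conj ((χ : G → ℂ) x) := fun χ => by
    rw [← Finset.sum_mul, Blocks.sum_irr_mul_conj]
    ring
  rw [mul_sum, sum_congr rfl fun χ _ => hterm χ, sum_comm, sum_congr rfl fun v _ => column_sum _ _,
    ← Nat.cast_sum]
  refine congrArg Nat.cast ?_
  -- pairs of conjugates of `t` with product `x`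
  have hcount : ∑ v : G, (univ.filter fun g : G => g * (t * (v * t * v⁻¹)) * g⁻¹ = x).card =
      Nat.card {z : G × G // (z.1 * t * z.1⁻¹) * (z.2 * t * z.2⁻¹) = x} := by
    have h0 : ∀ v : G, (univ.filter fun g : G => g * (t * (v * t * v⁻¹)) * g⁻¹ = x).card =
        Fintype.card {g : G // g * (t * (v * t * v⁻¹)) * g⁻¹ = x} := fun v =>
      (Fintype.card_subtype _).symm
    rw [sum_congr rfl fun v _ => h0 v, ← Fintype.card_sigma, ← Nat.card_eq_fintype_card]
    refine Nat.card_congr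
      { toFun := fun z => ⟨(z.2.1, z.2.1 * z.1), by
          have h1 := z.2.2
          show z.2.1 * t * z.2.1⁻¹ * (z.2.1 * z.1 * t * (z.2.1 * z.1)⁻¹) = x
          refine Eq.trans ?_ h1
          group⟩
        invFun := fun z => ⟨z.1.1⁻¹ * z.1.2, z.1.1, by
          refine Eq.trans ?_ z.2
          group⟩
        left_inv := fun z => by
          exact Sigma.subtype_ext (by simp) rfl
        right_inv := fun z => Subtype.ext (Prod.ext rfl (by simp)) }
  rw [hcount]
  have hP : Nat.card (zpowers x) = p := by rw [Nat.card_zpowers, hx]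
  have hCx : centralizer ({x} : Set G) = zpowers x := by
    refine (Subgroup.eq_of_le_of_card_ge ?_ (by rw [hC, hP])).symm
    rw [zpowers_le, mem_centralizer_singleton_iff]
  have hconj : ∀ c ∈ zpowers x, t * c * t⁻¹ = c⁻¹ := by
    rintro _ ⟨j, rfl⟩
    show t * x ^ j * t⁻¹ = (x ^ j)⁻¹
    rw [← conj_zpow, hinv, inv_zpow]
  have hzx : ∀ c ∈ zpowers x, Commute c x := by
    rintro _ ⟨j, rfl⟩
    exact Commute.zpow_self x j
  have hmove : ∀ z ∈ zpowers x, z * t * z⁻¹ = z * z * t := by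
    intro z hz
    have h1 : t * z⁻¹ = z * t := by
      have := hconj _ (inv_mem hz)
      rw [inv_inv] at this
      calc t * z⁻¹ = t * z⁻¹ * t⁻¹ * t := by group
        _ = z * t := by rw [this]
    rw [mul_assoc, h1, mul_assoc]
  have hodd : p % 2 = 1 := (hp.out.eq_two_or_odd).resolve_left hp2
  set h := (p - 1) / 2 with hh
  have hxp : x ^ (h + h + 1) = 1 := by
    rw [show h + h + 1 = p by omega, ← hx, pow_orderOf_eq_one]
  set v0 := x ^ h with hv0
  have hv0x : v0 * v0 = x⁻¹ := by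
    rw [hv0, ← pow_add, eq_inv_iff_mul_eq_one, ← pow_succ, hxp]
  have hv0t : v0 * t * v0⁻¹ = t * x := by
    rw [hmove v0 (pow_mem (mem_zpowers x) _), hv0x]
    have h1 := hconj x (mem_zpowers x)
    calc x⁻¹ * t = t * x * t⁻¹ * t := by rw [h1]
      _ = t * x := by group
  have hsq : ∀ w ∈ zpowers x, ∃ z ∈ zpowers x, z * z = w := by
    intro w hw
    refine ⟨w ^ (h + 1), pow_mem hw _, ?_⟩
    have hwp : w ^ (h + h + 1) = 1 := by
      obtain ⟨j, rfl⟩ := hw
      show (x ^ j) ^ (h + h + 1) = 1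
      rw [← zpow_natCast, ← zpow_mul, mul_comm, zpow_mul, zpow_natCast, hxp, one_zpow]
    rw [← pow_add, show h + 1 + (h + 1) = h + h + 1 + 1 by omega, pow_succ, hwp, one_mul]
  have hC' : ∀ {c : G}, c ∈ C → c * t * c⁻¹ = t := fun {c} hc => by
    rw [mem_centralizer_singleton_iff.mp hc]; group
  have htriv : ∀ w ∈ zpowers x, w ∈ C → w = 1 := by
    intro w hw hwC
    have h1 := hC' hwC
    rw [hmove w hw, mul_eq_right] at h1
    have h2 : orderOf w ∣ 2 := orderOf_dvd_of_pow_eq_one (by rw [sq, h1])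
    have h3 : orderOf w ∣ p := hP ▸ Subgroup.orderOf_dvd_natCard _ hw
    exact orderOf_eq_one_iff.mp (Nat.eq_one_of_dvd_coprimes
      ((Nat.coprime_primes hp.out Nat.prime_two).mpr hp2) h3 h2)
  let F : zpowers x × C × C → {z : G × G // (z.1 * t * z.1⁻¹) * (z.2 * t * z.2⁻¹) = x} := fun w =>
    ⟨((w.1 : G) * w.2.1, (w.1 : G) * v0 * w.2.2), by
      have e1 : (w.1 : G) * w.2.1 * t * ((w.1 : G) * w.2.1)⁻¹ = (w.1 : G) * t * (w.1 : G)⁻¹ := by
        conv_rhs => rw [← hC' w.2.1.2]
        group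
      have e2 : (w.1 : G) * v0 * w.2.2 * t * ((w.1 : G) * v0 * w.2.2)⁻¹ = (w.1 : G) * (t * x) * (w.1 : G)⁻¹ := by
        rw [← hv0t]
        conv_rhs => rw [← hC' w.2.2.2]
        group
      show (w.1 : G) * w.2.1 * t * ((w.1 : G) * w.2.1)⁻¹ *
        ((w.1 : G) * v0 * w.2.2 * t * ((w.1 : G) * v0 * w.2.2)⁻¹) = x
      rw [e1, e2]
      have hcomm : (w.1 : G) * x = x * w.1 := (hzx _ w.1.2).eq
      calc (w.1 : G) * t * (w.1 : G)⁻¹ * ((w.1 : G) * (t * x) * (w.1 : G)⁻¹)
          = (w.1 : G) * (t * t) * x * (w.1 : G)⁻¹ := by group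
        _ = x := by rw [htt, mul_one, hcomm, mul_inv_cancel_right]⟩
  have hF : Function.Bijective F := by
    constructor
    · rintro ⟨z, a, b⟩ ⟨z', a', b'⟩ e
      have e1 : (z : G) * a = z' * a' := congrArg (fun w => w.1.1) e
      have e2 : (z : G) * v0 * b = z' * v0 * b' := congrArg (fun w => w.1.2) e
      have hz : (z' : G)⁻¹ * z ∈ C := by
        have : (z' : G)⁻¹ * z = a' * (a : G)⁻¹ := by
          rw [eq_mul_inv_iff_mul_eq, mul_assoc, e1, inv_mul_cancel_left]
        rw [this]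
        exact mul_mem a'.2 (inv_mem a.2)
      have hzz : (z : G) = z' :=
        (inv_mul_eq_one.mp (htriv _ (mul_mem (inv_mem z'.2) z.2) hz)).symm
      rw [hzz] at e1 e2
      exact Prod.ext (Subtype.ext hzz) (Prod.ext (Subtype.ext (mul_left_cancel e1))
        (Subtype.ext (mul_left_cancel e2)))
    · rintro ⟨⟨g, k⟩, hgk⟩
      set a := g * t * g⁻¹ with ha
      set b := k * t * k⁻¹ with hb
      have haa : a * a = 1 := by
        calc a * a = g * (t * t) * g⁻¹ := by rw [ha]; group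
          _ = 1 := by rw [htt, mul_one, mul_inv_cancel]
      have hbb : b * b = 1 := by
        calc b * b = k * (t * t) * k⁻¹ := by rw [hb]; group
          _ = 1 := by rw [htt, mul_one, mul_inv_cancel]
      have hab : a * b = x := hgk
      have hainv : a * x * a⁻¹ = x⁻¹ := by
        refine eq_inv_of_mul_eq_one_left ?_
        calc a * x * a⁻¹ * x = a * a * b * (a⁻¹ * a) * b := by rw [← hab]; group
          _ = 1 := by rw [haa, one_mul, inv_mul_cancel, mul_one, hbb]
      have hw : a * t⁻¹ ∈ zpowers x := by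
        rw [← hCx, mem_centralizer_singleton_iff]
        have h2 : t⁻¹ * x = x⁻¹ * t⁻¹ := by
          rw [hti]
          calc t * x = t * x * t⁻¹ * t := by group
            _ = x⁻¹ * t := by rw [hinv]
        have h3 : a * x⁻¹ = x * a := by
          calc a * x⁻¹ = (a * x * a⁻¹)⁻¹ * a := by group
            _ = x * a := by rw [hainv, inv_inv]
        rw [mul_assoc, h2, ← mul_assoc, h3, mul_assoc]
      obtain ⟨z, hz, hzw⟩ := hsq _ hw
      have hat : a = z * t * z⁻¹ := by rw [hmove z hz, hzw]; group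
      have hzC : z⁻¹ * g ∈ C := by
        rw [hCdef, mem_centralizer_singleton_iff]
        have h3 : g * t * g⁻¹ = z * t * z⁻¹ := hat
        calc z⁻¹ * g * t = z⁻¹ * (g * t * g⁻¹) * g := by group
          _ = t * (z⁻¹ * g) := by rw [h3]; group
      have hbt : b = z * (t * x) * z⁻¹ := by
        have hcomm : z * x = x * z := (hzx _ hz).eq
        have h4 : b = a * x := by rw [← hab, ← mul_assoc, haa, one_mul]
        have h5 : z⁻¹ * x = x * z⁻¹ := by
          rw [inv_mul_eq_iff_eq_mul, ← mul_assoc, hcomm, mul_inv_cancel_right]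
        rw [h4, hat, mul_assoc, h5]
        group
      have hvC : v0⁻¹ * (z⁻¹ * k) ∈ C := by
        rw [hCdef, mem_centralizer_singleton_iff]
        have h3 : k * t * k⁻¹ = z * (v0 * t * v0⁻¹) * z⁻¹ := by rw [hv0t]; exact hbt
        calc v0⁻¹ * (z⁻¹ * k) * t = v0⁻¹ * z⁻¹ * (k * t * k⁻¹) * k := by group
          _ = t * (v0⁻¹ * (z⁻¹ * k)) := by rw [h3]; group
      refine ⟨(⟨z, hz⟩, ⟨_, hzC⟩, ⟨_, hvC⟩), Subtype.ext (Prod.ext ?_ ?_)⟩
      · show z * (z⁻¹ * g) = g
        group
      · show z * v0 * (v0⁻¹ * (z⁻¹ * k)) = k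
        group
  rw [← Nat.card_congr (Equiv.ofBijective F hF), Nat.card_prod, Nat.card_prod, hP]

end Cfsg.Agent.Lib.SpecG2Two
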