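import Cfsg.Agent.Lib.SpecG2Two.Block
import Cfsg.Agent.Lib.SpecG2Two.PairOne

/-!
There is no simple group of order 12096 without elements of order 9, 14 or 21: degrees in the
principal block at seven, and the values at an inverting and at a central involution.
-/

set_option autoImplicit false
set_option linter.unusedSectionVars false
set_option linter.style.haveILetI false

namespace Cfsg.Agent.Lib.SpecG2Two

open scoped ComplexConjugate
open Finset Subgroup Cfsg Cfsg.Agent.Lib
open Cfsg.Agent.Lib.DefectOne Cfsg.Agent.Lib.BrauerReynolds Cfsg.Agent.Lib.BrauerTuan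
open Cfsg.Agent.Lib.SmallGroups.PrimeChar (xp xp_one)

universe u

/-- One more letter. -/
def withHead (a : ℕ) (c : ℕ → List (List ℕ)) : ℕ → List (List ℕ)
  | 0 => c 0
  | k + 1 => (withHead a c k).map (a :: ·) ++ c (k + 1)

/-- Ascending lists of given length. -/
def combos : List ℕ → ℕ → List (List ℕ)
  | [] => fun k => if k = 0 then [[]] else []
  | a :: l => withHead a (combos l)

theorem combos_zero : ∀ d : List ℕ, combos d 0 = [[]]
  | [] => rfl
  | _ :: d => combos_zero d

theorem combos_succ (a : ℕ) (l : List ℕ) (k : ℕ) :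
    combos (a :: l) (k + 1) = (combos (a :: l) k).map (a :: ·) ++ combos l (k + 1) := rfl

theorem exists_combo : ∀ (d : List ℕ) (k : ℕ) (m : Multiset ℕ), (∀ a ∈ m, a ∈ d) → m.card = k →
    ∃ l ∈ combos d k, (l : Multiset ℕ) = m
  | d, 0, m, _, hk => ⟨[], by simp [combos_zero], by
      rw [Multiset.card_eq_zero.mp hk]; rfl⟩
  | [], k + 1, m, hm, hk => by
      obtain ⟨a, ha⟩ := Multiset.card_pos_iff_exists_mem.mp (show 0 < m.card by omega)
      exact absurd (hm a ha) List.not_mem_nil
  | a :: d, k + 1, m, hm, hk => by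
      by_cases ha : a ∈ m
      · obtain ⟨l, hl, hle⟩ := exists_combo (a :: d) k (m.erase a)
          (fun b hb => hm b (Multiset.mem_of_mem_erase hb)) (by rw [Multiset.card_erase_of_mem ha, hk]; rfl)
        refine ⟨a :: l, by simp [combos_succ, hl], ?_⟩
        rw [← Multiset.cons_coe, hle, Multiset.cons_erase ha]
      · obtain ⟨l, hl, hle⟩ := exists_combo d (k + 1) m (fun b hb => by
          rcases List.mem_cons.mp (hm b hb) with h | h
          · exact absurd (h ▸ hb) ha
          · exact h) hk
        exact ⟨l, by simp [combos_succ, hl], hle⟩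
  termination_by d k => (d.length, k)

/-- The possible degrees. -/
def degList : List ℕ := [6, 8, 27, 36, 48, 64]

theorem mem_degList : ∀ f ∈ List.range 110, f ∣ 1728 → 1 < f → (f % 7 = 1 ∨ f % 7 = 6) → f ∈ degList := by
  decide +kernel

/-- The tuples without a solution at an inverting involution. -/
def tuplesA : List (List ℕ) :=
  [[6, 6, 6, 8, 27, 36], [6, 8, 8, 27, 48, 64], [6, 8, 27, 36, 36, 48], [6, 8, 8, 8, 8, 27]]

/-- The tuples without a solution at a central involution. -/
def tuplesB : List (List ℕ) := [[8, 8, 27, 27, 27, 64], [8, 27, 27, 27, 36, 36]]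

theorem tuples : ∀ l ∈ combos degList 6, 1 + (l.map fun f => sgn f * (f : ℤ)).sum = 0 →
    1 + (l.map fun f => f * f).sum ≤ 12096 → l ∈ tuplesA ∨ l ∈ tuplesB := by decide +kernel

/-- The conditions on one value. -/
def valOK (C f : ℕ) (a : ℤ) : Bool :=
  decide ((4 : ℤ) ∣ (f : ℤ) - a) && decide ((f : ℤ) ∣ ((12096 / C : ℕ) : ℤ) * a) && decide (|a| ≤ f)

/-- The weight of a value. -/
def wt (f : ℕ) (a : ℤ) : ℤ := sgn f * (a * a) * ((1728 / f : ℕ) : ℤ)

/-- A search for values. -/
def search (C : ℕ) (ok : ℤ → Bool) : List ℕ → ℤ → ℤ → ℤ → Bool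
  | [], s, q, T => s == 0 && decide (q ≤ (C : ℤ)) && ok T
  | f :: l, s, q, T => (List.range (2 * f + 1)).any fun i =>
      valOK C f ((i : ℤ) - f) && decide (q + ((i : ℤ) - f) * ((i : ℤ) - f) ≤ (C : ℤ)) &&
        search C ok l (s + sgn f * ((i : ℤ) - f)) (q + ((i : ℤ) - f) * ((i : ℤ) - f))
          (T + wt f ((i : ℤ) - f))

theorem search_complete (C : ℕ) (ok : ℤ → Bool) : ∀ (L : List (ℕ × ℤ)) (s q T : ℤ),
    (∀ z ∈ L, valOK C z.1 z.2 = true) → s + (L.map fun z => sgn z.1 * z.2).sum = 0 →
    q + (L.map fun z => z.2 * z.2).sum ≤ (C : ℤ) → ok (T + (L.map fun z => wt z.1 z.2).sum) = true →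
    search C ok (L.map Prod.fst) s q T = true
  | [], s, q, T, _, h1, h2, h3 => by
    simp only [List.map_nil, List.sum_nil, add_zero] at h1 h2 h3
    simp [search, h1, h2, h3]
  | (f, a) :: L, s, q, T, hv, h1, h2, h3 => by
    simp only [List.map_cons, List.sum_cons, ← add_assoc] at h1 h2 h3
    have hva := hv (f, a) List.mem_cons_self
    have hb : |a| ≤ (f : ℤ) := by
      simp only [valOK, Bool.and_eq_true, decide_eq_true_eq] at hva
      exact hva.2
    have hb' := abs_le.mp hb
    have hnn : 0 ≤ (L.map fun z => z.2 * z.2).sum := List.sum_nonneg fun x hx => by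
      obtain ⟨z, -, rfl⟩ := List.mem_map.mp hx
      exact mul_self_nonneg _
    simp only [List.map_cons, search, List.any_eq_true, List.mem_range]
    refine ⟨(a + f).toNat, by omega, ?_⟩
    rw [show (((a + f).toNat : ℕ) : ℤ) - f = a by omega]
    simp only [Bool.and_eq_true, decide_eq_true_eq]
    exact ⟨⟨hva, by linarith⟩, search_complete C ok L _ _ _ (fun z hz => hv z (List.mem_cons_of_mem _ hz)) h1 h2 h3⟩

/-- The admissible centralizer orders. -/
def orders' : List ℕ := (List.range 1729).filter fun C => 1728 % C == 0 && C % 2 == 0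

theorem searchA : ∀ l ∈ tuplesA, ∀ C ∈ orders',
    search C (fun T => T == (C : ℤ) * C) l 1 1 1728 = false := by decide +kernel

theorem searchB : ∀ l ∈ tuplesB, ∀ C ∈ orders', 64 ∣ C →
    search C (fun T => decide ((C : ℤ) * C ∣ T)) l 1 1 1728 = false := by decide +kernel

variable {G : Type u} [Group G] [Fintype G]

theorem index_data {x : G} (hC : Nat.card (centralizer ({x} : Set G)) = 7) {t : G} (ht : orderOf t = 2)
    (hG : Nat.card G = 12096) (hx : orderOf x = 7) (hS : Spec G) :
    Nat.card (centralizer ({t} : Set G)) ∈ orders' ∧ ¬ 7 ∣ Nat.card (centralizer ({t} : Set G)) ∧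
      (centralizer ({t} : Set G)).index = 12096 / Nat.card (centralizer ({t} : Set G)) := by
  haveI : Fact (Nat.Prime 7) := ⟨by norm_num⟩
  set C := centralizer ({t} : Set G) with hCdef
  have h7 : ¬ 7 ∣ Nat.card C := by
    intro hd
    obtain ⟨y, hy⟩ := exists_prime_orderOf_dvd_card' 7 hd
    rw [← Subgroup.orderOf_coe] at hy
    have h1 : t ∈ centralizer ({(y : G)} : Set G) := by
      rw [mem_centralizer_singleton_iff]
      exact (mem_centralizer_singleton_iff.mp y.2).symm
    have h2 := Subgroup.orderOf_dvd_natCard _ h1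
    rw [ht, card_centralizer_seven hS (by rw [hG]) hy] at h2
    norm_num at h2
  have hmul : C.index * Nat.card C = 12096 := by rw [mul_comm, Subgroup.card_mul_index, hG]
  have hd : Nat.card C ∣ 1728 := by
    have h1 : Nat.card C ∣ 7 * 1728 := Dvd.intro_left C.index (by rw [hmul])
    exact (((by norm_num : Nat.Prime 7).coprime_iff_not_dvd.mpr h7).symm).dvd_of_dvd_mul_left h1
  have h2 : 2 ∣ Nat.card C := ht ▸ Subgroup.orderOf_dvd_natCard _ (mem_centralizer_singleton_iff.mpr rfl)
  refine ⟨List.mem_filter.mpr ⟨List.mem_range.mpr (Nat.lt_succ_of_le (Nat.le_of_dvd (by norm_num) hd)), by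
    simp [Nat.mod_eq_zero_of_dvd hd, Nat.mod_eq_zero_of_dvd h2]⟩, h7, ?_⟩
  rw [← hmul, Nat.mul_div_cancel _ Nat.card_pos]

/-- There is no such simple group. -/
theorem false_of_simple [IsSimpleGroup G] (hS : Spec G) (h : Nat.card G = 12096)
    (hsyl : Nat.card (Sylow 7 G) = 288) : False := by
  classical
  haveI : Fact (Nat.Prime 7) := ⟨by norm_num⟩
  haveI : Fact (Nat.Prime 2) := ⟨Nat.prime_two⟩
  have hG : ¬ IsMulCommutative G := SmallGroups.not_isMulCommutative_of_not_prime (by rw [h]; norm_num)
  have hR := reduced_of_simple hG (p := 7) (by rw [h]; norm_num)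
  obtain ⟨P⟩ := (inferInstance : Nonempty (Sylow 7 G))
  have hP : Nat.card (P : Subgroup G) = 7 := by
    rw [Sylow.card_eq_multiplicity, h, show (12096 : ℕ) = 7 ^ 1 * 1728 by norm_num,
      Nat.factorization_mul (by norm_num) (by norm_num), (by norm_num : Nat.Prime 7).factorization_pow]
    simp [Nat.factorization_eq_zero_of_not_dvd (n := 1728) (p := 7) (by norm_num)]
  obtain ⟨D, hDn, hDx⟩ := exists_setting hR P hP 41 (by rw [hsyl])
  set x := D.S.x with hxdef
  have hx : orderOf x = 7 := D.S.order_x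
  have hC := card_centralizer_seven hS (by rw [h]) hx
  have hV : D.S.V = ⊥ := by
    have h1 := card_centralizer_x D.S
    rw [← hxdef, hC] at h1
    exact Subgroup.card_eq_one.mp (by omega)
  obtain ⟨K⟩ := exists_frame D hV
  have hcard := D.card_group
  rw [h, hV, Subgroup.card_bot, hDn] at hcard
  have he : D.e = 6 := by omega
  have ht : D.t = 1 := by have := D.het; rw [he] at this; omega
  obtain ⟨T, s, hT, h1T, hs1, hTp, hTz, hTrel⟩ := exists_star D K ht
  set one := Chars.trivialIrr G with hone
  set S := T.erase one with hSdef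
  have hScard : S.card = 6 := by rw [card_erase_of_mem h1T, hT, he]
  have hsgn : ∀ χ ∈ S, degOf χ ∈ degList ∧ s χ = sgn (degOf χ) ∧ χ ≠ one := by
    intro χ hχ
    obtain ⟨hne, hχT⟩ := mem_erase.mp hχ
    obtain ⟨hu, -, hc, hd⟩ := hTp χ hχT
    have hc' := Int.modEq_iff_dvd.mp hc
    have hlt : degOf χ < 110 := by
      have hsq := sq_degOf_lt hne
      rw [h] at hsq
      by_contra hcon
      have := Nat.mul_le_mul (not_lt.mp hcon) (not_lt.mp hcon)
      omega
    refine ⟨mem_degList _ (List.mem_range.mpr hlt) ?_ (one_lt_degOf hR hne) ?_, ?_, hne⟩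
    · rw [he, hDn] at hd; exact hd
    · rcases hu with hh | hh <;> rw [hh] at hc' <;> omega
    · rcases hu with hh | hh <;> rw [hh] at hc' ⊢ <;> unfold sgn <;> split_ifs <;> omega
  -- the list of the characters
  obtain ⟨l, hl, hlm⟩ := exists_combo degList 6 (S.val.map degOf) (fun a ha => by
    obtain ⟨χ, hχ, rfl⟩ := Multiset.mem_map.mp ha
    exact (hsgn χ hχ).1) (by rw [Multiset.card_map]; exact hScard)
  have hmapsum : ∀ f : ℕ → ℤ, (l.map f).sum = ∑ χ ∈ S, f (degOf χ) := by
    intro f
    rw [← Multiset.sum_coe, ← Multiset.map_coe, hlm, Multiset.map_map]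
    rfl
  have hdeg : 1 + (l.map fun f => sgn f * (f : ℤ)).sum = 0 := by
    have h1 := hTrel 1 (by rw [orderOf_one]; norm_num)
    rw [← add_sum_erase _ _ h1T, hs1, Chars.trivialIrr_apply, ← hSdef] at h1
    have h2 : ((1 + (l.map fun f => sgn f * (f : ℤ)).sum : ℤ) : ℂ) = ((0 : ℤ) : ℂ) := by
      rw [hmapsum]
      push_cast
      rw [← h1]
      refine congrArg₂ _ (by norm_num) (sum_congr rfl fun χ hχ => ?_)
      rw [(hsgn χ hχ).2.1, apply_one_eq_degOf]
    exact_mod_cast h2
  have hsq : 1 + (l.map fun f => f * f).sum ≤ 12096 := by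
    have h1 : ∑ ψ : IrrCharacter G, degOf ψ * degOf ψ = Nat.card G := by
      apply Nat.cast_injective (R := ℂ)
      push_cast
      rw [← Chars.sum_degree_sq]
      exact sum_congr rfl fun ψ _ => by rw [apply_one_eq_degOf, sq]
    have h2 := sum_le_sum_of_subset (f := fun ψ : IrrCharacter G => degOf ψ * degOf ψ) (subset_univ T)
    rw [h1, h, ← add_sum_erase _ _ h1T, hone, degOf_trivial, ← hone, ← hSdef] at h2
    rw [← Multiset.sum_coe, ← Multiset.map_coe, hlm, Multiset.map_map]
    exact h2
  -- values at an involution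
  have hval : ∀ t : G, orderOf t = 2 → ∃ W : ℤ,
      (Nat.card G : ℂ) * ∑ χ : IrrCharacter G,
        (χ : G → ℂ) t ^ 2 * conj ((χ : G → ℂ) x) / (χ : G → ℂ) 1 = ((7 * W : ℤ) : ℂ) ∧
      ∀ ok : ℤ → Bool, ok W = true →
        search (Nat.card (centralizer ({t} : Set G))) ok l 1 1 1728 = true := by
    intro t ht2
    obtain ⟨-, -, hidx⟩ := index_data hC ht2 h hx hS
    choose v hv using fun χ : IrrCharacter G => SmallGroups.PrimeChar.exists_int_apply_involution χ ht2
    refine ⟨1728 + ∑ χ ∈ S, wt (degOf χ) (v χ), ?_, fun ok hok => ?_⟩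
    · have hone1 : v one = 1 := by
        have := hv one
        rw [hone, Chars.trivialIrr_apply] at this
        exact_mod_cast this.symm
      rw [← sum_subset (subset_univ T) (fun χ _ hχ => by rw [hTz χ hχ, map_zero, mul_zero, zero_div]),
        ← add_sum_erase _ _ h1T, h, ← hSdef, mul_add, mul_sum]
      push_cast
      rw [mul_add, mul_sum]
      refine congrArg₂ _ ?_ (sum_congr rfl fun χ hχ => ?_)
      · rw [(hTp one h1T).2.1, hs1, hv, hone1, apply_one_eq_degOf, hone, degOf_trivial]
        norm_num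
      · have hm := (mem_erase.mp hχ).2
        rw [(hTp χ hm).2.1, hv, apply_one_eq_degOf, (hsgn χ hχ).2.1, map_intCast]
        have hd : degOf χ ∣ 1728 := by
          have := (hTp χ hm).2.2.2
          rwa [he, hDn] at this
        have hne : (degOf χ : ℂ) ≠ 0 := Nat.cast_ne_zero.mpr (degOf_pos χ).ne'
        have hdiv : ((1728 / degOf χ : ℕ) : ℂ) * (degOf χ : ℂ) = 1728 := by
          rw [← Nat.cast_mul, Nat.div_mul_cancel hd]; norm_num
        obtain ⟨q, hq⟩ : ∃ q, 1728 / degOf χ = q := ⟨_, rfl⟩
        rw [hq] at hdiv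
        simp only [wt, hq]
        push_cast
        field_simp
        linear_combination -(7 * (sgn (degOf χ) : ℂ) * (v χ : ℂ) ^ 2) * hdiv
    · -- the list of the degrees with their values
      have hex : ∃ L : List (ℕ × ℤ), L.map Prod.fst = l ∧
          (L : Multiset (ℕ × ℤ)) = S.val.map fun χ => (degOf χ, v χ) := by
        have hp : l.Perm ((S.toList.map fun χ => (degOf χ, v χ)).map Prod.fst) := by
          rw [← Multiset.coe_eq_coe, hlm, List.map_map, ← Multiset.map_coe, Finset.coe_toList]
          rfl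
        obtain ⟨L, hL1, hL2⟩ := List.perm_comp_forall₂ hp (List.forall₂_map_left_iff.mpr
          (List.forall₂_same.mpr fun z _ => (rfl : z.1 = z.1)) : List.Forall₂ (fun (a : ℕ) (z : ℕ × ℤ) => a = z.1)
            _ _)
        refine ⟨L, ?_, ?_⟩
        · clear hL2 hok hlm hl hdeg hsq hmapsum hp
          induction hL1 with
          | nil => rfl
          | cons h _ ih => rw [List.map_cons, ← h, ih]
        · rw [← Finset.coe_toList, Multiset.map_coe, Multiset.coe_eq_coe]
          exact hL2
      obtain ⟨L, hL1, hL2⟩ := hex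
      have hLsum : ∀ f : ℕ × ℤ → ℤ, (L.map f).sum = ∑ χ ∈ S, f (degOf χ, v χ) := by
        intro f
        rw [← Multiset.sum_coe, ← Multiset.map_coe, hL2, Multiset.map_map]
        rfl
      have hv1 : v one = 1 := by
        have := hv one
        rw [hone, Chars.trivialIrr_apply] at this
        exact_mod_cast this.symm
      rw [← hL1]
      refine search_complete _ _ _ _ _ _ (fun z hz => ?_) ?_ ?_ ?_
      · have hz' : z ∈ S.val.map fun χ => (degOf χ, v χ) := hL2 ▸ (Multiset.mem_coe.mpr hz)
        obtain ⟨χ, hχ, rfl⟩ := Multiset.mem_map.mp hz'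
        simp only [valOK, Bool.and_eq_true, decide_eq_true_eq, ← hidx]
        refine ⟨⟨dvd_sub_apply_involution hG χ (by rw [← sq, ← ht2, pow_orderOf_eq_one]) (hv χ),
          degOf_dvd_index_mul (hv χ)⟩, ?_⟩
        have h1 := Chars.norm_char_le_degree (Chars.irr_isCharacter χ) t
        rw [hv χ, apply_one_eq_degOf, Complex.natCast_re, Complex.norm_intCast] at h1
        exact_mod_cast h1
      · have h1 := hTrel t (by rw [ht2]; norm_num)
        rw [← add_sum_erase _ _ h1T, hs1, hv, hv1, ← hSdef] at h1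
        rw [hLsum]
        have h2 : ((1 + ∑ χ ∈ S, sgn (degOf χ) * v χ : ℤ) : ℂ) = ((0 : ℤ) : ℂ) := by
          push_cast
          rw [← h1]
          refine congrArg₂ _ (by norm_num) (sum_congr rfl fun χ hχ => ?_)
          rw [(hsgn χ hχ).2.1, hv]
        exact_mod_cast h2
      · have hcol : ∑ χ : IrrCharacter G, v χ * v χ = (Nat.card (centralizer ({t} : Set G)) : ℤ) := by
          apply Int.cast_injective (α := ℂ)
          push_cast
          rw [← Chars.column_orthogonality_of_isConj (IsConj.refl t)]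
          exact sum_congr rfl fun χ _ => by rw [hv, map_intCast]
        have h2 := sum_le_sum_of_subset_of_nonneg (subset_univ T) (f := fun χ => v χ * v χ)
          (fun χ _ _ => mul_self_nonneg _)
        rw [hcol, ← add_sum_erase _ _ h1T, hv1, ← hSdef] at h2
        rw [hLsum]
        exact h2
      · rw [hLsum]; exact hok
  -- an inverting involution
  obtain ⟨t, ht2, hinv⟩ : ∃ t : G, orderOf t = 2 ∧ t * x * t⁻¹ = x⁻¹ := by
    have hmul := SmallGroups.card_normalizer_sylow_mul P
    rw [h, hsyl] at hmul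
    set N := normalizer ((P : Subgroup G) : Set G) with hN
    obtain ⟨⟨t, htN⟩, hto⟩ := exists_prime_orderOf_dvd_card' (G := N) 2 (by omega)
    rw [Subgroup.orderOf_mk] at hto
    refine ⟨t, hto, ?_⟩
    have hPx : (P : Subgroup G) = zpowers x :=
      (Subgroup.eq_of_le_of_card_ge (zpowers_le.mpr hDx) (by rw [hP, Nat.card_zpowers, hx])).symm
    have h1 : t * x * t⁻¹ ∈ zpowers x := hPx ▸ (Subgroup.mem_normalizer_iff.mp htN x).mp hDx
    obtain ⟨j, hj⟩ := h1
    change x ^ j = t * x * t⁻¹ at hj
    have htt : t * t = 1 := by rw [← sq, ← hto, pow_orderOf_eq_one]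
    have h2 : x ^ (j * j) = x ^ (1 : ℤ) := by
      rw [zpow_mul, hj, conj_zpow, hj, zpow_one, inv_eq_of_mul_eq_one_right htt]
      simp [← mul_assoc, htt]
      rw [mul_assoc, htt, mul_one]
    rw [zpow_eq_zpow_iff_modEq, hx] at h2
    have hj2 : (7 : ℤ) ∣ (j - 1) * (j + 1) := by
      have := Int.modEq_iff_dvd.mp h2.symm
      push_cast at this
      rwa [show (j - 1) * (j + 1) = j * j - 1 by ring]
    rcases (Nat.prime_iff_prime_int.mp (show Nat.Prime 7 by norm_num)).dvd_mul.mp hj2 with h3 | h3
    · exfalso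
      have h4 : x ^ j = x := by
        conv_rhs => rw [← zpow_one x]
        rw [zpow_eq_zpow_iff_modEq, hx, Int.modEq_iff_dvd]
        push_cast
        rw [← dvd_neg, neg_sub]; exact h3
      have h5 : t ∈ centralizer ({x} : Set G) := by
        rw [mem_centralizer_singleton_iff]
        exact mul_inv_eq_iff_eq_mul.mp (hj.symm.trans h4)
      have h6 := Subgroup.orderOf_dvd_natCard _ h5
      rw [hto, hC] at h6
      norm_num at h6
    · rw [← hj, ← zpow_neg_one, zpow_eq_zpow_iff_modEq, hx, Int.modEq_iff_dvd]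
      push_cast
      rw [← dvd_neg, show -(-1 - j) = j + 1 by ring]; exact h3
  rcases tuples l hl hdeg hsq with hA | hB
  · obtain ⟨W, hW, hsearch⟩ := hval t ht2
    have hone2 := pairs_one hx (by norm_num) hC ht2 hinv
    rw [hW] at hone2
    set C := Nat.card (centralizer ({t} : Set G)) with hCdef
    have hWC : W = (C : ℤ) * C := by
      have h1 : (7 * W : ℤ) = ((7 * (C * C) : ℕ) : ℤ) := by exact_mod_cast hone2
      push_cast at h1
      linarith
    have := searchA l hA C (index_data hC ht2 h hx hS).1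
    rw [hsearch _ (by simp [hWC])] at this
    exact Bool.noConfusion this
  · -- a central involution
    obtain ⟨Q⟩ := (inferInstance : Nonempty (Sylow 2 G))
    have hQ : Nat.card (Q : Subgroup G) = 64 := by
      rw [Sylow.card_eq_multiplicity, h, show (12096 : ℕ) = 2 ^ 6 * 189 by norm_num,
        Nat.factorization_mul (by norm_num) (by norm_num), Nat.prime_two.factorization_pow]
      simp [Nat.factorization_eq_zero_of_not_dvd (n := 189) (p := 2) (by norm_num)]
    haveI : Nontrivial (Q : Subgroup G) := Finite.one_lt_card_iff_nontrivial.mp (by omega)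
    haveI := Q.2.center_nontrivial
    have h2 : 2 ∣ Nat.card (Subgroup.center (Q : Subgroup G)) := by
      obtain ⟨k, hk0, hk⟩ := (Q.2.to_subgroup (Subgroup.center (Q : Subgroup G))).nontrivial_iff_card.mp
        inferInstance
      rw [hk]; exact dvd_pow_self 2 (by omega)
    obtain ⟨⟨⟨u, huQ⟩, hu⟩, huo⟩ := exists_prime_orderOf_dvd_card' 2 h2
    rw [Subgroup.orderOf_mk, Subgroup.orderOf_mk] at huo
    have hle : (Q : Subgroup G) ≤ centralizer ({u} : Set G) := fun w hw => by
      rw [mem_centralizer_singleton_iff]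
      exact congrArg Subtype.val (Subgroup.mem_center_iff.mp hu ⟨w, hw⟩)
    have h64 := Subgroup.card_dvd_of_le hle
    rw [hQ] at h64
    obtain ⟨W, hW, hsearch⟩ := hval u huo
    obtain ⟨hmem, h7, -⟩ := index_data hC huo h hx hS
    obtain ⟨k, hk⟩ := pairs_dvd hx hC (by rw [← sq, ← huo, pow_orderOf_eq_one]) h7
    rw [hW] at hk
    set C := Nat.card (centralizer ({u} : Set G)) with hCdef
    have hWC : (C : ℤ) * C ∣ W := by
      have h1 : (7 * W : ℤ) = ((7 * (C * C) * k : ℕ) : ℤ) := by exact_mod_cast hk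
      push_cast at h1
      exact ⟨k, by linarith⟩
    have := searchB l hB C hmem h64
    rw [hsearch _ (by simpa using hWC)] at this
    exact Bool.noConfusion this

end Cfsg.Agent.Lib.SpecG2Two
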