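import Cfsg.Agent.Lib.SpecG2Two.Sylow

/-!
A Sylow 3-subgroup is regular on the other 27; the stabilizer of two of them has order eight and each
of its involutions centralises exactly three elements of the Sylow subgroup.
-/

set_option autoImplicit false
set_option linter.unusedSectionVars false
set_option linter.style.haveILetI false

namespace Cfsg.Agent.Lib.SpecG2Two

open scoped ComplexConjugate
open Finset Subgroup Cfsg Cfsg.Agent.Lib
open Cfsg.Agent.Lib.DefectOne Cfsg.Agent.Lib.BrauerReynolds Cfsg.Agent.Lib.BrauerTuan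

universe u

variable {G : Type u} [Group G] [Fintype G] [IsSimpleGroup G] {x : G} {χ ψ θ₁ θ₂ : IrrCharacter G}

/-- The stabilizer of two Sylow 3-subgroups. -/
def pairStab (P Q : Sylow 3 G) : Subgroup G := MulAction.stabilizer G P ⊓ MulAction.stabilizer G Q

theorem Data.card_stab (D : Data x χ ψ θ₁ θ₂) (hS : Spec G) (h : Nat.card G = 6048) (P : Sylow 3 G) :
    Nat.card (MulAction.stabilizer G P) = 216 := by
  haveI : Fact (Nat.Prime 3) := ⟨Nat.prime_three⟩
  have h1 := (MulAction.stabilizer G P).card_mul_index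
  rw [MulAction.index_stabilizer_of_transitive G P, D.card_sylow hS h, h] at h1
  omega

theorem Data.card_pairStab (D : Data x χ ψ θ₁ θ₂) (hS : Spec G) (h : Nat.card G = 6048) {P Q : Sylow 3 G}
    (hQ : Q ≠ P) : Nat.card (pairStab P Q) = 8 := by
  classical
  haveI : Fact (Nat.Prime 3) := ⟨Nat.prime_three⟩
  obtain ⟨h2, -⟩ := D.transitive hS h
  rw [MulAction.is_two_pretransitive_iff] at h2
  set H := MulAction.stabilizer G P
  haveI : Fintype H := Fintype.ofFinite _
  have horb : MulAction.orbit H Q = {R | R ≠ P} := by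
    ext R
    constructor
    · rintro ⟨⟨g, hg⟩, rfl⟩ hcon
      have h3 : g • Q = g • P := by
        rw [MulAction.mem_stabilizer_iff.mp hg]
        exact hcon
      exact hQ (MulAction.injective g h3)
    · intro hR
      obtain ⟨g, hg1, hg2⟩ := h2 (Ne.symm hQ) (Ne.symm hR)
      exact ⟨⟨g, MulAction.mem_stabilizer_iff.mpr hg1⟩, hg2⟩
  have h4 := MulAction.card_orbit_mul_card_stabilizer_eq_card_group H Q
  rw [← Nat.card_eq_fintype_card, ← Nat.card_eq_fintype_card, ← Nat.card_eq_fintype_card] at h4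
  have h5 : Nat.card (MulAction.orbit H Q) = 27 := by
    rw [horb]
    show Nat.card {R : Sylow 3 G // R ≠ P} = 27
    have h1 : Nat.card {R : Sylow 3 G // R ≠ P} + 1 = Nat.card (Sylow 3 G) := by
      rw [← Finite.card_option, Nat.card_congr (Equiv.optionSubtypeNe P)]
    rw [D.card_sylow hS h] at h1
    omega
  rw [h5, D.card_stab hS h P] at h4
  have h6 : Nat.card (MulAction.stabilizer H Q) = Nat.card (pairStab P Q) := Nat.card_congr
    { toFun := fun g => ⟨g.1.1, g.1.2, MulAction.mem_stabilizer_iff.mpr (MulAction.mem_stabilizer_iff.mp g.2)⟩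
      invFun := fun g => ⟨⟨g.1, g.2.1⟩, MulAction.mem_stabilizer_iff.mpr (MulAction.mem_stabilizer_iff.mp g.2.2)⟩
      left_inv := fun g => rfl
      right_inv := fun g => rfl }
  omega

/-- The Sylow subgroup is regular on the others. -/
theorem Data.regular (D : Data x χ ψ θ₁ θ₂) (hS : Spec G) (h : Nat.card G = 6048) {P Q : Sylow 3 G}
    (hQ : Q ≠ P) : Function.Bijective (fun a : (P : Subgroup G) =>
      (⟨(a : G) • Q, fun hcon => hQ (MulAction.injective (a : G) (hcon.trans
        (Sylow.smul_eq_iff_mem_normalizer.mpr (le_normalizer a.2)).symm))⟩ : {R : Sylow 3 G // R ≠ P})) := by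
  classical
  haveI : Fact (Nat.Prime 3) := ⟨Nat.prime_three⟩
  refine (Nat.bijective_iff_injective_and_card _).mpr ⟨fun a b hab => ?_, ?_⟩
  · have h1 : (a : G) • Q = (b : G) • Q := congrArg Subtype.val hab
    have h2 : ((b⁻¹ * a : (P : Subgroup G)) : G) ∈ pairStab P Q := by
      refine ⟨MulAction.mem_stabilizer_iff.mpr (Sylow.smul_eq_iff_mem_normalizer.mpr
        (le_normalizer (b⁻¹ * a).2)), MulAction.mem_stabilizer_iff.mpr ?_⟩
      rw [Subgroup.coe_mul, Subgroup.coe_inv, mul_smul, h1, inv_smul_smul]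
    have h3 := Subgroup.orderOf_dvd_natCard _ h2
    rw [D.card_pairStab hS h hQ] at h3
    by_contra hne
    have h4 : orderOf ((b⁻¹ * a : (P : Subgroup G)) : G) = 3 := by
      refine hS.orderOf_three P.2 (b⁻¹ * a).2 fun h5 => hne ?_
      exact (inv_mul_eq_one.mp (Subtype.ext h5 : b⁻¹ * a = 1)).symm
    rw [h4] at h3
    norm_num at h3
  · have h1 : Nat.card {R : Sylow 3 G // R ≠ P} + 1 = Nat.card (Sylow 3 G) := by
      rw [← Finite.card_option, Nat.card_congr (Equiv.optionSubtypeNe P)]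
    rw [D.card_sylow hS h] at h1
    rw [card_three h P]
    omega

theorem conj_mem_of_stab {P : Sylow 3 G} {g : G} (hg : g ∈ MulAction.stabilizer G P) {a : G}
    (ha : a ∈ (P : Subgroup G)) : g * a * g⁻¹ ∈ (P : Subgroup G) :=
  (Subgroup.mem_normalizer_iff.mp (Sylow.smul_eq_iff_mem_normalizer.mp (MulAction.mem_stabilizer_iff.mp hg)) a).mp ha

/-- An element of the pair stabilizer fixes the point of `a` exactly when it centralises `a`. -/
theorem Data.smul_point (D : Data x χ ψ θ₁ θ₂) (hS : Spec G) (h : Nat.card G = 6048) {P Q : Sylow 3 G}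
    (hQ : Q ≠ P) {k : G} (hk : k ∈ pairStab P Q) {a : G} (ha : a ∈ (P : Subgroup G)) :
    k • a • Q = a • Q ↔ k * a * k⁻¹ = a := by
  have h1 : k • a • Q = (k * a * k⁻¹) • Q := by
    calc k • a • Q = (k * a * k⁻¹) • k • Q := by rw [smul_smul, smul_smul, inv_mul_cancel_right]
      _ = (k * a * k⁻¹) • Q := by rw [MulAction.mem_stabilizer_iff.mp hk.2]
  rw [h1]
  refine ⟨fun h2 => ?_, fun h2 => by rw [h2]⟩
  have h3 := (D.regular hS h hQ).1 (a₁ := ⟨k * a * k⁻¹, conj_mem_of_stab hk.1 ha⟩) (a₂ := ⟨a, ha⟩)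
    (Subtype.ext h2)
  exact congrArg Subtype.val h3

/-- An element of the pair stabilizer centralising the Sylow subgroup is trivial. -/
theorem Data.eq_one_of_centralizes (D : Data x χ ψ θ₁ θ₂) (hS : Spec G) (h : Nat.card G = 6048)
    {P Q : Sylow 3 G} (hQ : Q ≠ P) {k : G} (hk : k ∈ pairStab P Q)
    (hc : ∀ a ∈ (P : Subgroup G), k * a * k⁻¹ = a) : k = 1 := by
  haveI : Fact (Nat.Prime 3) := ⟨Nat.prime_three⟩
  set φ := MulAction.toPermHom G (Sylow 3 G)
  have hker : k ∈ φ.ker := by
    refine MonoidHom.mem_ker.mpr (Equiv.ext fun R => ?_)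
    show k • R = R
    by_cases hR : R = P
    · rw [hR]; exact MulAction.mem_stabilizer_iff.mp hk.1
    · obtain ⟨a, ha⟩ := (D.regular hS h hQ).2 ⟨R, hR⟩
      rw [← show (a : G) • Q = R from congrArg Subtype.val ha]
      exact (D.smul_point hS h hQ hk a.2).mpr (hc a a.2)
  rcases (inferInstance : φ.ker.Normal).eq_bot_or_eq_top with h1 | h1
  · rw [h1] at hker; exact Subgroup.mem_bot.mp hker
  · exfalso
    obtain ⟨g, hg⟩ := MulAction.exists_smul_eq G P Q
    have h2 : φ g = 1 := MonoidHom.mem_ker.mp (h1 ▸ Subgroup.mem_top g)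
    refine hQ ?_
    rw [← hg]
    exact Equiv.ext_iff.mp h2 P

/-- An involution of the pair stabilizer centralises three elements. -/
theorem Data.card_fixed (D : Data x χ ψ θ₁ θ₂) (hS : Spec G) (h : Nat.card G = 6048) {P Q : Sylow 3 G}
    (hQ : Q ≠ P) {t : G} (ht : orderOf t = 2) (htK : t ∈ pairStab P Q) :
    Nat.card {a : (P : Subgroup G) // t * (a : G) * t⁻¹ = a} = 3 := by
  classical
  have h4 := (D.transitive hS h).2 t ht
  let e := Equiv.ofBijective _ (D.regular hS h hQ)
  have h5 : Nat.card (MulAction.fixedBy (Sylow 3 G) t) =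
      Nat.card {R : {R : Sylow 3 G // R ≠ P} // t • R.1 = R.1} + 1 := by
    have hP : P ∈ MulAction.fixedBy (Sylow 3 G) t := MulAction.mem_stabilizer_iff.mp htK.1
    rw [← Finite.card_option, ← Nat.card_congr (Equiv.optionSubtypeNe (⟨P, hP⟩ : MulAction.fixedBy (Sylow 3 G) t))]
    refine Nat.card_congr (Equiv.optionCongr ?_)
    exact { toFun := fun R => ⟨⟨R.1.1, fun he => R.2 (Subtype.ext he)⟩, R.1.2⟩
            invFun := fun R => ⟨⟨R.1.1, R.2⟩, fun he => R.1.2 (congrArg Subtype.val he)⟩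
            left_inv := fun R => rfl
            right_inv := fun R => rfl }
  have h6 : Nat.card {a : (P : Subgroup G) // t * (a : G) * t⁻¹ = a} =
      Nat.card {R : {R : Sylow 3 G // R ≠ P} // t • R.1 = R.1} :=
    Nat.card_congr (e.subtypeEquiv fun a => (D.smul_point hS h hQ htK a.2).symm)
  omega

end Cfsg.Agent.Lib.SpecG2Two
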