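import Cfsg.Agent.Lib.SpecG2Two.Block
import Cfsg.Agent.Lib.Chars.PermChar

/-!
Consequences for the characters of degree 6 and 27, and restrictions to subgroups: monotonicity of
fixed multiplicities, vanishing of the average, reciprocity with a transitive action.
-/

set_option autoImplicit false
set_option linter.unusedSectionVars false
set_option linter.style.haveILetI false

namespace Cfsg.Agent.Lib.SpecG2Two

open scoped ComplexConjugate
open Finset Subgroup Cfsg Cfsg.Agent.Lib
open Cfsg.Agent.Lib.DefectOne Cfsg.Agent.Lib.BrauerReynolds Cfsg.Agent.Lib.BrauerTuan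
open Cfsg.Agent.Lib.SmallGroups.PrimeChar (xp xp_one)

universe u

variable {G : Type u} [Group G] [Fintype G]

/-- What the block gives. -/
structure Data (x : G) (χ ψ θ₁ θ₂ : IrrCharacter G) : Prop where
  block : Seven x χ ψ θ₁ θ₂ 6 27 32 (-1)
  real : ∀ g : G, conj ((χ : G → ℂ) g) = (χ : G → ℂ) g
  inv : ∀ t : G, orderOf t = 2 → (χ : G → ℂ) t = -2 ∧ (ψ : G → ℂ) t = 3 ∧
    ¬ 9 ∣ Nat.card (centralizer ({t} : Set G))

theorem exists_data [IsSimpleGroup G] (hS : Spec G) (h : Nat.card G = 6048) :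
    ∃ x χ ψ θ₁ θ₂, Data (G := G) x χ ψ θ₁ θ₂ := by
  classical
  haveI : Fact (Nat.Prime 7) := ⟨by norm_num⟩
  obtain ⟨x, χ₁, χ₂, θ₁, θ₂, f₁, f₂, g, ε, B, hmem⟩ := exists_seven hS h
  simp only [List.mem_cons, List.not_mem_nil, or_false, Prod.mk.injEq] at hmem
  rcases hmem with ⟨rfl, rfl, rfl, rfl⟩ | ⟨rfl, rfl, rfl, rfl⟩ | ⟨rfl, rfl, rfl, rfl⟩
  · exact (B.false_of_three hS h).elim
  · refine ⟨x, χ₁, χ₂, θ₁, θ₂, B, ?_, ?_⟩
    · intro g
      have hdeg : degOf (Chars.irrConj χ₁) = 6 := by
        have h1 := apply_one_eq_degOf (Chars.irrConj χ₁)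
        rw [Chars.irrConj_apply, apply_one_eq_degOf, B.deg₁, Complex.conj_natCast] at h1
        exact_mod_cast h1.symm
      have hd : ∀ {χ : IrrCharacter G} {f : ℕ}, degOf χ = f → f ≠ 6 → Chars.irrConj χ₁ ≠ χ :=
        fun hf hne he => hne (by rw [← hf, ← he, hdeg])
      have he : Chars.irrConj χ₁ = χ₁ := by
        by_contra hcon
        have h0 := B.rest _ (hd degOf_trivial (by norm_num)) hcon (hd B.deg₂ (by norm_num))
          (hd B.deg₃ (by norm_num)) (hd B.deg₄ (by norm_num)) 1 one_ne_zero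
        rw [xp_one, Chars.irrConj_apply, B.val₁, map_intCast] at h0
        have : sgn 6 = 0 := by exact_mod_cast h0
        simp [sgn] at this
      rw [← Chars.irrConj_apply, he]
    · intro t ht
      obtain ⟨hC, i, j, hi, hj, e1, e2, hc⟩ := B.exists_cond hS h (Or.inr rfl) ht
      obtain ⟨rfl, rfl, h9, -⟩ := table_six _ hC i (List.mem_range.mpr hi) j (List.mem_range.mpr hj) hc
      exact ⟨by rw [e1]; norm_num, by rw [e2]; norm_num, h9⟩
  · obtain ⟨P⟩ := (inferInstance : Nonempty (Sylow 2 G))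
    obtain ⟨t, ht⟩ := exists_prime_orderOf_dvd_card (G := G) 2 (by rw [← Nat.card_eq_fintype_card, h]; norm_num)
    obtain ⟨hC, i, j, hi, hj, -, -, hc⟩ := B.exists_cond hS h (Or.inr rfl) ht
    have h8 := table_eight _ hC i (List.mem_range.mpr hi) j (List.mem_range.mpr hj)
    exact absurd (hc.symm.trans h8) (by simp)

section Average

variable (χ : IrrCharacter G)

/-- The fixed multiplicity of a subgroup is at most that of a smaller one. -/
theorem fixed_mult_mono {D E : Subgroup G} [Fintype D] [Fintype E] (hDE : D ≤ E) {a b : ℕ}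
    (ha : ∑ h : D, (χ : G → ℂ) h = (Nat.card D : ℂ) * a)
    (hb : ∑ h : E, (χ : G → ℂ) h = (Nat.card E : ℂ) * b) : b ≤ a := by
  classical
  obtain ⟨n, ρ, -, hρ⟩ := Chars.irr_exists_rep χ
  haveI : Invertible (Nat.card D : ℂ) := invertibleOfNonzero (Nat.cast_ne_zero.mpr Nat.card_pos.ne')
  haveI : Invertible (Nat.card E : ℂ) := invertibleOfNonzero (Nat.cast_ne_zero.mpr Nat.card_pos.ne')
  let σ : Representation ℂ D (Fin n → ℂ) := ρ.comp D.subtype
  let τ : Representation ℂ E (Fin n → ℂ) := ρ.comp E.subtype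
  have hle : τ.invariants ≤ σ.invariants := fun v hv d => hv ⟨d, hDE d.2⟩
  have h1 := Representation.card_inv_mul_sum_char_eq_finrank σ
  have h2 := Representation.card_inv_mul_sum_char_eq_finrank τ
  have e1 : ∑ d : D, σ.character d = ∑ d : D, (χ : G → ℂ) d := sum_congr rfl fun d _ => by rw [← hρ]; rfl
  have e2 : ∑ d : E, τ.character d = ∑ d : E, (χ : G → ℂ) d := sum_congr rfl fun d _ => by rw [← hρ]; rfl
  rw [e1, ha, ← mul_assoc, inv_mul_cancel₀ (Nat.cast_ne_zero.mpr Nat.card_pos.ne'), one_mul] at h1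
  rw [e2, hb, ← mul_assoc, inv_mul_cancel₀ (Nat.cast_ne_zero.mpr Nat.card_pos.ne'), one_mul] at h2
  have k1' : a = Module.finrank ℂ σ.invariants := by exact_mod_cast h1
  have k2' : b = Module.finrank ℂ τ.invariants := by exact_mod_cast h2
  rw [k1', k2']
  exact Submodule.finrank_mono hle

/-- Without fixed vectors the sum over every translate of the subgroup vanishes. -/
theorem sum_mul_eq_zero {D : Subgroup G} [Fintype D] (h0 : ∑ h : D, (χ : G → ℂ) h = 0) (t : G) :
    ∑ h : D, (χ : G → ℂ) ((h : G) * t) = 0 := by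
  classical
  obtain ⟨n, ρ, -, hρ⟩ := Chars.irr_exists_rep χ
  haveI : Invertible (Nat.card D : ℂ) := invertibleOfNonzero (Nat.cast_ne_zero.mpr Nat.card_pos.ne')
  let σ : Representation ℂ D (Fin n → ℂ) := ρ.comp D.subtype
  have h1 := Representation.card_inv_mul_sum_char_eq_finrank σ
  rw [sum_congr rfl (g := fun d : D => (χ : G → ℂ) d) fun d _ => by rw [← hρ]; rfl, h0, mul_zero] at h1
  have hbot : σ.invariants = ⊥ := Submodule.finrank_eq_zero.mp (by exact_mod_cast h1.symm)
  have hzero : ∑ d : D, ρ (d : G) = 0 := by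
    refine LinearMap.ext fun v => ?_
    have hv : (∑ d : D, σ d) v ∈ σ.invariants := fun e => by
      simp only [LinearMap.coe_sum, Finset.sum_apply, map_sum]
      exact Fintype.sum_equiv (Equiv.mulLeft e) _ _ fun d => by
        show σ e (σ d v) = σ (e * d) v
        rw [map_mul]; rfl
    rw [hbot, Submodule.mem_bot] at hv
    exact hv
  rw [← hρ]
  show ∑ h : D, LinearMap.trace ℂ _ (ρ ((h : G) * t)) = 0
  simp only [map_mul]
  rw [← map_sum, ← Finset.sum_mul, hzero, zero_mul, map_zero]

/-- Reciprocity for a transitive action. -/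
theorem classInner_permChar {X : Type*} [MulAction G X] [Finite X] [MulAction.IsPretransitive G X]
    (a : X) [Fintype (MulAction.stabilizer G a)] {m : ℕ}
    (hm : ∑ h : MulAction.stabilizer G a, (χ : G → ℂ) h = (Nat.card (MulAction.stabilizer G a) : ℂ) * m) :
    classInner (Chars.permChar (G := G) X) (χ : G → ℂ) = (m : ℂ) := by
  classical
  haveI := Fintype.ofFinite X
  have hfix : ∀ g : G, Chars.permChar (G := G) X g = ∑ y : X, if g • y = y then (1 : ℂ) else 0 := by
    intro g
    rw [Chars.permChar, Finset.sum_boole, Nat.card_eq_fintype_card, ← Fintype.card_subtype]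
    rfl
  have hconj : ∀ y : X, ∑ g : G, (if g • y = y then (1 : ℂ) else 0) * conj ((χ : G → ℂ) g) =
      conj (∑ h : MulAction.stabilizer G a, (χ : G → ℂ) h) := by
    intro y
    obtain ⟨c, rfl⟩ := MulAction.exists_smul_eq G a y
    rw [← Fintype.sum_equiv (MulAut.conj c).toEquiv
      (fun g => (if (c * g * c⁻¹) • c • a = c • a then (1 : ℂ) else 0) * conj ((χ : G → ℂ) (c * g * c⁻¹)))
      _ fun g => rfl, map_sum]
    simp only [ite_mul, one_mul, zero_mul]
    rw [← Finset.sum_filter]
    have hp : ∀ g : G, (c * g * c⁻¹) • c • a = c • a ↔ g ∈ MulAction.stabilizer G a := fun g => by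
      rw [smul_smul, inv_mul_cancel_right, mul_smul, smul_left_cancel_iff, MulAction.mem_stabilizer_iff]
    rw [Finset.sum_subtype (p := fun g => g ∈ MulAction.stabilizer G a) _ (fun g => by simp [hp])]
    exact sum_congr rfl fun g _ => by rw [Chars.irr_isClassFunction χ _ c]
  rw [classInner, sum_congr rfl (fun g _ => by rw [hfix, Finset.sum_mul]), Finset.sum_comm,
    sum_congr rfl fun y _ => hconj y, Finset.sum_const, Finset.card_univ, nsmul_eq_mul, hm, map_mul,
    Complex.conj_natCast, Complex.conj_natCast, ← mul_assoc, ← mul_assoc]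
  have hcard : (Fintype.card X : ℂ) * (Nat.card (MulAction.stabilizer G a) : ℂ) = (Nat.card G : ℂ) := by
    rw [← Nat.cast_mul, ← (MulAction.stabilizer G a).card_mul_index, mul_comm,
      MulAction.index_stabilizer_of_transitive, Nat.card_eq_fintype_card (α := X)]
  rw [mul_assoc (Nat.card G : ℂ)⁻¹, hcard, inv_mul_cancel₀ (Nat.cast_ne_zero.mpr Nat.card_pos.ne'), one_mul]

end Average

end Cfsg.Agent.Lib.SpecG2Two
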