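import Cfsg.Agent.Lib.SpecG2Two.Six
import Cfsg.Agent.Lib.Core.Nilpotent

/-!
The Sylow 3-subgroups: there are 28 of them and the group permutes them doubly transitively, every
involution fixing four.
-/

set_option autoImplicit false
set_option linter.unusedSectionVars false
set_option linter.style.haveILetI false

namespace Cfsg.Agent.Lib.SpecG2Two

open scoped ComplexConjugate Pointwise
open Finset Subgroup Cfsg Cfsg.Agent.Lib
open Cfsg.Agent.Lib.DefectOne Cfsg.Agent.Lib.BrauerReynolds Cfsg.Agent.Lib.BrauerTuan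
open Cfsg.Agent.Lib.SmallGroups.PrimeChar (xp xp_one)

universe u

variable {G : Type u} [Group G] [Fintype G] [IsSimpleGroup G] {x : G} {χ ψ θ₁ θ₂ : IrrCharacter G}

theorem card_three (h : Nat.card G = 6048) (P : Sylow 3 G) : Nat.card (P : Subgroup G) = 27 := by
  haveI : Fact (Nat.Prime 3) := ⟨Nat.prime_three⟩
  rw [Sylow.card_eq_multiplicity, h, show (6048 : ℕ) = 3 ^ 3 * 224 by norm_num,
    Nat.factorization_mul (by norm_num) (by norm_num), Nat.prime_three.factorization_pow]
  simp [Nat.factorization_eq_zero_of_not_dvd (n := 224) (p := 3) (by norm_num)]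

/-- The values of the character of degree six at elements of order three. -/
theorem Data.value (D : Data x χ ψ θ₁ θ₂) {z : G} (hz : orderOf z = 3) :
    ∃ c : ℤ, (c = 3 ∨ c = 0 ∨ c = -3) ∧ (χ : G → ℂ) z = (c : ℂ) := by
  obtain ⟨m, hm, hv⟩ := value_three χ hz (D.real z)
  rw [D.block.deg₁] at hm hv
  have hm0 : m ≠ 0 := by
    rintro rfl
    have h1 : z = 1 := faithful_of_ne_trivial D.block.ne₁ (by
      rw [hv, apply_one_eq_degOf, D.block.deg₁]; norm_num)
    rw [h1, orderOf_one] at hz
    norm_num at hz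
  exact ⟨_, by omega, hv⟩

/-- The integer values. -/
theorem Data.exists_value_fun (D : Data x χ ψ θ₁ θ₂) (hS : Spec G) (E : Subgroup G) (hE : IsPGroup 3 E) :
    ∃ c : E → ℤ, ∀ z : E, (χ : G → ℂ) z = (c z : ℂ) ∧ ((z = 1 ∧ c z = 6) ∨ (z ≠ 1 ∧ (c z = 3 ∨ c z = 0 ∨ c z = -3))) := by
  classical
  choose c hc using fun z : E => show ∃ a : ℤ, (χ : G → ℂ) z = (a : ℂ) ∧
      ((z = 1 ∧ a = 6) ∨ (z ≠ 1 ∧ (a = 3 ∨ a = 0 ∨ a = -3))) by
    by_cases hz : z = 1
    · exact ⟨6, by rw [hz, OneMemClass.coe_one, apply_one_eq_degOf, D.block.deg₁]; norm_num, Or.inl ⟨hz, rfl⟩⟩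
    · obtain ⟨a, ha, hv⟩ := D.value (hS.orderOf_three hE z.2 fun e => hz (Subtype.ext e))
      exact ⟨a, hv, Or.inr ⟨hz, ha⟩⟩
  exact ⟨c, hc⟩

/-- A Sylow 3-subgroup has no fixed vector in degree six. -/
theorem Data.sum_three (D : Data x χ ψ θ₁ θ₂) (hS : Spec G) (h : Nat.card G = 6048) (P : Sylow 3 G)
    [Fintype (P : Subgroup G)] : ∑ z : (P : Subgroup G), (χ : G → ℂ) z = 0 := by
  classical
  haveI : Fact (Nat.Prime 3) := ⟨Nat.prime_three⟩
  have hP := card_three h P
  obtain ⟨m, hm⟩ := exists_fixed_mult χ (P : Subgroup G)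
  by_contra hne
  have hm0 : 1 ≤ m := by
    by_contra hlt
    exact hne (by rw [hm, show m = 0 by omega, Nat.cast_zero, mul_zero])
  obtain ⟨c, hc⟩ := D.exists_value_fun hS (P : Subgroup G) P.2
  have hnn : ∀ z : (P : Subgroup G), z ≠ 1 → c z = 3 ∨ c z = 0 := by
    intro z hz
    rcases (hc z).2 with ⟨e, -⟩ | ⟨-, h3 | h0 | h3n⟩
    · exact absurd e hz
    · exact Or.inl h3
    · exact Or.inr h0
    exfalso
    have hzo : orderOf (z : G) = 3 := hS.orderOf_three P.2 z.2 fun e => hz (Subtype.ext e)
    haveI : Fintype (zpowers (z : G)) := Fintype.ofFinite _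
    obtain ⟨a, ha⟩ := exists_fixed_mult χ (zpowers (z : G))
    have hle : m ≤ a := fixed_mult_mono χ ((zpowers_le (H := (P : Subgroup G))).mpr z.2) ha hm
    have hcard : Nat.card (zpowers (z : G)) = 3 := by rw [Nat.card_zpowers, hzo]
    have hsum : ∑ w : zpowers (z : G), (χ : G → ℂ) w = 0 := by
      have hset : (univ : Finset (zpowers (z : G))) =
          {1, ⟨(z : G), mem_zpowers _⟩, ⟨(z : G)⁻¹, inv_mem (mem_zpowers _)⟩} := by
        refine (Finset.eq_univ_of_card _ ?_).symm
        rw [← Nat.card_eq_fintype_card, hcard]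
        refine Finset.card_eq_three.mpr ⟨_, _, _, ?_, ?_, ?_, rfl⟩
        · exact fun e => hz (Subtype.ext (congrArg Subtype.val e).symm)
        · intro e
          have h1 : (1 : G) = (z : G)⁻¹ := congrArg Subtype.val e
          exact hz (Subtype.ext (inv_eq_one.mp h1.symm))
        · intro e
          have h1 : (z : G) = (z : G)⁻¹ := congrArg Subtype.val e
          have h2 : (z : G) ^ 2 = 1 := by rw [sq]; nth_rewrite 2 [h1]; exact mul_inv_cancel _
          have := Nat.le_of_dvd two_pos (orderOf_dvd_of_pow_eq_one h2)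
          omega
      rw [hset, sum_insert, sum_pair]
      · have hv : (χ : G → ℂ) (z : G) = -3 := by rw [(hc z).1, h3n]; norm_num
        simp only [OneMemClass.coe_one, apply_one_eq_degOf, D.block.deg₁, apply_inv, hv]
        simp only [map_neg, map_ofNat]; norm_num
      · intro e
        have h1 : (z : G) = (z : G)⁻¹ := congrArg Subtype.val e
        have h2 : (z : G) ^ 2 = 1 := by rw [sq]; nth_rewrite 2 [h1]; exact mul_inv_cancel _
        have := Nat.le_of_dvd two_pos (orderOf_dvd_of_pow_eq_one h2)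
        omega
      · simp only [mem_insert, mem_singleton, not_or]
        refine ⟨fun e => hz (Subtype.ext (congrArg Subtype.val e).symm), fun e => ?_⟩
        have h1 : (1 : G) = (z : G)⁻¹ := congrArg Subtype.val e
        exact hz (Subtype.ext (inv_eq_one.mp h1.symm))
    rw [hsum, hcard] at ha
    have : (3 * a : ℕ) = 0 := by exact_mod_cast ha.symm
    omega
  -- the norm of the restriction is not an integer
  obtain ⟨k, hk⟩ := Chars.isCharacter_classInner_nat
    (Chars.isCharacter_comp (P : Subgroup G).subtype (Chars.irr_isCharacter χ))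
    (Chars.isCharacter_comp (P : Subgroup G).subtype (Chars.irr_isCharacter χ))
  rw [classInner, hP] at hk
  simp only [Subgroup.coe_subtype, D.real] at hk
  have hsq : ∀ z : (P : Subgroup G), c z * c z = 3 * c z + if z = 1 then 18 else 0 := by
    intro z
    by_cases hz : z = 1
    · subst hz
      rcases (hc 1).2 with ⟨-, e⟩ | ⟨e, -⟩
      · rw [if_pos rfl, e]; norm_num
      · exact absurd rfl e
    · rw [if_neg hz]
      rcases hnn z hz with e | e <;> rw [e] <;> norm_num
  have h1 : ((∑ z : (P : Subgroup G), c z * c z : ℤ) : ℂ) = ((27 * (k : ℤ) : ℤ) : ℂ) := by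
    push_cast
    rw [← hk]
    push_cast
    rw [← mul_assoc, mul_inv_cancel₀ (by norm_num : (27 : ℂ) ≠ 0), one_mul]
    exact sum_congr rfl fun z _ => by rw [(hc z).1]
  have h2 : ((∑ z : (P : Subgroup G), c z : ℤ) : ℂ) = ((27 * (m : ℤ) : ℤ) : ℂ) := by
    push_cast
    rw [← sum_congr rfl fun z _ => (hc z).1, hm, hP]
    norm_num
  have h1' : _ = _ := Int.cast_injective h1
  have h2' : _ = _ := Int.cast_injective h2
  rw [sum_congr rfl fun z _ => hsq z, sum_add_distrib, ← mul_sum, h2', sum_ite_eq' univ (1 : (P : Subgroup G)),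
    if_pos (mem_univ _)] at h1'
  omega

/-- An element of order seven commutes with no element of order three. -/
theorem not_commute_seven_three (hS : Spec G) {y z : G} (hy : orderOf y = 7) (hz : orderOf z = 3)
    (hc : Commute y z) : False := by
  refine hS.no21 (y * z) ?_
  rw [hc.orderOf_mul_eq_mul_orderOf_of_coprime (by rw [hy, hz]; norm_num), hy, hz]

/-- The subgroup centralising an intersection of order nine is that intersection. -/
theorem Data.centralizer_nine (D : Data x χ ψ θ₁ θ₂) (hS : Spec G) (h : Nat.card G = 6048) {E : Subgroup G}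
    (hE : Nat.card E = 9) : IsPGroup 3 (centralizer (E : Set G)) := by
  haveI : Fact (Nat.Prime 3) := ⟨Nat.prime_three⟩
  have hE3 : IsPGroup 3 E := IsPGroup.of_card (n := 2) (by rw [hE]; norm_num)
  have key : ∀ q : ℕ, q.Prime → q ∣ Nat.card (centralizer (E : Set G)) → q = 3 := by
    intro q hq hd
    haveI : Fact q.Prime := ⟨hq⟩
    obtain ⟨⟨y, hy⟩, hyo⟩ := exists_prime_orderOf_dvd_card' q hd
    rw [Subgroup.orderOf_mk] at hyo
    have hG : q ∣ 12096 := (hd.trans (Subgroup.card_subgroup_dvd_card _)).trans (by rw [h]; norm_num)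
    rcases prime_of_dvd hq hG with rfl | rfl | rfl
    · exfalso
      refine (D.inv y hyo).2.2 ?_
      rw [← hE]
      refine Subgroup.card_dvd_of_le fun e he => ?_
      exact mem_centralizer_singleton_iff.mpr (mem_centralizer_iff.mp hy e he)
    · rfl
    · exfalso
      obtain ⟨e, he, he1⟩ : ∃ e ∈ E, e ≠ 1 := by
        refine (Subgroup.ne_bot_iff_exists_ne_one.mp fun hb => ?_).elim fun a ha =>
          ⟨a.1, a.2, fun he => ha (Subtype.ext he)⟩
        rw [hb, Subgroup.card_bot] at hE
        norm_num at hE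
      exact not_commute_seven_three hS hyo (hS.orderOf_three hE3 he he1)
        (mem_centralizer_iff.mp hy e he).symm
  refine IsPGroup.of_card (n := (Nat.card (centralizer (E : Set G))).primeFactorsList.length) ?_
  exact Nat.eq_prime_pow_of_unique_prime_dvd Nat.card_pos.ne' fun hq hd => key _ hq hd

/-- The exponent on an element of a group of order three. -/
theorem mem_cases {l u : G} (hl : l ^ 3 = 1) (hu : u ∈ zpowers l) : u = 1 ∨ u = l ∨ u = l * l := by
  obtain ⟨k, rfl⟩ := hu
  show l ^ k = 1 ∨ l ^ k = l ∨ l ^ k = l * l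
  have hk : l ^ k = l ^ (k % 3) := by
    conv_lhs => rw [← Int.emod_add_mul_ediv k 3, zpow_add, zpow_mul, show ((3 : ℤ)) = ((3 : ℕ) : ℤ) from rfl,
      zpow_natCast, hl, one_zpow, mul_one]
    rfl
  rw [hk]
  rcases (show k % 3 = 0 ∨ k % 3 = 1 ∨ k % 3 = 2 by omega) with e | e | e <;> rw [e]
  · exact Or.inl (zpow_zero l)
  · exact Or.inr (Or.inl (zpow_one l))
  · exact Or.inr (Or.inr (by rw [zpow_two]))

/-- Two Sylow 3-subgroups do not meet in a subgroup of order nine. -/
theorem Data.card_inter_ne_nine (D : Data x χ ψ θ₁ θ₂) (hS : Spec G) (h : Nat.card G = 6048)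
    {P Q : Sylow 3 G} (_hPQ : P ≠ Q) : Nat.card ((P : Subgroup G) ⊓ Q : Subgroup G) ≠ 9 := by
  classical
  haveI : Fact (Nat.Prime 3) := ⟨Nat.prime_three⟩
  intro hE
  set E : Subgroup G := (P : Subgroup G) ⊓ Q with hEdef
  haveI : Fintype E := Fintype.ofFinite _
  have hE3 : IsPGroup 3 E := P.2.to_le inf_le_left
  haveI hcomm : IsMulCommutative E :=
    IsPGroup.isMulCommutative_of_card_eq_prime_sq (p := 3) (by rw [hE]; norm_num)
  set C := centralizer (E : Set G) with hCdef
  have hC3 := D.centralizer_nine hS h hE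
  have hEC : E ≤ C := fun a ha => mem_centralizer_iff.mpr fun b hb =>
    congrArg Subtype.val (IsMulCommutative.is_comm.comm (⟨b, hb⟩ : E) ⟨a, ha⟩)
  -- both normalise the intersection
  have hnorm : ∀ R : Sylow 3 G, E ≤ R → (R : Subgroup G) ≤ normalizer (E : Set G) := by
    intro R hle
    have hidx : (E.subgroupOf (R : Subgroup G)).index = 3 := by
      have h1 := (E.subgroupOf (R : Subgroup G)).card_mul_index
      rw [Nat.card_congr (subgroupOfEquivOfLe hle).toEquiv, hE, card_three h R] at h1
      omega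
    have hn : (E.subgroupOf (R : Subgroup G)).Normal :=
      Subgroup.normal_of_index_eq_minFac_card (by rw [hidx, card_three h R]; norm_num)
    exact (Subgroup.normal_subgroupOf_iff_le_normalizer hle).mp hn
  have hPn := hnorm P inf_le_left
  have hQn := hnorm Q inf_le_right
  -- the centralizer is the intersection
  have hsucc : ∀ R : Sylow 3 G, E ≤ R → (R : Subgroup G) ≤ normalizer (C : Set G) := fun R hle => by
    refine le_trans (hnorm R hle) ?_
    intro g hg
    rw [Subgroup.mem_normalizer_iff] at hg ⊢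
    intro c
    constructor
    · intro hc
      rw [hCdef, mem_centralizer_iff] at hc ⊢
      intro e he
      have h1 := hc _ ((hg (g⁻¹ * e * g)).mpr (by simpa [mul_assoc] using he))
      calc e * (g * c * g⁻¹) = g * ((g⁻¹ * e * g) * c) * g⁻¹ := by group
        _ = g * (c * (g⁻¹ * e * g)) * g⁻¹ := by rw [h1]
        _ = g * c * g⁻¹ * e := by group
    · intro hc
      rw [hCdef, mem_centralizer_iff] at hc ⊢
      intro e he
      have h1 := hc _ ((hg e).mp he)
      calc e * c = g⁻¹ * ((g * e * g⁻¹) * (g * c * g⁻¹)) * g := by group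
        _ = g⁻¹ * ((g * c * g⁻¹) * (g * e * g⁻¹)) * g := by rw [h1]
        _ = c * e := by group
  have hCE : C = E := by
    refine le_antisymm ?_ hEC
    have hle : ∀ R : Sylow 3 G, E ≤ R → C ≤ (R : Subgroup G) := fun R hle => by
      have h1 : IsPGroup 3 ((R : Subgroup G) ⊔ C : Subgroup G) :=
        R.2.to_sup_of_normal_right' hC3 (hsucc R hle)
      have h2 := R.3 h1 le_sup_left
      exact le_trans le_sup_right h2.le
    exact le_inf (hle P inf_le_left) (hle Q inf_le_right)
  -- a central element and the automorphism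
  have key : ∀ R : Sylow 3 G, E ≤ R → ∀ y ∈ (R : Subgroup G), y ∉ E →
      ∃ l ∈ E, l ≠ 1 ∧ y * l * y⁻¹ = l ∧ ∀ d ∈ E, d ∉ zpowers l →
        y * d * y⁻¹ = d * l ∨ y * d * y⁻¹ = d * (l * l) := by
    intro R hle y hy hyE
    haveI : ((E.subgroupOf (R : Subgroup G))).Normal :=
      (Subgroup.normal_subgroupOf_iff_le_normalizer hle).mpr (hnorm R hle)
    have hyn := hnorm R hle hy
    let f : E → E := fun d => ⟨y * d * y⁻¹, (Subgroup.mem_normalizer_iff.mp hyn d).mp d.2⟩
    have hy3 : y ^ 3 = 1 := by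
      rw [← hS.orderOf_three R.2 hy (fun e => hyE (e ▸ one_mem E))]
      exact pow_orderOf_eq_one y
    -- fixed points of y on E
    have hfix : ∀ d ∈ E, ∀ u, y * d * y⁻¹ = d * u → y * u * y⁻¹ = u → u ^ 3 = 1 := by
      intro d hd u h1 h2
      have huE : u ∈ E := by
        have h3 : d⁻¹ * (y * d * y⁻¹) = u := by rw [h1, inv_mul_cancel_left]
        exact h3 ▸ mul_mem (inv_mem hd) ((Subgroup.mem_normalizer_iff.mp hyn d).mp hd)
      by_cases hu1 : u = 1
      · rw [hu1, one_pow]
      · rw [← hS.orderOf_three hE3 huE hu1]; exact pow_orderOf_eq_one u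
    obtain ⟨z, hz, hzE⟩ : ∃ z : (R : Subgroup G), z ∈ Subgroup.center (R : Subgroup G) ⊓ E.subgroupOf (R : Subgroup G) ∧ z ≠ 1 := by
      haveI : Nontrivial (E.subgroupOf (R : Subgroup G)) := by
        rw [← Finite.one_lt_card_iff_nontrivial, Nat.card_congr (subgroupOfEquivOfLe hle).toEquiv, hE]
        norm_num
      haveI : Group.IsNilpotent (R : Subgroup G) := R.2.isNilpotent
      have hne : E.subgroupOf (R : Subgroup G) ≠ ⊥ := (Subgroup.nontrivial_iff_ne_bot _).mp ‹_›
      have hb := Cfsg.Agent.Lib.Nilp.inf_center_ne_bot_of_normal hne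
      obtain ⟨⟨a, ha⟩, ha1⟩ := Subgroup.ne_bot_iff_exists_ne_one.mp hb
      exact ⟨a, ⟨ha.2, ha.1⟩, fun e => ha1 (Subtype.ext e)⟩
    set l : G := (z : G) with hl
    have hlE : l ∈ E := hz.2
    have hl1 : l ≠ 1 := fun e => hzE (Subtype.ext e)
    have hl3 : l ^ 3 = 1 := by rw [← hS.orderOf_three hE3 hlE hl1]; exact pow_orderOf_eq_one l
    have hyl : y * l * y⁻¹ = l := by
      have := congrArg Subtype.val (Subgroup.mem_center_iff.mp hz.1 ⟨y, hy⟩)
      have h4 : y * l = l * y := this
      rw [h4, mul_inv_cancel_right]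
    have hlo : orderOf l = 3 := hS.orderOf_three hE3 hlE hl1
    refine ⟨l, hlE, hl1, hyl, fun d hd hdl => ?_⟩
    set L := zpowers l with hL
    have hLE : L ≤ E := zpowers_le.mpr hlE
    -- every element of E is l^i d^j
    have hd1 : d ≠ 1 := fun e => hdl (e ▸ one_mem _)
    have hdo := hS.orderOf_three hE3 hd hd1
    have hspan : ∀ e ∈ E, e ∈ L ∨ e * d⁻¹ ∈ L ∨ e * d ∈ L := by
      intro e he
      have hsup : L ⊔ zpowers d = E := by
        refine Subgroup.eq_of_le_of_card_ge (sup_le hLE (zpowers_le.mpr hd)) ?_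
        have h1 : Nat.card (L ⊔ zpowers d : Subgroup G) ∣ 3 ^ 2 := by
          refine dvd_trans (Subgroup.card_dvd_of_le (sup_le hLE (zpowers_le.mpr hd))) ?_
          rw [hE]; norm_num
        obtain ⟨j, hj, hj'⟩ := (Nat.dvd_prime_pow Nat.prime_three).mp h1
        rw [hE]
        interval_cases j
        · exfalso
          have := Subgroup.card_dvd_of_le (le_sup_left : L ≤ L ⊔ zpowers d)
          rw [hj', hL, Nat.card_zpowers, hlo] at this
          norm_num at this
        · exfalso
          have heq : L = L ⊔ zpowers d := Subgroup.eq_of_le_of_card_ge le_sup_left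
            (by rw [hj', hL, Nat.card_zpowers, hlo, pow_one])
          exact hdl (heq.ge (mem_sup_right (mem_zpowers d)))
        · rw [hj']; norm_num
      have hcen : zpowers d ≤ normalizer (L : Set G) := by
        refine le_trans ?_ (Subgroup.centralizer_le_normalizer _)
        rw [zpowers_le, mem_centralizer_iff]
        exact fun a ha => congrArg Subtype.val (IsMulCommutative.is_comm.comm (⟨a, hLE ha⟩ : E) ⟨d, hd⟩)
      rw [← hsup] at he
      have he' : e ∈ ((L : Set G) * (zpowers d : Set G)) := by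
        rw [← Subgroup.coe_mul_of_right_le_normalizer_left L _ hcen]
        exact he
      obtain ⟨a, ha, b, hb, rfl⟩ := Set.mem_mul.mp he'
      rcases mem_cases (by rw [← hdo]; exact pow_orderOf_eq_one d) hb with rfl | rfl | rfl
      · exact Or.inl (by rwa [mul_one])
      · exact Or.inr (Or.inl (by rwa [mul_inv_cancel_right]))
      · refine Or.inr (Or.inr ?_)
        have h3 : d * d * d = 1 := by rw [← pow_three', ← hdo]; exact pow_orderOf_eq_one d
        rw [mul_assoc a, h3, mul_one]; exact ha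
    have hfixL : ∀ a ∈ L, y * a * y⁻¹ = a := by
      rintro _ ⟨k, rfl⟩
      show y * l ^ k * y⁻¹ = l ^ k
      rw [← conj_zpow, hyl]
    have hd3 : d ^ 3 = 1 := by rw [← hdo]; exact pow_orderOf_eq_one d
    set e := y * d * y⁻¹ with he
    have heE : e ∈ E := (Subgroup.mem_normalizer_iff.mp hyn d).mp hd
    rcases hspan e heE with h1 | h1 | h1
    · exfalso
      have h2 := hfixL _ h1
      have : e = d := by
        have h4 : y⁻¹ * e * y = e := by
          calc y⁻¹ * e * y = y⁻¹ * (y * e * y⁻¹) * y := by rw [h2]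
            _ = e := by group
        rw [← h4, he]; group
      exact hdl (this ▸ h1)
    · rcases mem_cases hl3 h1 with h2 | h2 | h2
      · exfalso
        have hed : e = d := mul_inv_eq_one.mp h2
        -- then y centralises E
        refine hyE (hCE ▸ (mem_centralizer_iff.mpr fun a ha => ?_ : y ∈ C))
        have hya : y * a * y⁻¹ = a := by
          rcases hspan a ha with h5 | h5 | h5
          · exact hfixL a h5
          · calc y * a * y⁻¹ = (y * (a * d⁻¹) * y⁻¹) * (y * d * y⁻¹) := by group
              _ = a := by rw [hfixL _ h5, ← he, hed, inv_mul_cancel_right]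
          · calc y * a * y⁻¹ = (y * (a * d) * y⁻¹) * (y * d * y⁻¹)⁻¹ := by group
              _ = a := by rw [hfixL _ h5, ← he, hed, mul_inv_cancel_right]
        exact (mul_inv_eq_iff_eq_mul.mp hya).symm
      · exact Or.inl (by
          have hc1 : d * l = l * d := congrArg Subtype.val (IsMulCommutative.is_comm.comm (⟨d, hd⟩ : E) ⟨l, hlE⟩)
          rw [hc1, ← h2, inv_mul_cancel_right])
      · exact Or.inr (by
          have hc1 : d * (l * l) = (l * l) * d := congrArg Subtype.val
            (IsMulCommutative.is_comm.comm (⟨d, hd⟩ : E) ⟨l * l, mul_mem hlE hlE⟩)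
          rw [hc1, ← h2, inv_mul_cancel_right])
    · exfalso
      -- e = u d⁻¹ with u fixed
      set a := e * d with ha
      have h2 := hfixL _ h1
      have hye : y * e * y⁻¹ = d := by
        have h4 : y * e * y⁻¹ * e = e * d := by
          calc y * e * y⁻¹ * e = y * e * y⁻¹ * (y * d * y⁻¹) := by rw [← he]
            _ = y * (e * d) * y⁻¹ := by group
            _ = e * d := h2
        have hc1 : e * d = d * e := congrArg Subtype.val (IsMulCommutative.is_comm.comm (⟨e, heE⟩ : E) ⟨d, hd⟩)
        exact mul_right_cancel (h4.trans hc1)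
      have h5 : e = d := by
        have h6 : y * (y * e * y⁻¹) * y⁻¹ = e := by rw [hye]
        have h7 : y ^ 3 * d * (y ^ 3)⁻¹ = d := by rw [hy3]; simp
        calc e = y * d * y⁻¹ := he
          _ = y * (y * (y * d * y⁻¹) * y⁻¹) * y⁻¹ := by rw [← he, hye]
          _ = y ^ 3 * d * (y ^ 3)⁻¹ := by rw [pow_three]; group
          _ = d := h7
      have h8 : d * d ∈ L := by rw [ha, h5] at h1; exact h1
      refine hdl ?_
      have h9 : d = (d * d) * (d * d) := by
        have : d * d * d = 1 := by rw [← pow_three']; exact hd3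
        rw [mul_assoc d d (d * d), ← mul_assoc d d d, this, mul_one]
      rw [h9]; exact mul_mem h8 h8
  -- choose elements outside
  have hout : ∀ R : Sylow 3 G, E ≤ R → ∃ y ∈ (R : Subgroup G), y ∉ E := by
    intro R hle
    by_contra hcon
    push Not at hcon
    have := Subgroup.card_le_of_le hcon
    rw [hE, card_three h R] at this
    omega
  obtain ⟨y, hy, hyE⟩ := hout P inf_le_left
  obtain ⟨w, hw, hwE⟩ := hout Q inf_le_right
  obtain ⟨l, hlE, hl1, hyl, hyd⟩ := key P inf_le_left y hy hyE
  obtain ⟨d, hdE, hd1, hwd, hwl⟩ := key Q inf_le_right w hw hwE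
  have hlo := hS.orderOf_three hE3 hlE hl1
  have hdo := hS.orderOf_three hE3 hdE hd1
  have hl3 : l ^ 3 = 1 := by rw [← hlo]; exact pow_orderOf_eq_one l
  have hd3 : d ^ 3 = 1 := by rw [← hdo]; exact pow_orderOf_eq_one d
  have hcm : ∀ a ∈ E, ∀ b ∈ E, a * b = b * a := fun a ha b hb =>
    congrArg Subtype.val (IsMulCommutative.is_comm.comm (⟨a, ha⟩ : E) ⟨b, hb⟩)
  by_cases hdl : d ∈ zpowers l
  · -- the same fixed line: a product centralises E
    have hLeq : zpowers d = zpowers l := Subgroup.eq_of_le_of_card_ge (zpowers_le.mpr hdl)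
      (by rw [Nat.card_zpowers, Nat.card_zpowers, hlo, hdo])
    obtain ⟨e, heE, hel⟩ : ∃ e ∈ E, e ∉ zpowers l := by
      by_contra hcon
      push Not at hcon
      have := Subgroup.card_le_of_le hcon
      rw [hE, Nat.card_zpowers, hlo] at this
      omega
    have hwl' : ∀ a ∈ zpowers l, w * a * w⁻¹ = a := by
      intro a ha
      rw [← hLeq] at ha
      obtain ⟨k, rfl⟩ := ha
      show w * d ^ k * w⁻¹ = d ^ k
      rw [← conj_zpow, hwd]
    have hyl' : ∀ a ∈ zpowers l, y * a * y⁻¹ = a := by
      rintro _ ⟨k, rfl⟩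
      show y * l ^ k * y⁻¹ = l ^ k
      rw [← conj_zpow, hyl]
    have hl4 : l * l * l = 1 := by rw [← pow_three']; exact hl3
    have hw' : w * e * w⁻¹ = e * l ∨ w * e * w⁻¹ = e * (l * l) := by
      rcases mem_cases hl3 hdl with rfl | rfl | rfl
      · exact absurd rfl hd1
      · exact hwl e heE hel
      · rcases hwl e heE (by rw [hLeq]; exact hel) with h1 | h1
        · exact Or.inr h1
        · left; rw [h1, show l * l * (l * l) = l * l * l * l by group, hl4, one_mul]
    -- some product of y and w fixes e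
    obtain ⟨v, hvQ, hv⟩ : ∃ v ∈ (Q : Subgroup G), (v * y) * e * (v * y)⁻¹ = e ∧ ∀ a ∈ zpowers l, v * a * v⁻¹ = a := by
      have hww : ∀ a ∈ zpowers l, (w * w) * a * (w * w)⁻¹ = a := fun a ha => by
        calc (w * w) * a * (w * w)⁻¹ = w * (w * a * w⁻¹) * w⁻¹ := by group
          _ = a := by rw [hwl' a ha, hwl' a ha]
      rcases hyd e heE hel with h1 | h1 <;> rcases hw' with h2 | h2
      · refine ⟨w * w, mul_mem hw hw, ?_, hww⟩
        calc w * w * y * e * (w * w * y)⁻¹ = w * (w * (y * e * y⁻¹) * w⁻¹) * w⁻¹ := by group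
          _ = w * ((w * e * w⁻¹) * (w * l * w⁻¹)) * w⁻¹ := by rw [h1]; group
          _ = w * (e * l * l) * w⁻¹ := by rw [h2, hwl' l (mem_zpowers l)]
          _ = (w * e * w⁻¹) * (w * l * w⁻¹) * (w * l * w⁻¹) := by group
          _ = e * (l * l * l) := by rw [h2, hwl' l (mem_zpowers l)]; group
          _ = e := by rw [hl4, mul_one]
      · refine ⟨w, hw, ?_, hwl'⟩
        calc w * y * e * (w * y)⁻¹ = w * (y * e * y⁻¹) * w⁻¹ := by group
          _ = (w * e * w⁻¹) * (w * l * w⁻¹) := by rw [h1]; group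
          _ = e * (l * l * l) := by rw [h2, hwl' l (mem_zpowers l)]; group
          _ = e := by rw [hl4, mul_one]
      · refine ⟨w, hw, ?_, hwl'⟩
        calc w * y * e * (w * y)⁻¹ = w * (y * e * y⁻¹) * w⁻¹ := by group
          _ = (w * e * w⁻¹) * (w * l * w⁻¹) * (w * l * w⁻¹) := by rw [h1]; group
          _ = e * (l * l * l) := by rw [h2, hwl' l (mem_zpowers l)]; group
          _ = e := by rw [hl4, mul_one]
      · refine ⟨w * w, mul_mem hw hw, ?_, hww⟩
        calc w * w * y * e * (w * w * y)⁻¹ = w * (w * (y * e * y⁻¹) * w⁻¹) * w⁻¹ := by group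
          _ = w * ((w * e * w⁻¹) * (w * l * w⁻¹) * (w * l * w⁻¹)) * w⁻¹ := by rw [h1]; group
          _ = w * (e * (l * l) * l * l) * w⁻¹ := by rw [h2, hwl' l (mem_zpowers l)]
          _ = w * (e * l * (l * l * l)) * w⁻¹ := by group
          _ = (w * e * w⁻¹) * (w * l * w⁻¹) := by rw [hl4, mul_one]; group
          _ = e * (l * l * l) := by rw [h2, hwl' l (mem_zpowers l)]; group
          _ = e := by rw [hl4, mul_one]
    obtain ⟨hv, hvl⟩ := hv
    have hgen : zpowers l ⊔ zpowers e = E := by
      refine Subgroup.eq_of_le_of_card_ge (sup_le (zpowers_le.mpr hlE) (zpowers_le.mpr heE)) ?_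
      have h1 : Nat.card (zpowers l ⊔ zpowers e : Subgroup G) ∣ 3 ^ 2 := by
        refine dvd_trans (Subgroup.card_dvd_of_le (sup_le (zpowers_le.mpr hlE) (zpowers_le.mpr heE))) ?_
        rw [hE]; norm_num
      obtain ⟨j, hj, hj'⟩ := (Nat.dvd_prime_pow Nat.prime_three).mp h1
      rw [hE]
      interval_cases j
      · exfalso
        have := Subgroup.card_dvd_of_le (le_sup_left : zpowers l ≤ zpowers l ⊔ zpowers e)
        rw [hj', Nat.card_zpowers, hlo] at this
        norm_num at this
      · exfalso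
        have heq : zpowers l = zpowers l ⊔ zpowers e := Subgroup.eq_of_le_of_card_ge le_sup_left
          (by rw [hj', Nat.card_zpowers, hlo, pow_one])
        exact hel (heq.ge (mem_sup_right (mem_zpowers e)))
      · rw [hj']; norm_num
    have hmem : v * y ∈ C := by
      have hle : zpowers l ⊔ zpowers e ≤ centralizer ({v * y} : Set G) := by
        refine sup_le (zpowers_le.mpr (mem_centralizer_singleton_iff.mpr ?_))
          (zpowers_le.mpr (mem_centralizer_singleton_iff.mpr (mul_inv_eq_iff_eq_mul.mp hv).symm))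
        refine (mul_inv_eq_iff_eq_mul.mp ?_).symm
        calc v * y * l * (v * y)⁻¹ = v * (y * l * y⁻¹) * v⁻¹ := by group
          _ = l := by rw [hyl, hvl l (mem_zpowers l)]
      rw [hgen] at hle
      exact mem_centralizer_iff.mpr fun a ha => mem_centralizer_singleton_iff.mp (hle ha)
    rw [hCE] at hmem
    have h3 : y ∈ (Q : Subgroup G) := by
      have := mul_mem (inv_mem hvQ) (hmem.2)
      rwa [inv_mul_cancel_left] at this
    exact hyE ⟨hy, h3⟩
  · -- all eight values agree
    have hld : l ∉ zpowers d := fun hcon => hdl (by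
      have : zpowers l = zpowers d := Subgroup.eq_of_le_of_card_ge (zpowers_le.mpr hcon)
        (by rw [Nat.card_zpowers, Nat.card_zpowers, hlo, hdo])
      exact this ▸ mem_zpowers d)
    obtain ⟨c, hc⟩ := D.exists_value_fun hS E hE3
    have hl4 : l * l * l = 1 := by rw [← pow_three']; exact hl3
    have hd4 : d * d * d = 1 := by rw [← pow_three']; exact hd3
    have hli : (l * l) = l⁻¹ := eq_inv_of_mul_eq_one_left hl4
    have hdi : (d * d) = d⁻¹ := eq_inv_of_mul_eq_one_left hd4
    let f : G → ℂ := (χ : G → ℂ)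
    have hconj : ∀ g a : G, f (g * a * g⁻¹) = f a := fun g a => Chars.irr_isClassFunction χ a g
    have hf_inv : ∀ a : G, f a⁻¹ = f a := fun a => (apply_inv χ a).trans (D.real a)
    have hyl2 : y * (l * l) * y⁻¹ = l * l := by
      calc y * (l * l) * y⁻¹ = (y * l * y⁻¹) * (y * l * y⁻¹) := by group
        _ = _ := by rw [hyl]
    have hwd2 : w * (d * d) * w⁻¹ = d * d := by
      calc w * (d * d) * w⁻¹ = (w * d * w⁻¹) * (w * d * w⁻¹) := by group
        _ = _ := by rw [hwd]
    have hA : f (d * l) = f d ∧ f (d * (l * l)) = f d := by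
      rcases hyd d hdE hdl with h1 | h1
      · refine ⟨h1 ▸ hconj y d, ?_⟩
        have h2 : y * (d * l) * y⁻¹ = d * (l * l) := by
          calc y * (d * l) * y⁻¹ = (y * d * y⁻¹) * (y * l * y⁻¹) := by group
            _ = _ := by rw [h1, hyl, mul_assoc]
        rw [← h2, hconj, ← h1, hconj]
      · refine ⟨?_, h1 ▸ hconj y d⟩
        have h2 : y * (d * (l * l)) * y⁻¹ = d * l := by
          calc y * (d * (l * l)) * y⁻¹ = (y * d * y⁻¹) * (y * (l * l) * y⁻¹) := by group
            _ = d * (l * l * l) * l := by rw [h1, hyl2]; group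
            _ = _ := by rw [hl4, mul_one]
        rw [← h2, hconj, ← h1, hconj]
    have hB : f (l * d) = f l := by
      rcases hwl l hlE hld with h1 | h1
      · exact h1 ▸ hconj w l
      · have h2 : w * (l * (d * d)) * w⁻¹ = l * d := by
          calc w * (l * (d * d)) * w⁻¹ = (w * l * w⁻¹) * (w * (d * d) * w⁻¹) := by group
            _ = l * (d * d * d) * d := by rw [h1, hwd2]; group
            _ = _ := by rw [hd4, mul_one]
        rw [← h2, hconj, ← h1, hconj]
    have hld' : f l = f d := by rw [← hB, hcm l hlE d hdE, hA.1]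
    obtain ⟨m, hm⟩ := exists_fixed_mult χ E
    have hall : ∀ a : E, (a : G) ≠ 1 → f a = f d := by
      intro a ha1
      have hspan : (a : G) ∈ ((zpowers l : Set G) * (zpowers d : Set G)) := by
        rw [← Subgroup.coe_mul_of_right_le_normalizer_left (zpowers l) _ (by
          refine le_trans ?_ (Subgroup.centralizer_le_normalizer _)
          rw [zpowers_le, mem_centralizer_iff]
          exact fun b hb => hcm b (zpowers_le.mpr hlE hb) d hdE)]
        have hsup : zpowers l ⊔ zpowers d = E := by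
          refine Subgroup.eq_of_le_of_card_ge (sup_le (zpowers_le.mpr hlE) (zpowers_le.mpr hdE)) ?_
          have h1 : Nat.card (zpowers l ⊔ zpowers d : Subgroup G) ∣ 3 ^ 2 := by
            refine dvd_trans (Subgroup.card_dvd_of_le (sup_le (zpowers_le.mpr hlE) (zpowers_le.mpr hdE))) ?_
            rw [hE]; norm_num
          obtain ⟨j, hj, hj'⟩ := (Nat.dvd_prime_pow Nat.prime_three).mp h1
          rw [hE]
          interval_cases j
          · exfalso
            have := Subgroup.card_dvd_of_le (le_sup_left : zpowers l ≤ zpowers l ⊔ zpowers d)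
            rw [hj', Nat.card_zpowers, hlo] at this
            norm_num at this
          · exfalso
            have heq : zpowers l = zpowers l ⊔ zpowers d := Subgroup.eq_of_le_of_card_ge le_sup_left
              (by rw [hj', Nat.card_zpowers, hlo, pow_one])
            exact hdl (heq.ge (mem_sup_right (mem_zpowers d)))
          · rw [hj']; norm_num
        rw [hsup]; exact a.2
      obtain ⟨b, hb, e, he, hbe⟩ := Set.mem_mul.mp hspan
      rw [← hbe] at ha1 ⊢
      rcases mem_cases hl3 hb with eb | eb | eb <;> rcases mem_cases hd3 he with ee | ee | ee <;>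
        rw [eb, ee] at ha1 ⊢
      · exact absurd (one_mul _) ha1
      · rw [one_mul]
      · rw [one_mul, hdi, hf_inv]
      · rw [mul_one, hld']
      · rw [hcm l hlE d hdE, hA.1]
      · rw [hdi, show l * d⁻¹ = (d * (l * l))⁻¹ by rw [hli, mul_inv_rev, inv_inv], hf_inv, hA.2]
      · rw [mul_one, hli, hf_inv, hld']
      · rw [hcm _ (mul_mem hlE hlE) d hdE, hA.2]
      · rw [show l * l * (d * d) = (d * l)⁻¹ by rw [mul_inv_rev, hli, hdi], hf_inv, hA.1]
    obtain ⟨e0, he0, hv0⟩ := D.value hdo
    rw [← Finset.add_sum_erase _ _ (mem_univ (1 : E)), sum_congr rfl (g := fun _ => (e0 : ℂ)) (fun a ha =>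
      (hall a fun e => (mem_erase.mp ha).1 (Subtype.ext e)).trans hv0), sum_const, card_erase_of_mem (mem_univ _),
      Finset.card_univ, ← Nat.card_eq_fintype_card, hE, OneMemClass.coe_one, apply_one_eq_degOf,
      D.block.deg₁, nsmul_eq_mul] at hm
    have : (6 : ℤ) + 8 * e0 = 9 * (m : ℤ) := by exact_mod_cast hm
    rcases he0 with rfl | rfl | rfl <;> omega

/-- There are 28 Sylow 3-subgroups. -/
theorem Data.card_sylow (D : Data x χ ψ θ₁ θ₂) (hS : Spec G) (h : Nat.card G = 6048) :
    Nat.card (Sylow 3 G) = 28 := by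
  classical
  haveI : Fact (Nat.Prime 3) := ⟨Nat.prime_three⟩
  have hG := not_comm_6048 h
  obtain ⟨P⟩ := (inferInstance : Nonempty (Sylow 3 G))
  have hP := card_three h P
  set N := normalizer ((P : Subgroup G) : Set G) with hN
  have hmul : Nat.card N * Nat.card (Sylow 3 G) = 6048 := h ▸ SmallGroups.card_normalizer_sylow_mul P
  have h27 : 27 ∣ Nat.card N := hP ▸ Subgroup.card_dvd_of_le le_normalizer
  have hdvd : Nat.card (Sylow 3 G) ∣ 224 := by
    obtain ⟨k, hk⟩ := h27
    exact ⟨k, Nat.eq_of_mul_eq_mul_left (by norm_num : 0 < 27) (by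
      rw [show 27 * 224 = 6048 by norm_num, ← hmul, hk]; ring)⟩
  have hmod : Nat.card (Sylow 3 G) % 3 = 1 := card_sylow_modEq_one (p := 3) (G := G)
  have hone := SmallGroups.card_sylow_ne_one hG 3 (by rw [h]; norm_num)
  have hfac := SmallGroups.two_mul_card_dvd_factorial_card_sylow hG (p := 3) (by rw [h]; norm_num)
  rw [h] at hfac
  have hmem : Nat.card (Sylow 3 G) ∈ (224 : ℕ).divisors := Nat.mem_divisors.mpr ⟨hdvd, by norm_num⟩
  have hlist : Nat.card (Sylow 3 G) = 4 ∨ Nat.card (Sylow 3 G) = 7 ∨ Nat.card (Sylow 3 G) = 16 ∨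
      Nat.card (Sylow 3 G) = 28 ∨ Nat.card (Sylow 3 G) = 112 := by
    have : ∀ n ∈ (224 : ℕ).divisors, n % 3 = 1 → n ≠ 1 → n = 4 ∨ n = 7 ∨ n = 16 ∨ n = 28 ∨ n = 112 := by
      decide +kernel
    exact this _ hmem hmod hone
  rcases hlist with e | e | e | e | e
  · rw [e] at hfac; norm_num [Nat.factorial] at hfac
  · rw [e] at hfac; norm_num [Nat.factorial] at hfac
  · exfalso
    rw [e] at hmul
    haveI : Fact (Nat.Prime 7) := ⟨by norm_num⟩
    have hN7 : 7 ∣ Nat.card N := by omega
    obtain ⟨⟨y, hy⟩, hyo⟩ := exists_prime_orderOf_dvd_card' 7 hN7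
    rw [Subgroup.orderOf_mk] at hyo
    let φ : zpowers y →* MulAut (P : Subgroup G) :=
      ((P : Subgroup G).normalizerMonoidHom).comp (Subgroup.inclusion (zpowers_le.mpr hy))
    letI act : MulAction (zpowers y) (P : Subgroup G) :=
      MulAction.compHom _ φ
    have hp7 : IsPGroup 7 (zpowers y) := IsPGroup.of_card (n := 1) (by rw [Nat.card_zpowers, hyo, pow_one])
    have hm := hp7.card_modEq_card_fixedPoints (P : Subgroup G)
    rw [hP] at hm
    obtain ⟨a, ha, ha1⟩ : ∃ a ∈ MulAction.fixedPoints (zpowers y) (P : Subgroup G), a ≠ 1 := by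
      by_contra hcon
      push Not at hcon
      have h1 : Nat.card (MulAction.fixedPoints (zpowers y) (P : Subgroup G)) ≤ 1 :=
        Finite.card_le_one_iff_subsingleton.mpr ⟨fun a b => Subtype.ext ((hcon a a.2).trans (hcon b b.2).symm)⟩
      unfold Nat.ModEq at hm
      omega
    have hfix : y * (a : G) * y⁻¹ = a := by
      have h1 : φ ⟨y, mem_zpowers y⟩ a = a := ha ⟨y, mem_zpowers y⟩
      exact congrArg Subtype.val h1
    exact not_commute_seven_three hS hyo (hS.orderOf_three P.2 a.2 fun h1 => ha1 (Subtype.ext h1))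
      (mul_inv_eq_iff_eq_mul.mp hfix)
  · exact e
  · exfalso
    -- orbits of P on the other Sylow subgroups have length 9 or 27
    let X := {Q : Sylow 3 G // Q ≠ P}
    letI act : MulAction (P : Subgroup G) X :=
      { smul := fun a Q => ⟨(a : G) • Q.1, fun hcon => Q.2 (by
          have h1 : (a : G)⁻¹ • (a : G) • Q.1 = (a : G)⁻¹ • P := by rw [hcon]
          rw [inv_smul_smul] at h1
          rw [h1, Sylow.smul_eq_iff_mem_normalizer]
          exact le_normalizer (inv_mem a.2))⟩
        one_smul := fun Q => Subtype.ext (one_smul G Q.1)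
        mul_smul := fun a b Q => Subtype.ext (mul_smul (a : G) (b : G) Q.1) }
    have hstab : ∀ Q : X, Nat.card (MulAction.stabilizer (P : Subgroup G) Q) ∣ 3 := by
      intro Q
      set S0 := MulAction.stabilizer (P : Subgroup G) Q
      have hle : S0.map (P : Subgroup G).subtype ≤ (P : Subgroup G) ⊓ Q.1 := by
        rintro _ ⟨a, ha, rfl⟩
        refine ⟨a.2, ?_⟩
        have h1 : (a : G) ∈ normalizer ((Q.1 : Subgroup G) : Set G) :=
          (Sylow.smul_eq_iff_mem_normalizer).mp (congrArg Subtype.val ha)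
        have h3 : IsPGroup 3 (zpowers (a : G)) := P.2.to_le (zpowers_le.mpr a.2)
        have h4 : IsPGroup 3 ((Q.1 : Subgroup G) ⊔ zpowers (a : G) : Subgroup G) :=
          IsPGroup.to_sup_of_normal_left' Q.1.2 h3 (zpowers_le.mpr h1)
        have h5 := Q.1.3 h4 le_sup_left
        exact h5.le (mem_sup_right (mem_zpowers _))
      have hd : Nat.card S0 ∣ Nat.card ((P : Subgroup G) ⊓ Q.1 : Subgroup G) := by
        rw [Nat.card_congr (S0.equivMapOfInjective _ (P : Subgroup G).subtype_injective).toEquiv]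
        exact Subgroup.card_dvd_of_le hle
      refine hd.trans ?_
      have h1 : Nat.card ((P : Subgroup G) ⊓ Q.1 : Subgroup G) ∣ 3 ^ 3 :=
        (Subgroup.card_dvd_of_le inf_le_left).trans (by rw [hP]; norm_num)
      obtain ⟨j, hj, hj'⟩ := (Nat.dvd_prime_pow Nat.prime_three).mp h1
      have hne9 := D.card_inter_ne_nine hS h (Ne.symm Q.2)
      rw [hj'] at hne9 ⊢
      interval_cases j
      · norm_num
      · norm_num
      · norm_num at hne9
      · exfalso
        have h2 : ((P : Subgroup G) ⊓ Q.1 : Subgroup G) = P :=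
          Subgroup.eq_of_le_of_card_ge inf_le_left (by rw [hj', hP]; norm_num)
        have h3 : (P : Subgroup G) ≤ Q.1 := inf_eq_left.mp h2
        exact Q.2 (Sylow.ext (P.3 Q.1.2 h3))
    have h9 : 9 ∣ Nat.card X := by
      haveI : Fintype (Quotient (MulAction.orbitRel (P : Subgroup G) X)) := Fintype.ofFinite _
      rw [Nat.card_congr (MulAction.selfEquivSigmaOrbits (P : Subgroup G) X), Nat.card_sigma]
      refine Finset.dvd_sum fun o _ => ?_
      have h1 := MulAction.card_orbit_mul_card_stabilizer_eq_card_group (P : Subgroup G) o.out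
      rw [← Nat.card_eq_fintype_card, ← Nat.card_eq_fintype_card, ← Nat.card_eq_fintype_card, hP] at h1
      rcases (Nat.dvd_prime Nat.prime_three).mp (hstab o.out) with e' | e' <;> rw [e'] at h1 <;>
        omega
    have hX : Nat.card X = 111 := by
      have h1 : Nat.card X + 1 = Nat.card (Sylow 3 G) := by
        rw [← Finite.card_option, Nat.card_congr (Equiv.optionSubtypeNe P)]
      omega
    omega

/-- The conjugation action on the Sylow 3-subgroups is doubly transitive; involutions fix four. -/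
theorem Data.transitive (D : Data x χ ψ θ₁ θ₂) (hS : Spec G) (h : Nat.card G = 6048) :
    MulAction.IsMultiplyPretransitive G (Sylow 3 G) 2 ∧
      ∀ t : G, orderOf t = 2 → Nat.card (MulAction.fixedBy (Sylow 3 G) t) = 4 := by
  classical
  haveI : Fact (Nat.Prime 3) := ⟨Nat.prime_three⟩
  haveI : Fact (Nat.Prime 7) := ⟨by norm_num⟩
  have hn := D.card_sylow hS h
  haveI : Nontrivial (Sylow 3 G) := Finite.one_lt_card_iff_nontrivial.mp (by rw [hn]; norm_num)
  obtain ⟨P⟩ := (inferInstance : Nonempty (Sylow 3 G))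
  have hP := card_three h P
  set σ : G → ℂ := fun g => Chars.permChar (Sylow 3 G) g - 1 with hσdef
  have hσ : IsCharacter G σ := Chars.isCharacter_permChar_sub_one (Sylow 3 G)
  choose m hm using fun η : IrrCharacter G => Chars.isCharacter_classInner_nat hσ (Chars.irr_isCharacter η)
  -- no constituent of degree six
  have hm1 : m χ = 0 := by
    haveI : Fintype (MulAction.stabilizer G P) := Fintype.ofFinite _
    haveI : Fintype (P : Subgroup G) := Fintype.ofFinite _
    obtain ⟨a, ha⟩ := exists_fixed_mult χ (MulAction.stabilizer G P)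
    have hle : (P : Subgroup G) ≤ MulAction.stabilizer G P := fun g hg =>
      MulAction.mem_stabilizer_iff.mpr (Sylow.smul_eq_iff_mem_normalizer.mpr (le_normalizer hg))
    have ha0 : a = 0 := Nat.le_zero.mp (fixed_mult_mono χ hle (a := 0)
      (by rw [D.sum_three hS h P, Nat.cast_zero, mul_zero]) ha)
    have h1 := classInner_permChar χ P ha
    have h2 := hm χ
    rw [hσdef, show (fun g => Chars.permChar (Sylow 3 G) g - 1) =
      Chars.permChar (Sylow 3 G) - (Chars.trivialIrr G : G → ℂ) from rfl, Chars.classInner_sub_left, h1,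
      Chars.classInner_irr_of_ne D.block.ne₁.symm, ha0, Nat.cast_zero, sub_zero] at h2
    exact_mod_cast h2.symm
  have hm0 : m (Chars.trivialIrr G) = 0 := by
    have h2 := hm (Chars.trivialIrr G)
    have h1 : classInner (Chars.permChar (G := G) (Sylow 3 G)) (Chars.trivialIrr G : G → ℂ) = 1 := by
      show classInner (Chars.permChar (G := G) (Sylow 3 G)) (fun _ => 1) = 1
      rw [Chars.classInner_permChar_one, Chars.card_orbits_eq_one, Nat.cast_one]
    rw [hσdef, show (fun g => Chars.permChar (Sylow 3 G) g - 1) =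
      Chars.permChar (Sylow 3 G) - (Chars.trivialIrr G : G → ℂ) from rfl, Chars.classInner_sub_left, h1,
      Chars.classInner_irr_self, sub_self] at h2
    exact_mod_cast h2.symm
  have hdec : ∀ g : G, σ g = ∑ η : IrrCharacter G, (m η : ℂ) * (η : G → ℂ) g := by
    intro g
    have h3 := congrFun (Chars.isCharacter_eq_sum_classInner hσ) g
    rw [h3, Finset.sum_apply]
    exact sum_congr rfl fun η _ => by rw [Pi.smul_apply, smul_eq_mul, hm]
  -- degrees
  have hdeg : ∑ η : IrrCharacter G, m η * degOf η = 27 := by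
    have h1 := hdec 1
    have h2 : σ 1 = 27 := by
      show Chars.permChar (Sylow 3 G) 1 - 1 = 27
      rw [Chars.permChar, show MulAction.fixedBy (Sylow 3 G) (1 : G) = Set.univ from
        Set.eq_univ_of_forall fun Q => one_smul G Q, Nat.card_congr (Equiv.Set.univ _), hn]
      norm_num
    rw [h2] at h1
    simp only [apply_one_eq_degOf] at h1
    exact_mod_cast h1.symm
  set S : Finset (IrrCharacter G) := {Chars.trivialIrr G, χ, ψ, θ₁, θ₂} with hSdef
  rw [← sum_sdiff (subset_univ S)] at hdeg
  obtain ⟨r, hr⟩ : 7 ∣ ∑ η ∈ univ \ S, m η * degOf η := by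
    refine Finset.dvd_sum fun η hη => Dvd.dvd.mul_left ?_ _
    simp only [hSdef, mem_sdiff, mem_insert, mem_singleton, not_or] at hη
    obtain ⟨-, a0, a1, a2, a3, a4⟩ := hη
    exact D.block.dvd_degOf a0 a1 a2 a3 a4
  rw [hr, hSdef, sum_insert (by simp [D.block.ne₁.symm, D.block.ne₂.symm, D.block.ne₃.symm, D.block.ne₄.symm]),
    sum_insert (by simp [D.block.ne₁₂, D.block.ne₁₃, D.block.ne₁₄]), sum_insert (by simp [D.block.ne₂₃, D.block.ne₂₄]),
    sum_pair D.block.ne₃₄, hm0, hm1, D.block.deg₂, D.block.deg₃, D.block.deg₄] at hdeg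
  have hθ : m θ₁ = 0 ∧ m θ₂ = 0 := by omega
  -- at x
  have hx7 := D.block.order_x
  have hxval := hdec x
  have hσx : σ x = -1 := by
    have hfix : MulAction.fixedBy (Sylow 3 G) x = ∅ := by
      refine Set.eq_empty_of_forall_notMem fun Q hQ => ?_
      have h1 : x ∈ normalizer ((Q : Subgroup G) : Set G) := Sylow.smul_eq_iff_mem_normalizer.mp hQ
      have h2 := Subgroup.orderOf_dvd_natCard _ h1
      have h3 := SmallGroups.card_normalizer_sylow_mul Q
      rw [hn, h] at h3
      rw [hx7] at h2
      omega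
    show Chars.permChar (Sylow 3 G) x - 1 = -1
    rw [Chars.permChar, hfix, Nat.card_of_isEmpty, Nat.cast_zero, zero_sub]
  rw [hσx, D.block.sum_five _ (fun η hη => by
    simp only [mem_insert, mem_singleton, not_or] at hη
    obtain ⟨a0, a1, a2, a3, a4⟩ := hη
    rw [← xp_one (p := 7) (x := x), D.block.rest η a0 a1 a2 a3 a4 1 one_ne_zero, mul_zero]), hm0, hm1,
    hθ.1, hθ.2, D.block.val₂] at hxval
  simp only [Nat.cast_zero, zero_mul, zero_add, add_zero, show sgn 27 = -1 from rfl, Int.cast_neg,
    Int.cast_one, mul_neg, mul_one] at hxval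
  have hm2 : m ψ = 1 := by exact_mod_cast (neg_injective hxval).symm
  rw [hθ.1, hθ.2, hm2] at hdeg
  have hzero : ∀ η : IrrCharacter G, η ≠ ψ → m η = 0 := by
    intro η hη
    by_cases hmem : η ∈ S
    · simp only [hSdef, mem_insert, mem_singleton] at hmem
      rcases hmem with rfl | rfl | rfl | rfl | rfl
      exacts [hm0, hm1, absurd rfl hη, hθ.1, hθ.2]
    · have h1 : m η * degOf η = 0 := by
        have hs : ∑ η ∈ univ \ S, m η * degOf η = 0 := by omega
        exact (Finset.sum_eq_zero_iff.mp hs) η (mem_sdiff.mpr ⟨mem_univ _, hmem⟩)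
      exact (Nat.mul_eq_zero.mp h1).resolve_right (degOf_pos η).ne'
  have hσψ : σ = (ψ : G → ℂ) := funext fun g => by
    rw [hdec g, Finset.sum_eq_single ψ (fun η _ hη => by rw [hzero η hη, Nat.cast_zero, zero_mul])
      (fun hh => absurd (mem_univ _) hh), hm2, Nat.cast_one, one_mul]
  refine ⟨(Chars.isIrrCharacter_permChar_sub_one_iff (Sylow 3 G)).mp (show IsIrrCharacter G σ by rw [hσψ]; exact ψ.2), fun t ht => ?_⟩
  have h1 := congrFun hσψ t
  rw [(D.inv t ht).2.1] at h1
  have h2 : (Nat.card (MulAction.fixedBy (Sylow 3 G) t) : ℂ) = ((4 : ℕ) : ℂ) := by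
    have h3 : Chars.permChar (Sylow 3 G) t - 1 = 3 := h1
    push_cast
    rw [show (4 : ℂ) = 3 + 1 by norm_num, ← h3, sub_add_cancel]
    rfl
  exact_mod_cast h2

end Cfsg.Agent.Lib.SpecG2Two
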