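import Mathlib.Data.List.Basic

/-!
Computations with the permutation model of `G₂(2)` on twenty-eight points: a permutation is stored as
a number with five binary digits for each image.
-/

set_option autoImplicit false
set_option maxRecDepth 100000
set_option maxHeartbeats 0

namespace Cfsg.Agent.Lib.SpecG2Two.Table

/-- The image of `x`. -/
def dig (c x : ℕ) : ℕ := (c >>> (5 * x)) % 32

/-- The number storing the first `n` values. -/
def enc : ℕ → (ℕ → ℕ) → ℕ
  | 0, _ => 0
  | n + 1, f => f 0 % 32 + 32 * enc n (fun x => f (x + 1))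

/-- The Heisenberg product on `0, …, 26`. -/
def hm (x y : ℕ) : ℕ :=
  (x % 3 + y % 3) % 3 + 3 * ((x / 3 % 3 + y / 3 % 3) % 3) +
    9 * ((x / 9 + y / 9 + (x % 3) * (y / 3 % 3)) % 3)

/-- Inverses for the Heisenberg product. -/
def hinv (x : ℕ) : ℕ := ([0, 2, 1, 6, 17, 25, 3, 23, 13, 18, 20, 19, 24, 8, 16, 21, 14, 4, 9, 11, 10, 15, 26, 7, 12, 5, 22] : List ℕ).getD x 0

/-- Words in `1` and `3`. -/
def hwords : List (List ℕ) := [[], [1], [1, 1], [3], [3, 1], [3, 1, 1], [3, 3], [3, 3, 1], [3, 3, 1, 1], [3, 3, 1, 3, 1, 1], [3, 3, 1, 3], [3, 3, 1, 3, 1], [1, 3, 1, 1], [1, 3], [1, 3, 1], [3, 1, 3, 1, 1], [3, 1, 3], [3, 1, 3, 1], [3, 1, 3, 3, 1, 1], [3, 1, 3, 3], [3, 1, 3, 3, 1], [1, 1, 3, 1], [1, 1, 3, 1, 1], [1, 1, 3], [1, 3, 3, 1, 1], [1, 3, 3], [1, 3, 3, 1]]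

/-- Left translation, fixing the last point. -/
def mapR (a x : ℕ) : ℕ := if x = 27 then 27 else hm a x

/-- The stabilizer of two points. -/
def kCode (k : ℕ) : ℕ := ([1212501494925312236363414443023805295200288, 1185892968652384539173207443757950870881344, 1211632843977226739132285079628864308680800, 1204718316013084931998293513693317049042048, 1204277462847885483940975487804271786255520, 1208048519685197264590998104206684090633408, 1197260440246981287123667351422969641219328, 1206560515333709384975936399889428103581024, 1186123091214622797619232455554699438940544, 1189889911255220481106256148963035017912736, 1204653599160084560655131653417455312847296, 1189778007478816111017427147348749789346304, 1203770777648336323656056278533408208097824, 1207509019473041899873667271078801262718560, 1206643592300361185290058749786611003011840, 1196906450988323864462380529089135919765280] : List ℕ).getD k 0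

/-- Products in the stabilizer. -/
def mulK (a b : ℕ) : ℕ := ([0, 1, 2, 3, 4, 5, 6, 7, 8, 9, 10, 11, 12, 13, 14, 15, 1, 0, 8, 10, 9, 14, 15, 13, 2, 4, 3, 12, 11, 7, 5, 6, 2, 5, 0, 9, 15, 1, 12, 14, 13, 3, 11, 10, 6, 8, 7, 4, 3, 12, 10, 5, 0, 11, 8, 6, 4, 14, 13, 7, 2, 9, 15, 1, 4, 15, 12, 0, 8, 3, 7, 11, 6, 13, 2, 5, 1, 10, 9, 14, 5, 2, 13, 11, 3, 7, 4, 8, 0, 15, 9, 6, 10, 14, 1, 12, 6, 9, 15, 8, 7, 4, 5, 3, 11, 2, 1, 0, 14, 12, 10, 13, 7, 13, 14, 6, 11, 8, 3, 0, 5, 12, 15, 4, 9, 1, 2, 10, 8, 14, 1, 4, 6, 0, 11, 5, 7, 10, 12, 3, 15, 2, 13, 9, 9, 6, 11, 1, 2, 10, 13, 12, 15, 7, 8, 14, 0, 3, 4, 5, 10, 11, 3, 14, 1, 12, 2, 15, 9, 5, 7, 13, 8, 4, 6, 0, 11, 10, 9, 7, 5, 6, 0, 4, 3, 1, 14, 8, 13, 15, 12, 2, 12, 3, 4, 13, 14, 15, 1, 9, 10, 0, 5, 2, 7, 6, 11, 8, 13, 7, 5, 15, 12, 2, 10, 1, 14, 11, 6, 9, 4, 0, 8, 3, 14, 8, 7, 12, 10, 13, 9, 2, 1, 6, 4, 15, 3, 5, 0, 11, 15, 4, 6, 2, 13, 9, 14, 10, 12, 8, 0, 1, 5, 11, 3, 7] : List ℕ).getD (16 * a + b) 0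

/-- Inverses in the stabilizer. -/
def invK (a : ℕ) : ℕ := ([0, 1, 2, 4, 3, 8, 11, 7, 5, 12, 15, 6, 9, 13, 14, 10] : List ℕ).getD a 0

/-- Each element of the stabilizer is a power of the third times a power of the first. -/
def wordK (k : ℕ) : ℕ := ([0, 1, 5, 2, 14, 4, 10, 8, 12, 11, 7, 6, 3, 9, 13, 15] : List ℕ).getD k 0

/-- A point as an image of `1`, `7` or `9`. -/
def decK (x : ℕ) : ℕ := ([0, 1, 33, 65, 97, 129, 161, 7, 193, 9, 199, 225, 257, 289, 321, 135, 353, 385, 41, 417, 103, 359, 263, 71, 449, 481, 39] : List ℕ).getD x 0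

/-- The interchanging involution. -/
def tCode : ℕ := 28289266579702897355331392852299773239355

/-- Powers in the stabilizer. -/
def powK (a : ℕ) : ℕ → ℕ
  | 0 => 0
  | i + 1 => mulK a (powK a i)

/-- An endomorphism given on the two generators. -/
def fK (a b k : ℕ) : ℕ :=
  if wordK k % 2 = 0 then powK a (wordK k / 2) else mulK (powK a (wordK k / 2)) b

/-- The images of the three representatives. -/
def imRep (j z r : ℕ) : ℕ := if r = 7 then j else if r = 9 then z else 1

/-- The candidate determined by a quadruple. -/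
def cand (a b j z x : ℕ) : ℕ :=
  if x = 0 then 27 else if x = 27 then 0
  else dig (kCode (fK a b (decK x / 32))) (imRep j z (decK x % 32))

/-- Closure at one translation. -/
def closeAt (t a : ℕ) : Bool :=
  decide (dig t a < 27) && (List.range 27).any fun c => hm (dig t a) (dig t c) == 0 &&
    (List.range 16).any fun k => (List.range 28).all fun x =>
      dig t (mapR a (dig t x)) == mapR (dig t a) (dig t (mapR c (dig (kCode k) x)))

/-- Closure at all translations. -/
def closeOK (t : ℕ) : Bool := (List.range' 1 26).all fun a => closeAt t a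

/-- Points with a non-trivial stabilizer. -/
def special : List ℕ := [7, 10, 15, 20, 21, 22, 23, 26, 9, 18]

theorem searchOK : ((List.range 16).all fun a => (List.range 16).all fun b => special.all fun j =>
    ([9, 18] : List ℕ).all fun z =>
      !closeOK (enc 28 (cand a b j z)) || enc 28 (cand a b j z) == tCode) = true := by
  decide +kernel

/-- Iterated images. -/
def iter (c : ℕ) : ℕ → ℕ → ℕ
  | 0, x => x
  | n + 1, x => dig c (iter c n x)

/-- The order divides 24 or 7. -/
def smallOrder (c : ℕ) : Bool :=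
  ((List.range 28).all fun x => iter c 7 x == x) || (List.range 28).all fun x => iter c 24 x == x

/-- The representatives fixing the last point. -/
def repA (d k x : ℕ) : ℕ := mapR d (dig (kCode k) x)

/-- The other representatives. -/
def repB (d k x : ℕ) : ℕ := dig tCode (repA d k x)

theorem orderOK : ((List.range 27).all fun d => (List.range 16).all fun k =>
    smallOrder (enc 28 (repA d k)) && smallOrder (enc 28 (repB d k))) = true := by
  decide +kernel

theorem mulRR : ((List.range 27).all fun a => (List.range 27).all fun b => decide (hm a b < 27) &&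
    (List.range 28).all fun x => mapR a (mapR b x) == mapR (hm a b) x) = true := by decide +kernel

theorem invR : ((List.range 27).all fun a => decide (hinv a < 27) && (List.range 28).all fun x =>
    mapR (hinv a) (mapR a x) == x && mapR a (mapR (hinv a) x) == x && decide (mapR a x < 28)) = true := by
  decide +kernel

theorem mulKK : ((List.range 16).all fun a => (List.range 16).all fun b => decide (mulK a b < 16) &&
    (List.range 28).all fun x => dig (kCode a) (dig (kCode b) x) == dig (kCode (mulK a b)) x) = true := by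
  decide +kernel

theorem invKK : ((List.range 16).all fun a => decide (invK a < 16) && mulK (invK a) a == 0 &&
    mulK a (invK a) == 0 && (List.range 28).all fun x => decide (dig (kCode a) x < 28)) = true := by
  decide +kernel

theorem mulKR : ((List.range 16).all fun k => (List.range 27).all fun c =>
    decide (dig (kCode k) c < 27) && (List.range 28).all fun x =>
      dig (kCode k) (mapR c x) == mapR (dig (kCode k) c) (dig (kCode k) x)) = true := by decide +kernel

theorem wordsOK : ((List.range 16).all fun k => decide (wordK k < 16) && fK 3 1 k == k) = true := by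
  decide +kernel

theorem decOK : ((List.range' 1 26).all fun x => decide (decK x / 32 < 16) &&
    [1, 7, 9].contains (decK x % 32) && dig (kCode (decK x / 32)) (decK x % 32) == x) = true := by
  decide +kernel

theorem hwordsOK : ((List.range 27).all fun c =>
    (hwords.getD c []).all (fun g => g == 1 || g == 3) && (hwords.getD c []).foldr hm 0 == c) = true := by
  decide +kernel

end Cfsg.Agent.Lib.SpecG2Two.Table
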