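import Cfsg.Agent.Lib.SpecG2Two.Table

/-!
Small facts about the permutation model of `G₂(2)`: fixed points of the stabilizer of two points.
-/

set_option autoImplicit false
set_option maxRecDepth 100000
set_option maxHeartbeats 0

namespace Cfsg.Agent.Lib.SpecG2Two.Table

theorem baseOK : ((List.range 28).all fun x => mapR 0 x == x && dig (kCode 0) x == x &&
    decide (dig tCode x < 28) && dig tCode (dig tCode x) == x) = true := by decide +kernel

theorem orbitOK : ((List.range 16).all fun k => (List.range 16).all fun l =>
    !(dig (kCode k) 1 == dig (kCode l) 1) || k == l) = true := by decide +kernel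

theorem fixOK : ((List.range 16).all fun k => dig (kCode k) 0 == 0 && dig (kCode k) 27 == 27) = true := by
  decide +kernel

theorem freeOK : ((List.range' 1 26).all fun x => ((List.range 16).any fun k => dig (kCode k) 1 == x) ||
    (List.range' 1 15).any fun k => dig (kCode k) x == x) = true := by decide +kernel

theorem oneFixed : ((List.range' 1 26).all fun x => (List.range' 1 15).all fun k =>
    !(dig (kCode k) x == x) || special.contains x) = true := by decide +kernel

theorem twoFixed : ((List.range' 1 26).all fun x => (List.range' 1 15).all fun k =>
    (List.range' 1 15).all fun l => !(dig (kCode k) x == x && dig (kCode l) x == x && !(k == l)) ||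
      [9, 18].contains x) = true := by decide +kernel

theorem sevenFixed : ((List.range' 1 15).any fun k => dig (kCode k) 7 == 7) = true := by decide +kernel

theorem nineFixed : ((List.range' 1 15).any fun k => (List.range' 1 15).any fun l =>
    dig (kCode k) 9 == 9 && dig (kCode l) 9 == 9 && !(k == l)) = true := by decide +kernel

end Cfsg.Agent.Lib.SpecG2Two.Table
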